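import Groth.Agent.Jac.K914.HField
import Groth.Agent.JacVar.K532.Fine
import Groth.Agent.Sga7.H780.JK

/-!
# Coarse moduli of line bundles of degree `d` on a curve with a rational point

Let `(J₀, ξ₀)` be the Jacobian (`IsJac f σ hσ J₀ ξ₀`) and `(J, ψ)` a coarse moduli scheme for `ModFun.PicDeg f d`.
* `exists_iso`: `J ≅ J₀`, through the twist by `O(dσ)`.
* `exists_univ`: `J` is a fine moduli scheme.
* `exists_isJac`: the Jacobian exists.
-/

set_option autoImplicit false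
universe u
open CategoryTheory CategoryTheory.Limits AlgebraicGeometry Opposite TopologicalSpace MonoidalCategory
open CartesianMonoidalCategory

namespace K914.Fine

open Groth.Agent Groth.Agent.Grpsch Groth.Agent.Grpsch.PicGrp Groth.Agent.Fga.RigGrp Groth.Agent.Fga.JacSum
open Groth.Agent.Fga.JacAlg Groth.Agent.Picfga.ChiDef Groth.Agent.Fga.JacSurj Groth.Agent.Sga7.H732.Hedge
open K914.Curve K914.Cls K914.Points K914.HField

section deg

variable {k : Type u} [Field k] {X : Scheme.{u}} {f : X ⟶ Spec (CommRingCat.of k)}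
  [IsProper f] [Smooth f] [GeometricallyConnected f] [SmoothOfRelativeDimension 1 f]

omit [IsProper f] [Smooth f] [GeometricallyConnected f] [SmoothOfRelativeDimension 1 f] in
theorem isDeg_iff_dK {d : ℤ} {T : Over (Spec (CommRingCat.of k))} {c : Pic (PicF.XT f T)} :
    IsDeg f d c ↔ ∀ τ : T.left, dK f (fsr T.left τ ≫ T.hom) (pull (PicF.XTmap f (ofHom T (fsr T.left τ))) c) = d := by
  refine forall_congr' fun τ => ?_
  rw [chiAt, chiPt, chiAt, chiPt, map_one, dK, sub_eq_iff_eq_add']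

theorem _root_.K914.Cls.IsDeg.mul {a b : ℤ} {T : Over (Spec (CommRingCat.of k))} {c c' : Pic (PicF.XT f T)}
    (hc : IsDeg f a c) (hc' : IsDeg f b c') : IsDeg f (a + b) (c * c') := by
  rw [isDeg_iff_dK] at *
  intro τ
  rw [map_mul, dK_mul, hc, hc']

theorem _root_.K914.Cls.IsDeg.inv {a : ℤ} {T : Over (Spec (CommRingCat.of k))} {c : Pic (PicF.XT f T)}
    (hc : IsDeg f a c) : IsDeg f (-a) c⁻¹ := by
  rw [isDeg_iff_dK] at *
  intro τ
  rw [map_inv, dK_inv, hc]

omit [IsProper f] [Smooth f] [GeometricallyConnected f] [SmoothOfRelativeDimension 1 f] in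
theorem isDeg_one {T : Over (Spec (CommRingCat.of k))} : IsDeg f 0 (1 : Pic (PicF.XT f T)) := by
  intro τ
  rw [add_zero]

theorem _root_.K914.Cls.IsDeg.pow {a : ℤ} {T : Over (Spec (CommRingCat.of k))} {c : Pic (PicF.XT f T)}
    (hc : IsDeg f a c) (n : ℕ) : IsDeg f (n * a) (c ^ n) := by
  induction n with
  | zero => simpa using isDeg_one
  | succ n ih =>
    rw [pow_succ, Nat.cast_succ, add_mul, one_mul]
    exact ih.mul hc

theorem _root_.K914.Cls.IsDeg.zpow {a : ℤ} {T : Over (Spec (CommRingCat.of k))} {c : Pic (PicF.XT f T)}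
    (hc : IsDeg f a c) (n : ℤ) : IsDeg f (n * a) (c ^ n) := by
  obtain ⟨m, rfl | rfl⟩ := n.eq_nat_or_neg
  · rw [zpow_natCast]
    exact hc.pow m
  · rw [zpow_neg, zpow_natCast, neg_mul]
    exact (hc.pow m).inv

theorem isDeg_gcl {T : Over (Spec (CommRingCat.of k))} (x : Pt f T) : IsDeg f (-1) (gcl f x) := by
  rw [isDeg_iff_dK]
  intro τ
  rw [pull_gcl, dK_gcl]

omit [IsProper f] [Smooth f] [GeometricallyConnected f] [SmoothOfRelativeDimension 1 f] in
theorem _root_.K914.Cls.IsDeg.congr {a b : ℤ} {T : Over (Spec (CommRingCat.of k))} {c c' : Pic (PicF.XT f T)}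
    (hc : IsDeg f a c) (hab : a = b) (h : c = c') : IsDeg f b c' := hab ▸ h ▸ hc

end deg

section tw

variable {k : Type u} [Field k] {X : Scheme.{u}} (f : X ⟶ Spec (CommRingCat.of k))
  [IsProper f] [Smooth f] [GeometricallyConnected f] [SmoothOfRelativeDimension 1 f]
  {σ : Spec (CommRingCat.of k) ⟶ X} (hσ : σ ≫ f = 𝟙 (Spec (CommRingCat.of k)))

/-- The class of `O(d σ)`. -/
noncomputable def tw (d : ℤ) (T : Over (Spec (CommRingCat.of k))) : Pic (PicF.XT f T) :=
  (gcl f (Pt.ofSection hσ T))⁻¹ ^ d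

omit [Smooth f] [GeometricallyConnected f] in
theorem pull_tw (d : ℤ) {T T' : Over (Spec (CommRingCat.of k))} (g : T' ⟶ T) :
    pull (PicF.XTmap f g) (tw f hσ d T) = tw f hσ d T' := by
  rw [tw, tw, map_zpow, map_inv, pull_gcl, Pt.ofSection_comp]

theorem isDeg_tw (d : ℤ) (T : Over (Spec (CommRingCat.of k))) : IsDeg f d (tw f hσ d T) :=
  ((isDeg_gcl (Pt.ofSection hσ T)).inv.zpow d).congr (by ring) rfl

end tw

section norm

variable {k : Type u} [Field k] {X : Scheme.{u}} {f : X ⟶ Spec (CommRingCat.of k)}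
  [IsProper f] [Smooth f] [GeometricallyConnected f] [SmoothOfRelativeDimension 1 f]
  {σ : Spec (CommRingCat.of k) ⟶ X} {hσ : σ ≫ f = 𝟙 (Spec (CommRingCat.of k))}

omit [IsProper f] [Smooth f] [GeometricallyConnected f] [SmoothOfRelativeDimension 1 f] in
theorem norm_eq_iff {T : Over (Spec (CommRingCat.of k))} {c c' : Pic (PicF.XT f T)} :
    norm f σ hσ T c = norm f σ hσ T c' ↔ ∃ m : Pic T.left, c' = c * pull (PicF.XTproj f T) m := by
  constructor
  · intro h
    refine ⟨pull (PicF.secT f σ hσ T) (c' / c), ?_⟩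
    have h3 : norm f σ hσ T (c' / c) = 1 := by rw [map_div, h, div_self']
    rw [norm_apply, div_eq_one] at h3
    rw [← h3, mul_div_cancel]
  · rintro ⟨m, rfl⟩
    rw [map_mul, norm_pull_XTproj, mul_one]

omit [IsProper f] [Smooth f] [GeometricallyConnected f] [SmoothOfRelativeDimension 1 f] in
theorem norm_mul_norm {T : Over (Spec (CommRingCat.of k))} (c c' : Pic (PicF.XT f T)) :
    norm f σ hσ T (norm f σ hσ T c * c') = norm f σ hσ T (c * c') := by
  rw [map_mul, norm_of_mem _ _ _ (norm_mem f σ hσ T c), map_mul]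

omit [IsProper f] [Smooth f] [GeometricallyConnected f] [SmoothOfRelativeDimension 1 f] in
theorem isDeg_norm {d : ℤ} {T : Over (Spec (CommRingCat.of k))} {c : Pic (PicF.XT f T)} (hc : IsDeg f d c) :
    IsDeg f d (norm f σ hσ T c) := by
  intro τ
  rw [K532.Fine.chiAt_norm, hc]

end norm

section main

variable {k : Type u} [Field k] {X : Scheme.{u}} {f : X ⟶ Spec (CommRingCat.of k)}
  [IsProper f] [Smooth f] [GeometricallyConnected f] [SmoothOfRelativeDimension 1 f]
  {σ : Spec (CommRingCat.of k) ⟶ X} {hσ : σ ≫ f = 𝟙 (Spec (CommRingCat.of k))}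
  {J₀ : Over (Spec (CommRingCat.of k))} [GrpObj J₀] {ξ₀ : Pic (PicF.XT f J₀)} (h₀ : IsJac f σ hσ J₀ ξ₀) (d : ℤ)

omit [Smooth f] [GeometricallyConnected f] [SmoothOfRelativeDimension 1 f] in
theorem deg_iff {T : Over (Spec (CommRingCat.of k))} {c : Pic (PicF.XT f T)} :
    FGA.HasFibreDegreeZeroCl f T (toCl c) ↔ IsDeg f 0 c := by
  rw [Sga7.H732.Abel.deg_iff]
  simp only [IsDeg, add_zero]

include h₀ in
theorem exists_classify {T : Over (Spec (CommRingCat.of k))} {c : Pic (PicF.XT f T)} (hc : IsDeg f d c) :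
    ∃! g : T ⟶ J₀, pull (PicF.XTmap f g) ξ₀ = norm f σ hσ T (c * tw f hσ (-d) T) := by
  refine h₀.univ T _ (norm_mem f σ hσ T _) (deg_iff.2 (isDeg_norm ((hc.mul (isDeg_tw f hσ (-d) T)).congr ?_ rfl)))
  ring

/-- The morphism to `J₀` attached to a class of degree `d`. -/
noncomputable def classify {T : Over (Spec (CommRingCat.of k))} (c : Pic (PicF.XT f T)) (hc : IsDeg f d c) : T ⟶ J₀ :=
  (exists_classify h₀ d hc).choose

theorem pull_classify {T : Over (Spec (CommRingCat.of k))} (c : Pic (PicF.XT f T)) (hc : IsDeg f d c) :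
    pull (PicF.XTmap f (classify h₀ d c hc)) ξ₀ = norm f σ hσ T (c * tw f hσ (-d) T) :=
  (exists_classify h₀ d hc).choose_spec.1

omit [Smooth f] [GeometricallyConnected f] [SmoothOfRelativeDimension 1 f] in
include h₀ in
theorem hom_ext {T : Over (Spec (CommRingCat.of k))} {g g' : T ⟶ J₀}
    (h : pull (PicF.XTmap f g) ξ₀ = pull (PicF.XTmap f g') ξ₀) : g = g' :=
  Sga7.H732.Abel.cls_injective h₀ T h

/-- The classifying morphism of the problem of line bundles of degree `d`, to the Jacobian. -/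
noncomputable def psiD : (ModFun.PicDeg f d).Hom ⊤ J₀ where
  app T L _ hL := classify h₀ d (mk L (isInvertible_of_ok hL)) (isDeg_of_ok hL)
  natural := by
    intro T T' g L _ _ hL hL'
    apply hom_ext h₀
    rw [XTmap_comp, pull_comp, pull_classify, pull_classify, pull_norm]
    refine congrArg (norm f σ hσ T') ?_
    refine Eq.trans ?_ (map_mul (pull (PicF.XTmap f g)) (mk L (isInvertible_of_ok hL)) (tw f hσ (-d) T)).symm
    rw [pull_tw]
    rfl
  resp := by
    intro T L M _ hL hM ⟨N, hN, ⟨e⟩⟩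
    apply hom_ext h₀
    rw [pull_classify, pull_classify, norm_eq_iff]
    refine ⟨mk N hN, ?_⟩
    have h1 : mk M (isInvertible_of_ok hM) = mk L (isInvertible_of_ok hL) * pull (PicF.XTproj f T) (mk N hN) := by
      rw [pull_mk]
      exact (mk_congr e).trans (mk_mul_mk (isInvertible_of_ok hL) (Fdesc.LocGen.isInvertible_pullback _ hN)).symm
    rw [h1, mul_right_comm]

theorem psiCl_psiD {T : Over (Spec (CommRingCat.of k))} (c : Pic (PicF.XT f T)) (hc : IsDeg f d c) :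
    psiCl (psiD h₀ d) c hc = classify h₀ d c hc := by
  obtain ⟨L, hL, rfl⟩ := exists_mk c
  exact (app_eq (psiD h₀ d) trivial ((ok_iff hL).2 hc) _ hc rfl).symm

include h₀ in
/-- The universal class on `J₀` of degree `d`. -/
theorem isDeg_xi : IsDeg f d (ξ₀ * tw f hσ d J₀) :=
  ((deg_iff.1 h₀.deg).mul (isDeg_tw f hσ d J₀)).congr (by ring) rfl

theorem classify_xi : classify h₀ d (ξ₀ * tw f hσ d J₀) (isDeg_xi h₀ d) = 𝟙 J₀ := by
  apply hom_ext h₀
  have h1 : ξ₀ * tw f hσ d J₀ * tw f hσ (-d) J₀ = ξ₀ := by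
    rw [mul_assoc, tw, tw, ← zpow_add, add_neg_cancel, zpow_zero, mul_one]
  rw [pull_classify, XTmap_id, pull_id, h1, norm_of_mem _ _ _ h₀.mem]

/-- Every class of degree `d` is a twist of the pullback of the universal one. -/
theorem exists_eq_pull {T : Over (Spec (CommRingCat.of k))} (c : Pic (PicF.XT f T)) (hc : IsDeg f d c) :
    ∃ m : Pic T.left, c = pull (PicF.XTmap f (classify h₀ d c hc)) (ξ₀ * tw f hσ d J₀) * pull (PicF.XTproj f T) m := by
  have h1 := pull_classify h₀ d c hc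
  have h2 : norm f σ hσ T (pull (PicF.XTmap f (classify h₀ d c hc)) ξ₀) = norm f σ hσ T (c * tw f hσ (-d) T) := by
    rw [h1, norm_of_mem _ _ _ (norm_mem f σ hσ T _)]
  obtain ⟨m, hm⟩ := norm_eq_iff.1 h2
  refine ⟨m, ?_⟩
  rw [map_mul, pull_tw]
  have h3 : tw f hσ d T * tw f hσ (-d) T = 1 := by
    rw [tw, tw, ← zpow_add, add_neg_cancel, zpow_zero]
  calc c = c * tw f hσ (-d) T * tw f hσ d T := by rw [mul_assoc, mul_comm (tw f hσ (-d) T), h3, mul_one]
    _ = _ := by rw [hm, mul_right_comm]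

theorem isBestApprox : ModFun.IsBestApprox ⊤ (ModFun.PicDeg f d) J₀ (psiD h₀ d) := by
  intro N φ
  refine ⟨psiCl φ _ (isDeg_xi h₀ d), fun T L hT hL => ?_, fun g hg => ?_⟩
  · rw [app_eq' φ hT hL]
    change _ = classify h₀ d (mk L (isInvertible_of_ok hL)) (isDeg_of_ok hL) ≫ _
    rw [comp_psiCl]
    obtain ⟨m, hm⟩ := exists_eq_pull h₀ d (mk L (isInvertible_of_ok hL)) (isDeg_of_ok hL)
    exact (psiCl_mul_proj φ _ _ m _ _ hm).symm
  · obtain ⟨L, hL, h⟩ := exists_mk (ξ₀ * tw f hσ d J₀)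
    have hok : (ModFun.PicDeg f d).ok J₀ L := (ok_iff hL).2 (h ▸ isDeg_xi h₀ d)
    have h1 := hg J₀ L trivial hok
    rw [app_eq φ trivial hok _ (isDeg_xi h₀ d) h.symm, app_eq (psiD h₀ d) trivial hok _ (isDeg_xi h₀ d) h.symm,
      psiCl_psiD, classify_xi, Category.id_comp] at h1
    exact h1.symm

variable {d} {J : Over (Spec (CommRingCat.of k))} {ψ : (ModFun.PicDeg f d).Hom ⊤ J}
  (hJ : ModFun.IsCoarseModuli ⊤ (ModFun.PicDeg f d) J ψ)

include hJ

/-- A coarse moduli scheme of line bundles of degree `d` is isomorphic to the Jacobian. -/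
theorem exists_iso : ∃ e : J ≅ J₀, ∀ (T : Over (Spec (CommRingCat.of k))) (c : Pic (PicF.XT f T)) (hc : IsDeg f d c),
    psiCl ψ c hc ≫ e.hom = classify h₀ d c hc := by
  obtain ⟨a, ha, -⟩ := hJ.2.1 J₀ (psiD h₀ d)
  obtain ⟨b, hb, -⟩ := isBestApprox h₀ d J ψ
  have hab : a ≫ b = 𝟙 J := by
    obtain ⟨c, hc, huc⟩ := hJ.2.1 J ψ
    rw [huc (a ≫ b) fun T L hT hL => by rw [← Category.assoc, ← ha, ← hb],
      huc (𝟙 J) fun T L hT hL => by rw [Category.comp_id]]
  have hba : b ≫ a = 𝟙 J₀ := by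
    obtain ⟨c, hc, huc⟩ := isBestApprox h₀ d J₀ (psiD h₀ d)
    rw [huc (b ≫ a) fun T L hT hL => by rw [← Category.assoc, ← hb, ← ha],
      huc (𝟙 J₀) fun T L hT hL => by rw [Category.comp_id]]
  refine ⟨⟨a, b, hab, hba⟩, fun T c hc => ?_⟩
  obtain ⟨L, hL, rfl⟩ := exists_mk c
  rw [← psiCl_psiD, ← app_eq ψ trivial ((ok_iff hL).2 hc) _ hc rfl,
    ← app_eq (psiD h₀ d) trivial ((ok_iff hL).2 hc) _ hc rfl]
  exact (ha T L trivial _).symm

include h₀

/-- A coarse moduli scheme of line bundles of degree `d` is a fine one. -/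
theorem exists_univ : ∃ (ξ : Pic (PicF.XT f J)) (hξ : IsDeg f d ξ), psiCl ψ ξ hξ = 𝟙 J ∧
    ∀ (T : Over (Spec (CommRingCat.of k))) (c : Pic (PicF.XT f T)) (hc : IsDeg f d c),
      ∃ m : Pic T.left, c = pull (PicF.XTmap f (psiCl ψ c hc)) ξ * pull (PicF.XTproj f T) m := by
  obtain ⟨e, he⟩ := exists_iso h₀ hJ
  have h1 := he J (pull (PicF.XTmap f e.hom) (ξ₀ * tw f hσ d J₀)) ((isDeg_xi h₀ d).pull e.hom)
  have h2 : classify h₀ d (pull (PicF.XTmap f e.hom) (ξ₀ * tw f hσ d J₀)) ((isDeg_xi h₀ d).pull e.hom) = e.hom := by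
    rw [← psiCl_psiD, ← comp_psiCl (psiD h₀ d) e.hom _ (isDeg_xi h₀ d), psiCl_psiD, classify_xi, Category.comp_id]
  refine ⟨pull (PicF.XTmap f e.hom) (ξ₀ * tw f hσ d J₀), (isDeg_xi h₀ d).pull e.hom, ?_, fun T c hc => ?_⟩
  · rw [← cancel_mono e.hom, h1, h2, Category.id_comp]
  · obtain ⟨m, hm⟩ := exists_eq_pull h₀ d c hc
    refine ⟨m, ?_⟩
    rwa [← pull_comp, ← XTmap_comp, he]

end main

section exists_

variable {k : Type u} [Field k] {X : Scheme.{u}} (f : X ⟶ Spec (CommRingCat.of k))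
  [IsProper f] [Smooth f] [GeometricallyConnected f] [SmoothOfRelativeDimension 1 f]
  (σ : Spec (CommRingCat.of k) ⟶ X) (hσ : σ ≫ f = 𝟙 (Spec (CommRingCat.of k)))

include hσ

theorem exists_isJac : ∃ (J : Over (Spec (CommRingCat.of k))) (_ : GrpObj J) (ξ : Pic (PicF.XT f J)),
    IsProper J.hom ∧ GeometricallyIntegral J.hom ∧ IsJac f σ hσ J ξ :=
  have := isIntegral f
  Sga7.H780.JK.jk k X f (isSmoothProperCurve f (curve_dim f)) (geometricallyIntegral f) σ hσ

theorem isProper_of_coarse {d : ℤ} {J : Over (Spec (CommRingCat.of k))} {ψ : (ModFun.PicDeg f d).Hom ⊤ J}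
    (hJ : ModFun.IsCoarseModuli ⊤ (ModFun.PicDeg f d) J ψ) : IsProper J.hom := by
  obtain ⟨J₀, _, ξ₀, hp, hg, h₀⟩ := exists_isJac f σ hσ
  obtain ⟨e, -⟩ := exists_iso h₀ hJ
  have h1 : J.hom = e.hom.left ≫ J₀.hom := (Over.w e.hom).symm
  have h2 : IsIso e.hom.left := inferInstanceAs (IsIso ((Over.forget _).map e.hom))
  rw [h1]
  infer_instance

end exists_

end K914.Fine
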