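import Mathlib.AlgebraicGeometry.Limits
import Mathlib.AlgebraicGeometry.Morphisms.Proper
import Mathlib.AlgebraicGeometry.Morphisms.Smooth
import Mathlib.CategoryTheory.Limits.Shapes.WidePullbacks
import Groth.Prelude.Def_SymProd

/-!
# Properties of the structure morphism of a fibre power

* `isPullback_succ`: `X^{n+1} = X × X^n`.
* `base_of`: a property stable under base change and composition passes from `f` to `f^n`.
-/

set_option autoImplicit false
universe v u

open CategoryTheory CategoryTheory.Limits AlgebraicGeometry Opposite

namespace K914.Pow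

section Cat

variable {C : Type u} [Category.{v} C] {G : C}

theorem isPullback_succ {n : ℕ} {Y : Fin (n + 1) → C} (g : ∀ k, Y k ⟶ G) [HasWidePullback G Y g]
    [HasWidePullback G (fun k : Fin n => Y k.succ) (fun k => g k.succ)] :
    IsPullback (WidePullback.π g 0)
      (WidePullback.lift (WidePullback.base g) (fun k : Fin n => WidePullback.π g k.succ)
        (fun k => WidePullback.π_arrow g k.succ) :
        widePullback G Y g ⟶ widePullback G (fun k : Fin n => Y k.succ) (fun k => g k.succ))
      (g 0) (WidePullback.base (fun k : Fin n => g k.succ)) := by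
  refine ⟨⟨?_⟩, ⟨PullbackCone.IsLimit.mk _
    (fun s => WidePullback.lift (s.fst ≫ g 0)
      (fun k => Fin.cases (motive := fun k => s.pt ⟶ Y k) s.fst
        (fun k => s.snd ≫ WidePullback.π (fun k : Fin n => g k.succ) k) k) ?_) ?_ ?_ ?_⟩⟩
  · rw [WidePullback.lift_base, WidePullback.π_arrow]
  · intro k
    refine Fin.cases ?_ (fun k => ?_) k
    · rfl
    · change (s.snd ≫ WidePullback.π (fun k : Fin n => g k.succ) k) ≫ g k.succ = s.fst ≫ g 0
      rw [Category.assoc, WidePullback.π_arrow (fun k : Fin n => g k.succ) k]
      exact s.condition.symm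
  · intro s
    rw [WidePullback.lift_π]
    rfl
  · intro s
    apply WidePullback.hom_ext
    · intro k
      rw [Category.assoc, WidePullback.lift_π, WidePullback.lift_π]
      rfl
    · rw [Category.assoc, WidePullback.lift_base, WidePullback.lift_base]
      exact s.condition
  · intro s m h1 h2
    apply WidePullback.eq_lift_of_comp_eq
    · intro k
      refine Fin.cases ?_ (fun k => ?_) k
      · exact h1
      · change m ≫ WidePullback.π g k.succ = s.snd ≫ WidePullback.π (fun k : Fin n => g k.succ) k
        rw [← h2, Category.assoc, WidePullback.lift_π]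
    · rw [← h1, Category.assoc, WidePullback.π_arrow]

theorem isIso_base_zero {Y : Fin 0 → C} (g : ∀ k, Y k ⟶ G) [HasWidePullback G Y g] :
    IsIso (WidePullback.base g) := by
  refine ⟨WidePullback.lift (𝟙 G) (fun k => k.elim0) (fun k => k.elim0), ?_, ?_⟩
  · apply WidePullback.hom_ext
    · intro k
      exact k.elim0
    · rw [Category.assoc, WidePullback.lift_base, Category.id_comp, Category.comp_id]
  · exact WidePullback.lift_base _ _ _ _

end Cat

variable {X S : Scheme.{u}} (f : X ⟶ S)

theorem base_of (P : MorphismProperty Scheme.{u}) [P.IsStableUnderBaseChange] [P.ContainsIdentities]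
    [P.IsStableUnderComposition] (hf : P f) (n : ℕ) : P (WidePullback.base fun _ : Fin n => f) := by
  induction n with
  | zero =>
    have := isIso_base_zero (fun _ : Fin 0 => f)
    exact P.of_isIso _
  | succ n ih =>
    have h := isPullback_succ (fun _ : Fin (n + 1) => f)
    rw [← WidePullback.π_arrow (fun _ : Fin (n + 1) => f) 0]
    exact P.comp_mem _ _ (P.of_isPullback h.flip ih) hf

theorem isProper_base [hf : IsProper f] (n : ℕ) : IsProper (WidePullback.base fun _ : Fin n => f) := by
  have : MorphismProperty.ContainsIdentities @IsProper.{u} := ⟨fun _ => inferInstance⟩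
  exact base_of f @IsProper hf n

theorem smooth_base [hf : Smooth f] (n : ℕ) : Smooth (WidePullback.base fun _ : Fin n => f) := by
  have : MorphismProperty.ContainsIdentities @Smooth.{u} := ⟨fun _ => inferInstance⟩
  exact base_of f @Smooth hf n

theorem locallyOfFiniteType_base [hf : LocallyOfFiniteType f] (n : ℕ) :
    LocallyOfFiniteType (WidePullback.base fun _ : Fin n => f) := by
  have : MorphismProperty.ContainsIdentities @LocallyOfFiniteType.{u} := ⟨fun _ => inferInstance⟩
  exact base_of f @LocallyOfFiniteType hf n

end K914.Pow
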