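import Groth.Agent.Jac.K914.Chain
import Groth.Agent.Jac.K914.Fine
import Groth.Agent.Jac.K914.Pow
import Groth.Agent.S2908
import Groth.Agent.S2909
import Groth.Agent.S3387

/-!
# The inequality behind semismallness of the Abel maps of symmetric powers

`main_ineq`: for the Abel map `j : X^(d) → J_d`, `d < g`, and a point `w` of `X^(d)`:
`trdeg κ(j w) / k + 2 trdeg κ(w) / κ(j w) ≤ d`.
-/

set_option autoImplicit false
universe u
open CategoryTheory CategoryTheory.Limits AlgebraicGeometry Opposite TopologicalSpace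

namespace K914.Semi

open Groth.Agent Groth.Agent.Grpsch Groth.Agent.Grpsch.PicGrp Groth.Agent.Fga.RigGrp Groth.Agent.Fga.JacSum
open Groth.Agent.Fga.JacAlg Groth.Agent.Picfga.ChiDef Groth.Agent.Fga.JacSurj Groth.Agent.Picfga.SecGraph
open Groth.Agent.Sga4h.GeoDim
open K914.Curve K914.Cls K914.Points K914.HField K914.PtDrop K914.Chain K914.Fine

section omega

variable {k : Type u} [Field k] {X : Scheme.{u}} (f : X ⟶ Spec (CommRingCat.of k))
  [IsProper f] [Smooth f] [GeometricallyConnected f] [SmoothOfRelativeDimension 1 f]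
  {K : Type u} [Field K] (t : Spec (CommRingCat.of K) ⟶ Spec (CommRingCat.of k))

theorem dK_omK : dK f t (omK f t) = - 2 * chiK f t 1 := by
  have h1 : hK f t 1 (omK f t) = 1 := letI := overK f t; K532.CurvePic.h1_om (isCurve f t)
  have h2 : hK f t 0 (omK f t) = hK f t 1 1 := by
    rw [serre f t 1, inv_one, mul_one]
  have h3 := hK_sub f t 1
  rw [hK_zero_one] at h3
  have h4 := rr f t (omK f t)
  push_cast at *
  omega

theorem hK1_omK : hK f t 1 (omK f t) = 1 := letI := overK f t; K532.CurvePic.h1_om (isCurve f t)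

variable {t}

theorem pull_omK {K' : Type u} [Field K'] {t' : Spec (CommRingCat.of K') ⟶ Spec (CommRingCat.of k)}
    (g : Over.mk t' ⟶ Over.mk t) : pull (PicF.XTmap f g) (omK f t) = omK f t' := by
  have h1 : hK f t' 1 (pull (PicF.XTmap f g) (omK f t)) = 1 := by rw [hK_pull, hK1_omK]
  rw [serre] at h1
  have h2 : omK f t' * (pull (PicF.XTmap f g) (omK f t))⁻¹ = 1 := by
    refine eq_one_of_dK_nonpos f t' (by rw [h1]; exact Nat.one_pos) ?_
    have h3 := chiK_pull f g 1
    rw [map_one] at h3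
    rw [dK_mul, dK_inv, dK_pull, dK_omK, dK_omK, h3]
    exact (sub_self _).le
  exact (mul_inv_eq_one.1 h2).symm

end omega

section effective

variable {k : Type u} [Field k] {X : Scheme.{u}} (f : X ⟶ Spec (CommRingCat.of k))
  [IsProper f] [Smooth f] [GeometricallyConnected f] [SmoothOfRelativeDimension 1 f]
  {K : Type u} [Field K] (t : Spec (CommRingCat.of K) ⟶ Spec (CommRingCat.of k))

theorem dK_sum {n : ℕ} (x : Fin n → Pt f (Over.mk t)) : dK f t (∏ i, (gcl f (x i))⁻¹) = n := by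
  have h := chiK_prod_inv (isSmoothProperCurve f (curve_dim_of f)) t x 1
  rw [one_mul] at h
  rw [dK, h]
  ring
where
  curve_dim_of {k : Type u} [Field k] {X : Scheme.{u}} (f : X ⟶ Spec (CommRingCat.of k))
      [Smooth f] [GeometricallyConnected f] [SmoothOfRelativeDimension 1 f] : topologicalKrullDim X = 1 :=
    have := isIntegral f
    curve_dim f

/-- `n` points `x_i` of the curve, `n < g`, are defined over a field of transcendence degree at most
`n + 1 - h⁰(Σ x_i)`. -/
theorem exists_small {n : ℕ} (x : Fin n → Pt f (Over.mk t)) (hn : (n : ℤ) + chiK f t 1 ≤ 0) :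
    ∃ (E : Type u) (_ : Field E) (s' : Spec (CommRingCat.of E) ⟶ Spec (CommRingCat.of k))
      (a' : Over.mk t ⟶ Over.mk s') (x' : Fin n → Pt f (Over.mk s')) (_ : ∀ i, (x' i).comp a' = x i)
      (m : ℕ), (∀ z, trdegAt s' z = m) ∧ m + hK f t 0 (∏ i, (gcl f (x i))⁻¹) ≤ n + 1 := by
  let s : Spec (CommRingCat.of k) ⟶ Spec (CommRingCat.of k) := 𝟙 _
  let a : Over.mk t ⟶ Over.mk s := Over.homMk t (Category.comp_id _)
  have h1 : hK f t 0 (pull (PicF.XTmap f a) (omK f s) * ∏ i, gcl f (x i)) = hK f t 1 (∏ i, (gcl f (x i))⁻¹) := by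
    rw [pull_omK, serre, Finset.prod_inv_distrib, inv_inv]
  have h2 := rr f t (∏ i, (gcl f (x i))⁻¹)
  rw [dK_sum] at h2
  have h3 : 0 < hK f t 0 (∏ i, (gcl f (x i))⁻¹) := hK_prod_pos f t _ _ fun i _ => hK_gcl_inv_pos f t (x i)
  obtain ⟨E, hE, s', b, a', hab, x', hx', m, hm, hle⟩ := exists_chain f n a (omK f s) x (by rw [h1]; omega)
  have h4 : (hK f s 0 (omK f s) : ℤ) = 1 - chiK f t 1 := by
    have h5 : hK f s 0 (omK f s) = hK f s 1 1 := by rw [serre f s 1, inv_one, mul_one]
    have h6 := hK_sub f s 1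
    rw [hK_zero_one] at h6
    have h7 := chiK_pull f a 1
    rw [map_one] at h7
    rw [h5]
    omega
  refine ⟨E, hE, s', a', x', hx', m, fun z => ?_, ?_⟩
  · rw [← hm z]
    congr 1
    exact ((Category.comp_id _).symm.trans (Over.w b)).symm
  · rw [h1] at hle
    omega

end effective

section field

/-- A morphism out of the spectrum of a field is determined over a larger field. -/
theorem cancel_field {E Ω : Type u} [Field E] [Field Ω] (a : Spec (CommRingCat.of Ω) ⟶ Spec (CommRingCat.of E))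
    {Z : Scheme.{u}} {u v : Spec (CommRingCat.of E) ⟶ Z} (h : a ≫ u = a ≫ v) : u = v := by
  obtain ⟨φ, rfl⟩ := Spec.map_surjective a
  have h1 : Flat (Spec.map φ) := by
    rw [Flat.SpecMap_iff]
    let _ : Algebra E Ω := φ.hom.toAlgebra
    exact (inferInstance : Module.Flat E Ω)
  have h2 : Surjective (Spec.map φ) := by
    refine ⟨fun z => ⟨IsLocalRing.closedPoint Ω, Subsingleton.elim (α := PrimeSpectrum E) _ _⟩⟩
  have := Flat.epi_of_flat_of_surjective (Spec.map φ)
  exact (cancel_epi (Spec.map φ)).1 h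

theorem left_apply {S : Scheme.{u}} {A B C : Over S} (u : A ⟶ B) (v : B ⟶ C) (w : A ⟶ C) (h : u ≫ v = w) (p : A.left)
    (z : C.left) (hz : w.left p = z) : v.left (u.left p) = z := by
  subst h hz
  rfl

theorem comp_ptsHom' {X S : Scheme.{u}} {f : X ⟶ S} {n : ℕ} {T T' : Over S} (x' : Fin n → Pt f T) (g : T' ⟶ T)
    (x : Fin n → Pt f T') (h : ∀ i, (x' i).comp g = x i) : g ≫ ptsHom x' = ptsHom x := by
  rw [comp_ptsHom]
  congr 1
  funext i
  exact h i

end field

section main

variable {k : Type u} [Field k] {X : Scheme.{u}} {f : X ⟶ Spec (CommRingCat.of k)}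
  [IsProper f] [Smooth f] [GeometricallyConnected f] [SmoothOfRelativeDimension 1 f]

theorem isCurve_base : Curve.IsSmoothProperCurve k X f :=
  isSmoothProperCurve f (dK_sum.curve_dim_of f)

variable {d : ℕ} {Y : Scheme.{u}} {q : SymProd.fibPow f d ⟶ Y} {gY : Y ⟶ Spec (CommRingCat.of k)}
  (hq : q ≫ gY = WidePullback.base fun _ : Fin d => f) {J : Over (Spec (CommRingCat.of k))}
  {ψ : (ModFun.PicDeg f d).Hom ⊤ J} {j : Over.mk gY ⟶ J} (hj : Jac.IsAbelMapSym q gY hq ψ j)
  {ξ : Pic (PicF.XT f J)} (hξ : IsDeg f d ξ) (hξ1 : psiCl ψ ξ hξ = 𝟙 J)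
  (hξ2 : ∀ (T : Over (Spec (CommRingCat.of k))) (c : Pic (PicF.XT f T)) (hc : IsDeg f d c),
      ∃ m : Pic T.left, c = pull (PicF.XTmap f (psiCl ψ c hc)) ξ * pull (PicF.XTproj f T) m)

include hj hξ2 in
theorem ineq_point (hd : (d : ℤ) + chiK f (𝟙 (Spec (CommRingCat.of k))) 1 ≤ 0) (z : SymProd.fibPow f d) :
    ∃ h : ℕ, trdegAt (q ≫ j.left) z + 1 ≤ h ∧
      trdegAt (WidePullback.base fun _ : Fin d => f) z + h ≤ (d + 1 : ℕ) := by
  let B : SymProd.fibPow f d ⟶ Spec (CommRingCat.of k) := WidePullback.base fun _ : Fin d => f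
  let Ω := (SymProd.fibPow f d).residueField z
  let t : Spec (CommRingCat.of Ω) ⟶ Spec (CommRingCat.of k) := fsr _ z ≫ B
  let zt : Over.mk t ⟶ Jac.powOver f d := ofHom (Jac.powOver f d) (fsr _ z)
  let x : Fin d → Pt f (Over.mk t) := fun i => (powPt f d i).comp zt
  have hx : ptsHom x = zt := ptsHom_powPt_comp zt
  let pt : Spec (CommRingCat.of Ω) := IsLocalRing.closedPoint Ω
  have hzt : zt.left pt = z := fsr_apply _ _ _
  let Q : Jac.powOver f d ⟶ Over.mk gY := Over.homMk q hq
  have hab := abel_eq isCurve_base hj x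
  rw [hx] at hab
  -- the point of `J`
  let y : J.left := (q ≫ j.left) z
  obtain ⟨φ, hφ⟩ := exists_fsr (zt ≫ Q ≫ j).left y (by
    change (zt.left ≫ q ≫ j.left) pt = _
    rw [Scheme.Hom.comp_apply, hzt])
  let sy : Spec (CommRingCat.of (J.left.residueField y)) ⟶ Spec (CommRingCat.of k) := fsr J.left y ≫ J.hom
  let yt : Over.mk sy ⟶ J := ofHom J (fsr J.left y)
  let a : Over.mk t ⟶ Over.mk sy := Over.homMk (Spec.map φ) (by
    change Spec.map φ ≫ fsr J.left y ≫ J.hom = t
    rw [← Category.assoc, hφ]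
    exact Over.w (zt ≫ Q ≫ j))
  have ha : a ≫ yt = zt ≫ Q ≫ j := Over.OverMorphism.ext hφ
  let c : Pic (PicF.XT f (Over.mk sy)) := pull (PicF.XTmap f yt) ξ
  have hc : pull (PicF.XTmap f a) c = ∏ i, (gcl f (x i))⁻¹ := by
    obtain ⟨m, hm⟩ := hξ2 (Over.mk t) _ (isDeg_sum isCurve_base x)
    have hm1 : m = 1 := pic_spec_local Ω m
    rw [hm, hm1, map_one, mul_one, ← hab, ← ha, XTmap_comp, pull_comp]
  have hpos : 0 < hK f t 0 (pull (PicF.XTmap f a) c * ∏ i, gcl f (x i)) := by
    rw [hc, Finset.prod_inv_distrib, inv_mul_cancel, hK_zero_one]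
    exact Nat.one_pos
  obtain ⟨E, hE, s', b, a', hab', x', hx', m, hm, hle⟩ := exists_chain f d a c x hpos
  rw [hc, Finset.prod_inv_distrib, inv_mul_cancel, hK_zero_one] at hle
  have hch : hK f sy 0 c = hK f t 0 (∏ i, (gcl f (x i))⁻¹) := by
    rw [← hc, hK_pull]
  have hpt : (ptsHom x').left (a'.left pt) = z := left_apply _ _ zt (comp_ptsHom' x' a' x hx' |>.trans hx) pt z hzt
  refine ⟨hK f t 0 (∏ i, (gcl f (x i))⁻¹), ?_, ?_⟩
  · have h1 : (ptsHom x').left ≫ q ≫ j.left = b.left ≫ fsr J.left y := by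
      apply cancel_field a'.left
      have h2 : a' ≫ ptsHom x' ≫ Q ≫ j = a' ≫ b ≫ yt := by
        rw [← Category.assoc, comp_ptsHom, ← Category.assoc a', hab', ha]
        have h3 : (fun i => (x' i).comp a') = x := funext hx'
        rw [h3, hx]
      exact congrArg (fun u => u.left) h2
    have h2 := trdegAt_comp (ptsHom x').left (q ≫ j.left) (a'.left pt)
    rw [h1, trdegAt_comp, trdegAt_fsr, zero_add, hm, hpt] at h2
    have h3 : trdegAt (q ≫ j.left) z ≤ m := by
      rw [h2]
      exact le_self_add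
    rw [← hch]
    calc trdegAt (q ≫ j.left) z + 1 ≤ (m : Cardinal.{u}) + 1 := add_le_add_left h3 1
      _ ≤ _ := by exact_mod_cast hle
  · have hd' : (d : ℤ) + chiK f t 1 ≤ 0 := by
      have h7 := chiK_pull f (Over.homMk t (Category.comp_id _) : Over.mk t ⟶ Over.mk (𝟙 (Spec (CommRingCat.of k)))) 1
      rw [map_one] at h7
      rw [h7]
      exact hd
    obtain ⟨E, hE, s', a', x', hx', m, hm, hle⟩ := exists_small f t x hd'
    have hpt : (ptsHom x').left (a'.left pt) = z := left_apply _ _ zt (comp_ptsHom' x' a' x hx' |>.trans hx) pt z hzt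
    have h2 := trdegAt_comp (ptsHom x').left B (a'.left pt)
    have h3 : (ptsHom x').left ≫ B = s' := Over.w (ptsHom x')
    rw [h3, hm, hpt] at h2
    have h4 : trdegAt B z ≤ m := by
      rw [h2]
      exact le_self_add
    calc trdegAt B z + (hK f t 0 (∏ i, (gcl f (x i))⁻¹) : ℕ) ≤ (m : Cardinal.{u}) + (hK f t 0 (∏ i, (gcl f (x i))⁻¹) : ℕ) :=
          add_le_add_left h4 _
      _ ≤ _ := by exact_mod_cast hle

include hj hξ2 in
theorem main_ineq (hd : (d : ℤ) + chiK f (𝟙 (Spec (CommRingCat.of k))) 1 ≤ 0) (hqs : Function.Surjective q) (w : Y) :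
    trdegAt J.hom (j.left w) + 2 * trdegAt j.left w ≤ d := by
  obtain ⟨z, rfl⟩ := hqs w
  obtain ⟨h, h1, h2⟩ := ineq_point hq hj hξ2 hd z
  have hfin := Pow.locallyOfFiniteType_base f d
  obtain ⟨N, hN⟩ := exists_nat_trdegAt (WidePullback.base fun _ : Fin d => f) z
  have h3 : (WidePullback.base fun _ : Fin d => f) = (q ≫ j.left) ≫ J.hom := by
    have := Over.w j
    rw [Category.assoc, this, ← hq]
    rfl
  have h4 := trdegAt_comp (q ≫ j.left) J.hom z
  have h5 := trdegAt_comp q j.left z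
  rw [← h3, hN] at h4
  rw [hN] at h2
  have h6 : trdegAt (q ≫ j.left) z ≤ N := by
    rw [h4]; exact le_add_self
  obtain ⟨N1, hN1⟩ := Cardinal.lt_aleph0.1 (h6.trans_lt Cardinal.natCast_lt_aleph0)
  have h7 : trdegAt J.hom ((q ≫ j.left) z) ≤ N := by
    rw [h4]; exact le_self_add
  obtain ⟨N2, hN2⟩ := Cardinal.lt_aleph0.1 (h7.trans_lt Cardinal.natCast_lt_aleph0)
  have h8 : trdegAt j.left (q z) ≤ N1 := by
    rw [← hN1, h5]; exact le_self_add
  obtain ⟨N3, hN3⟩ := Cardinal.lt_aleph0.1 (h8.trans_lt Cardinal.natCast_lt_aleph0)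
  rw [hN1, hN2] at h4
  rw [hN1] at h1
  rw [hN3] at h8 ⊢
  have h9 : trdegAt J.hom (j.left (q z)) = N2 := by rw [← hN2, Scheme.Hom.comp_apply]
  rw [h9]
  have e1 : N = N2 + N1 := by exact_mod_cast h4
  have e2 : N1 + 1 ≤ h := by exact_mod_cast h1
  have e3 : N + h ≤ d + 1 := by exact_mod_cast h2
  have e4 : N3 ≤ N1 := by exact_mod_cast h8
  have e5 : N2 + 2 * N3 ≤ d := by omega
  exact_mod_cast e5

end main

section rational

/-- A curve over an algebraically closed field has a rational point. -/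
theorem exists_section {k : Type u} [Field k] [IsAlgClosed k] {X : Scheme.{u}} (f : X ⟶ Spec (CommRingCat.of k))
    [LocallyOfFiniteType f] [QuasiCompact f] [Nonempty X] : ∃ σ : Spec (CommRingCat.of k) ⟶ X, σ ≫ f = 𝟙 _ := by
  have h1 : CompactSpace X := (quasiCompact_iff_compactSpace f).1 inferInstance
  obtain ⟨x, -, hx⟩ := IsClosed.exists_closed_singleton (X := X) isClosed_univ Set.univ_nonempty
  obtain ⟨s, hs, -⟩ := Fga.JacFactor.exists_section_of_closed (Iso.refl _) f x hx
  exact ⟨s, hs⟩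

end rational

section fibres

variable {Z W : Scheme.{u}} (p : Z ⟶ W) [LocallyOfFiniteType p]

/-- Large fibres have points of large transcendence degree. -/
theorem exists_of_le_dim (w : W) (i : ℕ) (h : (i : WithBot ℕ∞) ≤ topologicalKrullDim (p.fiber w)) :
    ∃ z : Z, p z = w ∧ (i : Cardinal.{u}) ≤ trdegAt p z := by
  rcases Nat.eq_zero_or_pos i with rfl | hi
  · have hne : Nonempty (p.fiber w) := by
      by_contra h0
      rw [not_nonempty_iff] at h0
      have h1 : topologicalKrullDim (p.fiber w) = ⊥ := by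
        rw [topologicalKrullDim, Order.krullDim_eq_bot_iff]
        exact ⟨fun Z => (Z.isIrreducible.nonempty.elim fun x _ => h0.elim x)⟩
      rw [h1] at h
      exact absurd h (by simp)
    obtain ⟨x⟩ := hne
    refine ⟨p.fiberι w x, ?_, by simp⟩
    have h1 : p.fiberι w x ∈ Set.range (p.fiberι w) := ⟨x, rfl⟩
    rw [Scheme.Hom.range_fiberι] at h1
    exact h1
  · by_contra hcon
    push Not at hcon
    have h1 := Sga4h.GenULADim.topologicalKrullDim_fiber_le p w (i - 1) fun z hz => by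
      obtain ⟨n, hn⟩ := exists_nat_trdegAt p z
      have h2 := hcon z hz
      rw [hn] at h2 ⊢
      have h3 : n < i := by exact_mod_cast h2
      have h4 : n ≤ i - 1 := by omega
      exact_mod_cast h4
    have h2 := h.trans h1
    have h3 : i ≤ i - 1 := by exact_mod_cast h2
    omega

/-- The dimension of a closed subset is bounded by the transcendence degrees of its points. -/
theorem dim_closed_le {k : Type u} [Field k] (g : W ⟶ Spec (CommRingCat.of k)) [LocallyOfFiniteType g] {A : Set W}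
    (hA : IsClosed A) (N : ℕ) (h : ∀ w ∈ A, trdegAt g w ≤ N) : topologicalKrullDim A ≤ N := by
  let I : W.IdealSheafData := Scheme.IdealSheafData.vanishingIdeal ⟨A, hA⟩
  have hr : Set.range I.subschemeι = A := by
    rw [Scheme.IdealSheafData.range_subschemeι, Scheme.IdealSheafData.coe_support_vanishingIdeal]
    rfl
  let h' : I.subscheme ⟶ Spec (CommRingCat.of k) := I.subschemeι ≫ g
  let s : Spec (CommRingCat.of k) := IsLocalRing.closedPoint k
  have h1 := Sga4h.GenULADim.topologicalKrullDim_fiber_le h' s N fun x _ => by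
    change trdegAt (I.subschemeι ≫ g) x ≤ _
    rw [trdegAt_comp, trdegAt_eq_zero_of_isPreimmersion I.subschemeι, add_zero]
    exact h _ (hr ▸ ⟨x, rfl⟩)
  have h2 : IsHomeomorph (h'.fiberι s) := by
    rw [isHomeomorph_iff_isEmbedding_surjective]
    refine ⟨(h'.fiberι s).isEmbedding, fun x => ?_⟩
    have h3 : x ∈ Set.range (h'.fiberι s) := by
      rw [Scheme.Hom.range_fiberι]
      exact Subsingleton.elim (α := PrimeSpectrum k) _ _
    exact h3
  have h4 := IsHomeomorph.topologicalKrullDim_eq _ h2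
  let e : I.subscheme ≃ₜ A := I.subschemeι.isEmbedding.toHomeomorph.trans (Homeomorph.setCongr hr)
  have h5 := IsHomeomorph.topologicalKrullDim_eq _ e.isHomeomorph
  rw [← h5, ← h4]
  exact h1

end fibres

end K914.Semi
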