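import Groth.Agent.Sga7.H780.JacSurjG
import Groth.Agent.Fga.JacRR
import Groth.Agent.Fga.JacFib
import Groth.Agent.Ega2.QCohLocal
import Groth.Agent.Ega1.GenPts
import Groth.Agent.Dix.NormalLoc
import Groth.Agent.VarietyA.EulerAdd
import Groth.Agent.Fga.EulerLEAdd
import Groth.Agent.UnramA.SmoothFibreDim
import Groth.Agent.S0458
import Groth.Agent.S1536
import Groth.Prelude.Def_ModFun2
import Groth.Prelude.Def_CurvBase

/-!
# Smooth proper geometrically connected curves over a field: basic dictionary

* `geometricallyIrreducible`, `geometricallyIntegral`, `isSmoothProperCurve`, `smoothOfRelDim`;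
* `chiK_one : chiK f t 1 = 1 - genus`;
* `deg_eq`: the degree of the prelude on a geometric fibre, through `chiK`;
* `ok_iff`: admissible families of `ModFun.PicDeg f d`.
-/

set_option autoImplicit false
universe u
open CategoryTheory CategoryTheory.Limits AlgebraicGeometry Opposite TopologicalSpace

namespace K914.Curve

open Groth.Agent Groth.Agent.Grpsch Groth.Agent.Grpsch.PicGrp Groth.Agent.Fga.RigGrp Groth.Agent.Fga.JacSum
open Groth.Agent.Fga.JacAlg Groth.Agent.Picfga.ChiDef Groth.Agent.Fga.JacSurj

section general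

variable {k : Type u} [Field k] {X : Scheme.{u}} (f : X ⟶ Spec (CommRingCat.of k))

theorem isIntegral_of_smooth [Smooth f] [ConnectedSpace X] : IsIntegral X := by
  have h1 : IsLocallyNoetherian X := LocallyOfFiniteType.isLocallyNoetherian f
  exact (Ega1.GenPts.isIntegral_iff X).2 ⟨inferInstance, fun x => (Dix.NormalLoc.stalk_of_smooth f x).1⟩

theorem geometricallyIrreducible [Smooth f] [GeometricallyConnected f] : GeometricallyIrreducible f := by
  rw [geometricallyIrreducible_iff]
  intro K _ y W fst snd hp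
  have h1 : Smooth snd := MorphismProperty.of_isPullback hp ‹_›
  have h2 : ConnectedSpace W := GeometricallyConnected.geometrically_connectedSpace (f := f) _ _ _ hp
  have h3 := isIntegral_of_smooth snd
  infer_instance

theorem geometricallyIntegral [Smooth f] [GeometricallyConnected f] : GeometricallyIntegral f :=
  have := geometricallyIrreducible f
  Flat2B.SmoothGeom.geometricallyIntegral_of_smooth f

theorem isIntegral [Smooth f] [GeometricallyConnected f] : IsIntegral X := by
  have := geometricallyIrreducible f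
  have h1 : IsReduced X := Flat2B.SmoothGeom.isReduced_of_smooth f
  have h2 : IrreducibleSpace X := by
    have : Subsingleton (Spec (CommRingCat.of k)) := inferInstanceAs (Subsingleton (PrimeSpectrum k))
    exact GeometricallyIrreducible.irreducibleSpace_of_subsingleton f
  exact isIntegral_of_irreducibleSpace_of_isReduced X

theorem isSmoothProperCurve [IsProper f] [Smooth f] [GeometricallyConnected f]
    (hdim : topologicalKrullDim X = 1) : Curve.IsSmoothProperCurve k X f :=
  ⟨inferInstance, inferInstance, isIntegral f, hdim⟩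

theorem curve_dim [IsIntegral X] [SmoothOfRelativeDimension 1 f] : topologicalKrullDim X = 1 := by
  rw [VarietyB.DimTop.topologicalKrullDim_eq_iSup_localDim]
  have h : ∀ x : X, FlatMor.localDim X x = 1 := fun x => by
    simpa using UnramA.SmoothFibreDim.localDim_eq 1 f x
  have : Nonempty X := inferInstance
  simp_rw [h]
  exact ciSup_const

end general

/-! ### Euler characteristics -/

section overk

variable (k : Type u) [Field k] (X : Scheme.{u}) [X.Over (Spec (CommRingCat.of k))]

theorem chiM_fst [CompactSpace X] [QuasiSeparatedSpace X] {K : Type u} [Field K]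
    (t : Spec (CommRingCat.of K) ⟶ Spec (CommRingCat.of k)) (F : X.Modules) (hF : Coh.IsQCoh F) :
    chiM (X ↘ Spec (CommRingCat.of k)) t ((Scheme.Modules.pullback
      (pullback.fst (X ↘ Spec (CommRingCat.of k)) t)).obj F) = FGA.eulerCharLE k X F 1 := by
  let _ := overK (X ↘ Spec (CommRingCat.of k)) t
  exact Picfga.ChiBC.eulerCharLE_pullback k X K _ _ t (IsPullback.of_hasPullback _ _) F hF 1

theorem chiK_fst [CompactSpace X] [QuasiSeparatedSpace X] {K : Type u} [Field K]
    (t : Spec (CommRingCat.of K) ⟶ Spec (CommRingCat.of k)) (F : X.Modules) (hF : PicF.IsInvertible F) :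
    chiK (X ↘ Spec (CommRingCat.of k)) t (pull (pullback.fst (X ↘ Spec (CommRingCat.of k)) t) (mk F hF)) =
      FGA.eulerCharLE k X F 1 :=
  chiM_fst k X t F (Ega2.QCohLocal.isQCoh_of_isInvertible hF)

/-- The Euler characteristic of the structure sheaf of any geometric fibre is `1 - g`. -/
theorem chiK_one [IsProper (X ↘ Spec (CommRingCat.of k))] [Smooth (X ↘ Spec (CommRingCat.of k))]
    [GeometricallyConnected (X ↘ Spec (CommRingCat.of k))] {K : Type u} [Field K]
    (t : Spec (CommRingCat.of K) ⟶ Spec (CommRingCat.of k)) :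
    chiK (X ↘ Spec (CommRingCat.of k)) t 1 = 1 - (Curv2.genus k X : ℤ) := by
  have h1 : CompactSpace X := (quasiCompact_iff_compactSpace (X ↘ Spec (CommRingCat.of k))).1 inferInstance
  have h2 : QuasiSeparatedSpace X :=
    (quasiSeparated_iff_quasiSeparatedSpace (X ↘ Spec (CommRingCat.of k))).1 inferInstance
  have h3 := chiK_fst k X t (Coh.structureModule X) Fdesc.LocGen.isInvertible_structureModule
  rw [← one_def, map_one] at h3
  have h4 : GeometricallyReduced (X ↘ Spec (CommRingCat.of k)) :=
    Flat2B.SmoothGeom.geometricallyReduced_of_smooth _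
  rw [h3, FGA.eulerCharLE, Finset.sum_range_succ, Finset.sum_range_one, S1536.result k X, Curv2.genus]
  ring

end overk

/-! ### The degree of the prelude -/

section deg

variable {k : Type u} [Field k] {X : Scheme.{u}} (f : X ⟶ Spec (CommRingCat.of k))
  [IsProper f] [Smooth f] [GeometricallyConnected f] [SmoothOfRelativeDimension 1 f]

theorem deg_eq {K : Type u} [Field K] (t : Spec (CommRingCat.of K) ⟶ Spec (CommRingCat.of k))
    (E : (PicF.XT f (Over.mk t)).Modules) (hE : PicF.IsInvertible E) :
    (letI : (PicF.XT f (Over.mk t)).Over (Spec (CommRingCat.of K)) := ⟨PicF.XTproj f (Over.mk t)⟩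
     Curv2.deg K (PicF.XT f (Over.mk t)) E 1) = chiK f t (mk E hE) - chiK f t 1 := by
  let _ : (PicF.XT f (Over.mk t)).Over (Spec (CommRingCat.of K)) := ⟨PicF.XTproj f (Over.mk t)⟩
  have h0 : GeometricallyIntegral f := geometricallyIntegral f
  have h1 : IsIntegral (PicF.XT f (Over.mk t)) :=
    GeometricallyIntegral.geometrically_isIntegral (f := f) _ _ _ (IsPullback.of_hasPullback f t)
  have h2 : SmoothOfRelativeDimension 1 (PicF.XTproj f (Over.mk t)) := smoothOfRelDim_XTproj f (Over.mk t)
  let p : PicF.XT f (Over.mk t) ⟶ Spec (CommRingCat.of K) := PicF.XTproj f (Over.mk t)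
  have h2' : SmoothOfRelativeDimension 1 p := h2
  have h3 : IsProper p := inferInstanceAs (IsProper (pullback.snd f t))
  have h4 : topologicalKrullDim (PicF.XT f (Over.mk t)) = 1 := curve_dim p
  have h5 : IsLocallyNoetherian (PicF.XT f (Over.mk t)) := LocallyOfFiniteType.isLocallyNoetherian p
  have h6 : CompactSpace (PicF.XT f (Over.mk t)) := (quasiCompact_iff_compactSpace p).1 inferInstance
  have h7 : IsNoetherian (PicF.XT f (Over.mk t)) := {}
  have h8 := fun M => Fga.EulerLEAdd.eulerCharLE_eq_euler K (PicF.XT f (Over.mk t)) 1 h4.le M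
  change Curv2.deg K (PicF.XT f (Over.mk t)) E 1 = _
  rw [Curv2.deg, ← h8, ← h8, chiK_mk, one_def, chiK_mk, Nat.cast_one, one_mul]
  rfl

end deg

/-! ### Admissible families -/

section ok

variable {k : Type u} [Field k] {X : Scheme.{u}} (f : X ⟶ Spec (CommRingCat.of k))
  [IsProper f] [Smooth f] [GeometricallyConnected f] [SmoothOfRelativeDimension 1 f]

theorem ok_iff (d : ℤ) (T : Over (Spec (CommRingCat.of k))) (L : (PicF.XT f T).Modules) :
    (ModFun.PicDeg f d).ok T L ↔ ∃ hL : PicF.IsInvertible L, ∀ τ : T.left,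
      chiAt f T τ (mk L hL) = chiAt f T τ 1 + d := by
  have key : ∀ (hL : PicF.IsInvertible L) (Ω : Type u) [Field Ω] (t : Spec (CommRingCat.of Ω) ⟶ T.left)
      (z : Spec (CommRingCat.of Ω)),
      ((letI : (PicF.XT f (Over.mk (t ≫ T.hom))).Over (Spec (CommRingCat.of Ω)) :=
          ⟨PicF.XTproj f (Over.mk (t ≫ T.hom))⟩
        Curv2.deg Ω (PicF.XT f (Over.mk (t ≫ T.hom)))
          ((Scheme.Modules.pullback (PicF.XTmap f (Over.homMk t rfl : Over.mk (t ≫ T.hom) ⟶ T))).obj L) 1) = d ↔
        chiAt f T (t z) (mk L hL) = chiAt f T (t z) 1 + d) := by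
    intro hL Ω _ t z
    have hz : ∀ z', t z' = t z := fun z' => by rw [Subsingleton.elim (α := PrimeSpectrum Ω) z' z]
    rw [deg_eq f (t ≫ T.hom) _ (Fdesc.LocGen.isInvertible_pullback _ hL),
      ← chiPt_eq_chiAt (Fga.JacFib.bcStep f) T t (t z) hz, ← chiPt_eq_chiAt (Fga.JacFib.bcStep f) T t (t z) hz,
      chiPt, chiPt, map_one, pull_mk, sub_eq_iff_eq_add']
  constructor
  · rintro ⟨⟨-, h1⟩, h2⟩
    have hL := Ega2.QCohLocal.isFinLocFreeOfRank_one_iff.1 h1
    refine ⟨hL, fun τ => ?_⟩
    let K := AlgebraicClosure (T.left.residueField τ)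
    let φ : CommRingCat.of (T.left.residueField τ) ⟶ CommRingCat.of K :=
      CommRingCat.ofHom (algebraMap (T.left.residueField τ) K)
    let y : Spec (CommRingCat.of K) ⟶ T.left := Spec.map φ ≫ fsr T.left τ
    let z : Spec (CommRingCat.of K) := (default : PrimeSpectrum K)
    have h3 : y z = τ := by
      change (Spec.map φ ≫ fsr T.left τ) z = τ
      rw [Scheme.Hom.comp_apply, fsr_apply]
    have h4 := (key hL K y z).1 (h2 K y)
    rwa [h3] at h4
  · rintro ⟨hL, h⟩
    refine ⟨⟨trivial, Ega2.QCohLocal.isFinLocFreeOfRank_one_iff.2 hL⟩, fun Ω _ _ t => ?_⟩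
    exact (key hL Ω t (default : PrimeSpectrum Ω)).2 (h _)

end ok

end K914.Curve
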