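import Groth.Agent.Jac.K914.Chain
import Groth.Agent.S1025
import Groth.Agent.Picfga.ChiBC
import Groth.Agent.Ega3B.ChiFib

/-!
# Semicontinuity of `h^i` in a family of classes on a curve

* `hAt f T i c τ`: the dimension of `H^i` of the class `c` on the fibre over `τ`.
* `hK_eq_hAt`: the value along a field-valued point.
* `isOpen_hAt`: upper semicontinuity; `hAt_le_of_specializes`.
-/

set_option autoImplicit false
universe u
open CategoryTheory CategoryTheory.Limits AlgebraicGeometry Opposite TopologicalSpace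

namespace K914.Sc

open Groth.Agent Groth.Agent.Grpsch Groth.Agent.Grpsch.PicGrp Groth.Agent.Fga.RigGrp Groth.Agent.Fga.JacSum
open Groth.Agent.Fga.JacAlg Groth.Agent.Picfga.ChiDef Groth.Agent.Fga.JacSurj
open K914.Curve K914.Cls K914.Points K914.HField

variable {k : Type u} [Field k] {X : Scheme.{u}} (f : X ⟶ Spec (CommRingCat.of k))
  (T : Over (Spec (CommRingCat.of k)))

/-- The dimension of `H^i` of the class `c` on the fibre over `τ`. -/
noncomputable def hAt (i : ℕ) (c : Pic (PicF.XT f T)) (τ : T.left) : ℕ :=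
  hK f (fsr T.left τ ≫ T.hom) i (pull (PicF.XTmap f (ofHom T (fsr T.left τ))) c)

variable {f}

theorem hK_congr {K : Type u} [Field K] {t t' : Spec (CommRingCat.of K) ⟶ Spec (CommRingCat.of k)} (h : t = t')
    {T : Over (Spec (CommRingCat.of k))} (g : Over.mk t ⟶ T) (g' : Over.mk t' ⟶ T) (hg : g.left = g'.left) (i : ℕ)
    (c : Pic (PicF.XT f T)) :
    hK f t i (pull (PicF.XTmap f g) c) = hK f t' i (pull (PicF.XTmap f g') c) := by
  subst h
  have : g = g' := Over.OverMorphism.ext hg
  rw [this]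

variable [IsProper f]

/-- The value of `h^i` along a field-valued point only depends on the image point. -/
theorem hK_eq_hAt {K : Type u} [Field K] {t : Spec (CommRingCat.of K) ⟶ Spec (CommRingCat.of k)}
    (g : Over.mk t ⟶ T) (i : ℕ) (c : Pic (PicF.XT f T)) (τ : T.left) (hτ : g.left (IsLocalRing.closedPoint K) = τ) :
    hK f t i (pull (PicF.XTmap f g) c) = hAt f T i c τ := by
  obtain ⟨φ, hφ⟩ := exists_fsr g.left τ hτ
  have ht : t = Spec.map φ ≫ fsr T.left τ ≫ T.hom := by
    rw [← Category.assoc, hφ]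
    exact (Over.w g).symm
  let e : Over.mk (Spec.map φ ≫ fsr T.left τ ≫ T.hom) ⟶ Over.mk (fsr T.left τ ≫ T.hom) := Over.homMk (Spec.map φ) rfl
  rw [hK_congr ht g (e ≫ ofHom T (fsr T.left τ)) hφ.symm, XTmap_comp, pull_comp, hK_pull]
  rfl

theorem hAt_pull {T' : Over (Spec (CommRingCat.of k))} (g : T' ⟶ T) (i : ℕ) (c : Pic (PicF.XT f T)) (τ : T'.left) :
    hAt f T' i (pull (PicF.XTmap f g) c) τ = hAt f T i c (g.left τ) := by
  have h1 := hK_eq_hAt T (ofHom T' (fsr T'.left τ) ≫ g) i c (g.left τ) (congrArg g.left (fsr_apply T'.left τ _))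
  rw [← h1, XTmap_comp, pull_comp]
  rfl

omit [IsProper f] in
theorem finrank_iso (K : Type u) [Field K] {Y Y' : Scheme.{u}} [Y.Over (Spec (CommRingCat.of K))]
    [Y'.Over (Spec (CommRingCat.of K))] (j : Y' ≅ Y)
    (hj : j.hom ≫ (Y ↘ Spec (CommRingCat.of K)) = Y' ↘ Spec (CommRingCat.of K)) [CompactSpace Y]
    [QuasiSeparatedSpace Y] (F : Y.Modules) (hF : Coh.IsQCoh F) (F' : Y'.Modules)
    (e' : F' ≅ (Scheme.Modules.pullback j.hom).obj F) (i : ℕ) :
    Module.finrank K (Coh.HH Y' F' i) = Module.finrank K (Coh.HH Y F i) := by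
  have h5 : Spec.map (CommRingCat.ofHom (algebraMap K K)) = 𝟙 (Spec (CommRingCat.of K)) := Spec.map_id _
  have hp : IsPullback j.hom (Y' ↘ Spec (CommRingCat.of K)) (Y ↘ Spec (CommRingCat.of K))
      (Spec.map (CommRingCat.ofHom (algebraMap K K))) := by
    rw [h5]
    refine IsPullback.of_horiz_isIso ⟨?_⟩
    rw [Category.comp_id]
    exact hj
  obtain ⟨e⟩ := S0034.result K K Y Y' j.hom hp F i
  have h6 := e.finrank_eq
  rw [Module.finrank_baseChange] at h6
  exact (CurvesA.HHMap.equivOver K e' i).finrank_eq.trans h6.symm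

theorem betti_eq (i : ℕ) (L : (PicF.XT f T).Modules) (hL : PicF.IsInvertible L) (τ : T.left) :
    PerfAux.betti (PicF.XTproj f T) L τ i = hAt f T i (mk L hL) τ := by
  obtain ⟨j, hj1, hj2⟩ := Picfga.ChiBC.exists_fibreIso f T τ
  let g : Over.mk (T.left.fromSpecResidueField τ ≫ T.hom) ⟶ T := Over.homMk (T.left.fromSpecResidueField τ)
  let q : PicF.XT f (Over.mk (T.left.fromSpecResidueField τ ≫ T.hom)) ⟶
      Spec (CommRingCat.of (T.left.residueField τ)) := PicF.XTproj f (Over.mk _)
  have hq1 : QuasiCompact q :=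
    inferInstanceAs (QuasiCompact (pullback.snd f (T.left.fromSpecResidueField τ ≫ T.hom)))
  have hq2 : QuasiSeparated q :=
    inferInstanceAs (QuasiSeparated (pullback.snd f (T.left.fromSpecResidueField τ ≫ T.hom)))
  have h1 : CompactSpace (PicF.XT f (Over.mk (T.left.fromSpecResidueField τ ≫ T.hom))) :=
    QuasiCompact.compactSpace_of_compactSpace q
  have h2 : QuasiSeparatedSpace (PicF.XT f (Over.mk (T.left.fromSpecResidueField τ ≫ T.hom))) :=
    quasiSeparatedSpace_of_quasiSeparated q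
  have h4 : Coh.IsQCoh ((Scheme.Modules.pullback (PicF.XTmap f g)).obj L) :=
    Ega2.QCohLocal.isQCoh_of_isInvertible (Fdesc.LocGen.isInvertible_pullback _ hL)
  have h6 : (Scheme.Modules.pullback ((PicF.XTproj f T).fiberι τ)).obj L ≅
      (Scheme.Modules.pullback j.hom).obj ((Scheme.Modules.pullback (PicF.XTmap f g)).obj L) :=
    (Scheme.Modules.pullbackCongr hj1.symm).app L ≪≫
      ((Scheme.Modules.pullbackComp j.hom (PicF.XTmap f g)).app L).symm
  exact @finrank_iso (T.left.residueField τ) _ _ _ ⟨q⟩ ⟨(PicF.XTproj f T).fiberToSpecResidueField τ⟩ j hj2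
    h1 h2 _ h4 _ h6 i

section smooth

variable [Smooth f]

/-- Upper semicontinuity of `h^i`. -/
theorem isOpen_hAt (i : ℕ) (c : Pic (PicF.XT f T)) (n : ℕ) : IsOpen {τ : T.left | hAt f T i c τ < n} := by
  obtain ⟨L, hL, rfl⟩ := exists_mk c
  have h1 : IsProper (PicF.XTproj f T) := inferInstanceAs (IsProper (pullback.snd f T.hom))
  have h2 : LocallyOfFinitePresentation (PicF.XTproj f T) :=
    inferInstanceAs (LocallyOfFinitePresentation (pullback.snd f T.hom))
  have h3 : Flat (PicF.XTproj f T) := inferInstanceAs (Flat (pullback.snd f T.hom))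
  have h := S1025.result (PicF.XTproj f T) L (Ega3B.ChiFib.isFP_of_isInvertible hL)
    (Ega3B.ChiFib.isFlatOver_of_isInvertible _ hL) i n
  simp_rw [betti_eq T i L hL] at h
  exact h

theorem isClosed_hAt (i : ℕ) (c : Pic (PicF.XT f T)) (n : ℕ) : IsClosed {τ : T.left | n ≤ hAt f T i c τ} := by
  rw [← isOpen_compl_iff]
  convert isOpen_hAt T i c n using 1
  ext τ
  simp

theorem hAt_le_of_specializes (i : ℕ) (c : Pic (PicF.XT f T)) {τ τ' : T.left} (h : τ ⤳ τ') :
    hAt f T i c τ ≤ hAt f T i c τ' := by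
  have h1 := (h.mem_closed (isClosed_hAt T i c (hAt f T i c τ)))
  exact h1 (by simp)

end smooth

end K914.Sc
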