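import Groth.Agent.Jac.K914.Cls

/-!
# Sums of points and Abel maps on symmetric powers

* `exists_sum_points`: a class of degree `n ≥ g` over an algebraically closed field is a sum of `n` points.
* `mk_tensorList`: the class of a tensor product of a list.
* `powPt f n i`, `ptsHom`: points of `X^n`.
* `mk_graphSum`: the class of a graph-sum family; `comp_abel`: the Abel map on points.
-/

set_option autoImplicit false
universe u
open CategoryTheory CategoryTheory.Limits AlgebraicGeometry Opposite TopologicalSpace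

namespace K914.Points

open Groth.Agent Groth.Agent.Grpsch Groth.Agent.Grpsch.PicGrp Groth.Agent.Fga.RigGrp Groth.Agent.Fga.JacSum
open Groth.Agent.Fga.JacAlg Groth.Agent.Picfga.ChiDef Groth.Agent.Fga.JacSurj Groth.Agent.Fdesc.LocGen
open K914.Curve K914.Cls

/-! ### Sums of points over algebraically closed fields -/

section sums

variable {k : Type u} [Field k] {X : Scheme.{u}} {f : X ⟶ Spec (CommRingCat.of k)}
  (hX : Curve.IsSmoothProperCurve k X f) [GeometricallyIntegral f]
  [SmoothOfRelativeDimension 1 f] [IsSeparated f]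

include hX

omit [GeometricallyIntegral f] in
theorem chiK_prod_inv {K : Type u} [Field K] (t : Spec (CommRingCat.of K) ⟶ Spec (CommRingCat.of k)) {n : ℕ}
    (x : Fin n → Pt f (Over.mk t)) (c : Pic (PicF.XT f (Over.mk t))) :
    chiK f t (c * ∏ i, (gcl f (x i))⁻¹) = chiK f t c + n :=
  chiK_mul_prod (Fga.JacRR.rrStep f hX K t) c x

/-- A class with a non-zero section is a sum of points. -/
theorem exists_points_of_section {K : Type u} [Field K] [IsAlgClosed K]
    (t : Spec (CommRingCat.of K) ⟶ Spec (CommRingCat.of k)) (M : (PicF.XT f (Over.mk t)).Modules)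
    (hM : PicF.IsInvertible M) (s : Γ(M, ⊤)) (hs : s ≠ 0) (n : ℕ)
    (hn : chiK f t (mk M hM) = chiK f t 1 + n) :
    ∃ x : Fin n → Pt f (Over.mk t), mk M hM = ∏ i, (gcl f (x i))⁻¹ := by
  obtain ⟨d, x, hx⟩ := Sga7.H780.JacSurjG.exists_divisor' hX K t M hM s hs
  have h1 := chiK_prod_inv hX t x 1
  rw [one_mul, ← hx, hn] at h1
  have hd : d = n := by omega
  subst hd
  exact ⟨x, hx⟩

/-- A class of degree `n` with positive Euler characteristic is a sum of `n` points. -/
theorem exists_sum_points {K : Type u} [Field K] [IsAlgClosed K]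
    (t : Spec (CommRingCat.of K) ⟶ Spec (CommRingCat.of k)) (c : Pic (PicF.XT f (Over.mk t))) (n : ℕ)
    (hn : chiK f t c = chiK f t 1 + n) (hpos : 0 < chiK f t c) :
    ∃ x : Fin n → Pt f (Over.mk t), c = ∏ i, (gcl f (x i))⁻¹ := by
  obtain ⟨M, hM, rfl⟩ := exists_mk c
  let _ := overK f t
  obtain ⟨s, hs⟩ := exists_section_ne_zero K (PicF.XT f (Over.mk t)) M hpos
  exact exists_points_of_section hX t M hM s hs n hn

end sums

/-! ### Classes of tensor products of lists -/

section lists

variable {Y : Scheme.{u}}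

theorem mk_tensorList {n : ℕ} (M : Fin n → Y.Modules) (hM : ∀ i, PicF.IsInvertible (M i)) :
    ∃ h : PicF.IsInvertible (FGA.tensorList (List.ofFn M)), mk _ h = ∏ i, mk (M i) (hM i) := by
  induction n with
  | zero =>
    rw [List.ofFn_zero, Fin.prod_univ_zero]
    exact ⟨isInvertible_structureModule, rfl⟩
  | succ n ih =>
    obtain ⟨h, h'⟩ := ih (fun i => M i.succ) (fun i => hM i.succ)
    rw [List.ofFn_succ, Fin.prod_univ_succ, ← h']
    exact ⟨isInvertible_tensorMod (hM 0) h, rfl⟩

end lists

/-! ### Fibre powers -/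

section powers

variable {X S : Scheme.{u}} (f : X ⟶ S) (n : ℕ)

/-- The `i`-th projection of the fibre power as a point of `X`. -/
noncomputable def powPt (i : Fin n) : Pt f (Jac.powOver f n) :=
  ⟨WidePullback.π (fun _ : Fin n => f) i, WidePullback.π_arrow (fun _ : Fin n => f) i⟩

variable {f n}

/-- The morphism to the fibre power given by `n` points. -/
noncomputable def ptsHom {T : Over S} (x : Fin n → Pt f T) : T ⟶ Jac.powOver f n :=
  Over.homMk (WidePullback.lift T.hom (fun i => (x i).1) (fun i => (x i).2)) (WidePullback.lift_base _ _ _ _)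

theorem powPt_comp_ptsHom {T : Over S} (x : Fin n → Pt f T) (i : Fin n) :
    (powPt f n i).comp (ptsHom x) = x i :=
  Subtype.ext (WidePullback.lift_π _ _ _ _ _)

theorem ptsHom_powPt_comp {T : Over S} (z : T ⟶ Jac.powOver f n) : ptsHom (fun i => (powPt f n i).comp z) = z := by
  ext1
  apply WidePullback.hom_ext
  · intro i
    exact WidePullback.lift_π _ _ _ _ _
  · exact (WidePullback.lift_base _ _ _ _).trans (Over.w z).symm

theorem comp_ptsHom {T T' : Over S} (g : T' ⟶ T) (x : Fin n → Pt f T) :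
    g ≫ ptsHom x = ptsHom (fun i => (x i).comp g) := by
  rw [← ptsHom_powPt_comp (g ≫ ptsHom x)]
  congr 1
  funext i
  have h1 : (powPt f n i).comp (g ≫ ptsHom x) = ((powPt f n i).comp (ptsHom x)).comp g :=
    Subtype.ext (by simp)
  rw [h1, powPt_comp_ptsHom]

variable [SmoothOfRelativeDimension 1 f] [IsSeparated f]

omit [SmoothOfRelativeDimension 1 f] [IsSeparated f] in
theorem graphIdeal_eq (i : Fin n) :
    Jac.graphIdeal f n i = HilbD.secGraph f (Jac.powOver f n) (powPt f n i).1 (powPt f n i).2 := rfl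

theorem isInvertible_graph (i : Fin n) : PicF.IsInvertible (ClSub.idealMod (Jac.graphIdeal f n i)) :=
  Dix.IdealModCartier.isInvertible_idealMod (isEff_secGraph f (powPt f n i))

theorem mk_graph (i : Fin n) : mk _ (isInvertible_graph (f := f) i) = gcl f (powPt f n i) := rfl

/-- The class of a graph-sum family. -/
theorem mk_graphSum {F : (PicF.XT f (Jac.powOver f n)).Modules} (hF : PicF.IsInvertible F) :
    Jac.IsGraphSumFamily f n F ↔ mk F hF = ∏ i, (gcl f (powPt f n i))⁻¹ := by
  obtain ⟨h, h'⟩ := mk_tensorList (fun i : Fin n => ClSub.idealMod (Jac.graphIdeal f n i)) isInvertible_graph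
  have h1 : Jac.IsGraphSumFamily f n F ↔ mk F hF * mk _ h = 1 := by
    rw [mk_mul_mk, mk_eq_one_iff]
    rfl
  rw [h1, h', mul_eq_one_iff_eq_inv, ← Finset.prod_inv_distrib]
  rfl

theorem pull_graphSum {T : Over S} (z : T ⟶ Jac.powOver f n) :
    pull (PicF.XTmap f z) (∏ i, (gcl f (powPt f n i))⁻¹) = ∏ i, (gcl f ((powPt f n i).comp z))⁻¹ := by
  rw [map_prod]
  exact Finset.prod_congr rfl fun i _ => by rw [map_inv, pull_gcl]

end powers

/-! ### The Abel map of a symmetric power on points -/

section abel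

variable {k : Type u} [Field k] {X : Scheme.{u}} {f : X ⟶ Spec (CommRingCat.of k)}
  (hX : Curve.IsSmoothProperCurve k X f) [IsProper f] [Smooth f] [GeometricallyConnected f]
  [SmoothOfRelativeDimension 1 f]

include hX in
/-- A sum of `n` points has degree `n`. -/
theorem isDeg_sum {T : Over (Spec (CommRingCat.of k))} {n : ℕ} (x : Fin n → Pt f T) :
    IsDeg f n (∏ i, (gcl f (x i))⁻¹) := by
  have hgi := geometricallyIntegral f
  intro τ
  rw [chiAt, chiAt, chiPt, chiPt, map_one, map_prod]
  have h := chiK_prod_inv hX (fsr T.left τ ≫ T.hom) (fun i => (x i).comp (ofHom T (fsr T.left τ))) 1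
  rw [one_mul] at h
  rw [← h]
  congr 1
  exact Finset.prod_congr rfl fun i _ => by rw [map_inv, pull_gcl]

theorem abel_eq {n : ℕ} {Y : Scheme.{u}} {q : SymProd.fibPow f n ⟶ Y} {gY : Y ⟶ Spec (CommRingCat.of k)}
    {hq : q ≫ gY = WidePullback.base fun _ : Fin n => f} {J : Over (Spec (CommRingCat.of k))}
    {ψ : (ModFun.PicDeg f n).Hom ⊤ J} {j : Over.mk gY ⟶ J} (hj : Jac.IsAbelMapSym q gY hq ψ j)
    {T : Over (Spec (CommRingCat.of k))} (x : Fin n → Pt f T) :
    ptsHom x ≫ (Over.homMk q hq : Jac.powOver f n ⟶ Over.mk gY) ≫ j = psiCl ψ (∏ i, (gcl f (x i))⁻¹) (isDeg_sum hX x) := by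
  obtain ⟨hP, F, hFok, hF, h⟩ := hj
  have h0 := isInvertible_of_ok hFok
  have h1 := (mk_graphSum h0).1 hF
  rw [h, app_eq ψ hP hFok _ (isDeg_sum hX _) h1, comp_psiCl]
  refine psiCl_congr ψ ?_ _
  rw [pull_graphSum]
  exact Finset.prod_congr rfl fun i _ => by rw [powPt_comp_ptsHom]

end abel

end K914.Points
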