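import Groth.Agent.Jac.K914.Curve
import Groth.Prelude.Def_Jac2

/-!
# Coarse moduli of line bundles of degree `d` on a curve, on the level of classes

* `IsDeg f d c`: the class `c` on `X_T` has fibre degree `d`; stability under pullback, products, inverses.
* `psiCl ψ c hc : T ⟶ J`: the morphism attached to a class; `app_eq`, `comp_psiCl`, `psiCl_mul_proj`.
* `exists_psiCl_eq`, `psiCl_inj`: bijectivity on geometric points.
-/

set_option autoImplicit false
universe u
open CategoryTheory CategoryTheory.Limits AlgebraicGeometry Opposite TopologicalSpace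

namespace K914.Cls

open Groth.Agent Groth.Agent.Grpsch Groth.Agent.Grpsch.PicGrp Groth.Agent.Fga.RigGrp Groth.Agent.Fga.JacSum
open Groth.Agent.Fga.JacAlg Groth.Agent.Picfga.ChiDef Groth.Agent.Fga.JacSurj

variable {k : Type u} [Field k] {X : Scheme.{u}} (f : X ⟶ Spec (CommRingCat.of k))

/-- The class `c` on `X_T` has degree `d` on the fibres. -/
def IsDeg (d : ℤ) {T : Over (Spec (CommRingCat.of k))} (c : Pic (PicF.XT f T)) : Prop :=
  ∀ τ : T.left, chiAt f T τ c = chiAt f T τ 1 + d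

variable {f}

section basic

variable [QuasiCompact f] [QuasiSeparated f]

theorem IsDeg.pull {d : ℤ} {T T' : Over (Spec (CommRingCat.of k))} {c : Pic (PicF.XT f T)}
    (hc : IsDeg f d c) (g : T' ⟶ T) : IsDeg f d (pull (PicF.XTmap f g) c) := by
  intro τ
  have h1 := chiAt_pull (Fga.JacFib.bcStep f) g τ 1
  rw [map_one] at h1
  rw [chiAt_pull (Fga.JacFib.bcStep f), hc, h1]

/-- The degree can be tested along the pullback to any field-valued point. -/
theorem chiPt_eq {d : ℤ} {T : Over (Spec (CommRingCat.of k))} {c : Pic (PicF.XT f T)} (hc : IsDeg f d c)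
    {K : Type u} [Field K] (y : Spec (CommRingCat.of K) ⟶ T.left) :
    chiPt f T y c = chiPt f T y 1 + d := by
  have hz : ∀ z', y z' = y (default : PrimeSpectrum K) := fun z' => by
    rw [Subsingleton.elim (α := PrimeSpectrum K) z' (default : PrimeSpectrum K)]
  rw [chiPt_eq_chiAt (Fga.JacFib.bcStep f) T y _ hz, chiPt_eq_chiAt (Fga.JacFib.bcStep f) T y _ hz]
  exact hc _

/-- Over a field, the degree is measured by `chiK`. -/
theorem isDeg_iff_chiK {d : ℤ} {K : Type u} [Field K] (t : Spec (CommRingCat.of K) ⟶ Spec (CommRingCat.of k))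
    (c : Pic (PicF.XT f (Over.mk t))) :
    IsDeg f d c ↔ chiK f t c = chiK f t 1 + d := by
  have key : ∀ (c : Pic (PicF.XT f (Over.mk t))) (τ : (Over.mk t).left), chiAt f (Over.mk t) τ c = chiK f t c := by
    intro c τ
    have h1 := chiPt_eq_chiAt (Fga.JacFib.bcStep f) (Over.mk t) (𝟙 (Spec (CommRingCat.of K))) τ
      (fun z => Subsingleton.elim (α := PrimeSpectrum K) _ _) c
    rw [← h1, chiPt]
    have h2 := chiK_congr (f := f) (t := 𝟙 (Spec (CommRingCat.of K)) ≫ (Over.mk t).hom) (t' := t)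
      (Category.id_comp _) (ofHom (Over.mk t) (𝟙 (Spec (CommRingCat.of K)))) (𝟙 (Over.mk t)) rfl c
    rw [h2, XTmap_id, pull_id]
  constructor
  · intro h
    let z : (Over.mk t).left := (default : PrimeSpectrum K)
    have h1 := h z
    rwa [key, key] at h1
  · intro h τ
    rw [key, key]
    exact h

end basic

section ok

variable [IsProper f] [Smooth f] [GeometricallyConnected f] [SmoothOfRelativeDimension 1 f]

theorem ok_iff {d : ℤ} {T : Over (Spec (CommRingCat.of k))} {L : (PicF.XT f T).Modules}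
    (hL : PicF.IsInvertible L) : (ModFun.PicDeg f d).ok T L ↔ IsDeg f d (mk L hL) := by
  rw [Curve.ok_iff]
  exact ⟨fun ⟨_, h⟩ => h, fun h => ⟨hL, h⟩⟩

omit [IsProper f] [Smooth f] [GeometricallyConnected f] [SmoothOfRelativeDimension 1 f] in
theorem isInvertible_of_ok {d : ℤ} {T : Over (Spec (CommRingCat.of k))} {L : (PicF.XT f T).Modules}
    (h : (ModFun.PicDeg f d).ok T L) : PicF.IsInvertible L :=
  Ega2.QCohLocal.isFinLocFreeOfRank_one_iff.1 h.1.2

theorem isDeg_of_ok {d : ℤ} {T : Over (Spec (CommRingCat.of k))} {L : (PicF.XT f T).Modules}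
    (h : (ModFun.PicDeg f d).ok T L) : IsDeg f d (mk L (isInvertible_of_ok h)) :=
  (ok_iff _).1 h

variable {d : ℤ} {J : Over (Spec (CommRingCat.of k))} (ψ : (ModFun.PicDeg f d).Hom ⊤ J)

/-- The morphism attached to a class of degree `d`. -/
noncomputable def psiCl {T : Over (Spec (CommRingCat.of k))} (c : Pic (PicF.XT f T)) (hc : IsDeg f d c) : T ⟶ J :=
  ψ.app T (exists_mk c).choose trivial
    ((ok_iff (exists_mk c).choose_spec.choose).2 ((exists_mk c).choose_spec.choose_spec ▸ hc))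

omit [IsProper f] [Smooth f] [GeometricallyConnected f] [SmoothOfRelativeDimension 1 f] in
theorem app_eq_app_of_mul {T : Over (Spec (CommRingCat.of k))} {L L' : (PicF.XT f T).Modules}
    (hL : (ModFun.PicDeg f d).ok T L) (hL' : (ModFun.PicDeg f d).ok T L') (m : Pic T.left)
    (h : mk L' (isInvertible_of_ok hL') = mk L (isInvertible_of_ok hL) * pull (PicF.XTproj f T) m) :
    ψ.app T L trivial hL = ψ.app T L' trivial hL' := by
  obtain ⟨M, hM, rfl⟩ := exists_mk m
  refine ψ.resp L L' trivial hL hL' ⟨M, hM, ?_⟩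
  rw [pull_mk, mk_mul_mk, mk_eq_iff] at h
  exact h

theorem app_eq {T : Over (Spec (CommRingCat.of k))} {L : (PicF.XT f T).Modules} (hT : (⊤ : ObjectProperty _) T)
    (hL : (ModFun.PicDeg f d).ok T L) (c : Pic (PicF.XT f T)) (hc : IsDeg f d c)
    (h : mk L (isInvertible_of_ok hL) = c) : ψ.app T L hT hL = psiCl ψ c hc := by
  subst h
  refine app_eq_app_of_mul ψ hL _ 1 ?_
  rw [map_one, mul_one]
  exact (exists_mk (mk L (isInvertible_of_ok hL))).choose_spec.choose_spec.symm

theorem app_eq' {T : Over (Spec (CommRingCat.of k))} {L : (PicF.XT f T).Modules} (hT : (⊤ : ObjectProperty _) T)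
    (hL : (ModFun.PicDeg f d).ok T L) :
    ψ.app T L hT hL = psiCl ψ (mk L (isInvertible_of_ok hL)) (isDeg_of_ok hL) := app_eq ψ hT hL _ _ rfl

theorem psiCl_congr {T : Over (Spec (CommRingCat.of k))} {c c' : Pic (PicF.XT f T)} (h : c = c') (hc : IsDeg f d c) :
    psiCl ψ c hc = psiCl ψ c' (h ▸ hc) := by
  subst h; rfl

theorem comp_psiCl {T T' : Over (Spec (CommRingCat.of k))} (g : T' ⟶ T) (c : Pic (PicF.XT f T)) (hc : IsDeg f d c) :
    g ≫ psiCl ψ c hc = psiCl ψ (pull (PicF.XTmap f g) c) (hc.pull g) := by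
  obtain ⟨L, hL, rfl⟩ := exists_mk c
  have hok : (ModFun.PicDeg f d).ok T L := (ok_iff hL).2 hc
  have hok' : (ModFun.PicDeg f d).ok T' ((ModFun.PicDeg f d).pull g L) :=
    (ok_iff (Fdesc.LocGen.isInvertible_pullback _ hL)).2 (hc.pull g)
  rw [← app_eq ψ trivial hok _ hc rfl, ← ψ.natural g L trivial trivial hok hok']
  exact app_eq ψ trivial hok' _ _ rfl

theorem psiCl_mul_proj {T : Over (Spec (CommRingCat.of k))} (c c' : Pic (PicF.XT f T)) (m : Pic T.left)
    (hc : IsDeg f d c) (hc' : IsDeg f d c') (h : c' = c * pull (PicF.XTproj f T) m) :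
    psiCl ψ c hc = psiCl ψ c' hc' := by
  obtain ⟨L, hL, rfl⟩ := exists_mk c
  obtain ⟨L', hL', rfl⟩ := exists_mk c'
  rw [← app_eq ψ trivial ((ok_iff hL).2 hc) _ hc rfl, ← app_eq ψ trivial ((ok_iff hL').2 hc') _ hc' rfl]
  exact app_eq_app_of_mul ψ _ _ m h

variable (hJ : ModFun.IsCoarseModuli ⊤ (ModFun.PicDeg f d) J ψ)

include hJ

theorem exists_psiCl_eq {Ω : Type u} [Field Ω] [IsAlgClosed Ω] (t : Spec (CommRingCat.of Ω) ⟶ Spec (CommRingCat.of k))
    (g : Over.mk t ⟶ J) : ∃ (c : Pic (PicF.XT f (Over.mk t))) (hc : IsDeg f d c), psiCl ψ c hc = g := by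
  obtain ⟨L, hL, rfl⟩ := (hJ.2.2 Ω t trivial).1 g
  exact ⟨_, isDeg_of_ok hL, (app_eq' ψ _ hL).symm⟩

theorem psiCl_inj {Ω : Type u} [Field Ω] [IsAlgClosed Ω] {t : Spec (CommRingCat.of Ω) ⟶ Spec (CommRingCat.of k)}
    {c c' : Pic (PicF.XT f (Over.mk t))} (hc : IsDeg f d c) (hc' : IsDeg f d c')
    (h : psiCl ψ c hc = psiCl ψ c' hc') : c = c' := by
  obtain ⟨L, hL, rfl⟩ := exists_mk c
  obtain ⟨L', hL', rfl⟩ := exists_mk c'
  rw [← app_eq ψ trivial ((ok_iff hL).2 hc) _ hc rfl, ← app_eq ψ trivial ((ok_iff hL').2 hc') _ hc' rfl] at h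
  obtain ⟨M, hM, ⟨e⟩⟩ := (hJ.2.2 Ω t trivial).2 L L' _ _ h
  have h1 : mk L' hL' = mk L hL * pull (PicF.XTproj f (Over.mk t)) (mk M hM) := by
    rw [pull_mk, mk_mul_mk]
    exact mk_congr e
  have h2 : mk M hM = 1 := pic_spec_local Ω _
  rw [h2, map_one, mul_one] at h1
  exact h1.symm

/-- Every point of `J` is the image of a class over an algebraically closed field. -/
theorem exists_geomPt (y : J.left) : ∃ (Ω : Type u) (_ : Field Ω) (_ : IsAlgClosed Ω)
    (t : Spec (CommRingCat.of Ω) ⟶ Spec (CommRingCat.of k)) (c : Pic (PicF.XT f (Over.mk t))) (hc : IsDeg f d c),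
    ∀ z, (psiCl ψ c hc).left z = y := by
  let K := AlgebraicClosure (J.left.residueField y)
  let φ : CommRingCat.of (J.left.residueField y) ⟶ CommRingCat.of K :=
    CommRingCat.ofHom (algebraMap (J.left.residueField y) K)
  let a : Spec (CommRingCat.of K) ⟶ J.left := Spec.map φ ≫ fsr J.left y
  obtain ⟨c, hc, h⟩ := exists_psiCl_eq ψ hJ (a ≫ J.hom) (ofHom J a)
  refine ⟨K, inferInstance, inferInstance, a ≫ J.hom, c, hc, fun z => ?_⟩
  rw [h]
  change (Spec.map φ ≫ fsr J.left y) z = y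
  rw [Scheme.Hom.comp_apply, fsr_apply]

end ok

end K914.Cls
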