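import Groth.Agent.Jac.K914.Cls
import Groth.Agent.Ega3A.PicLocBase
import Groth.Agent.Ega3A.PicLocEq
import Groth.Agent.Ega3A.PicRelImm
import Groth.Agent.S4289

/-!
# The étale Picard scheme of a smooth proper geometrically connected curve, on the level of classes

* `ph φ c : T ⟶ P`; `comp_ph`, `ph_mul_proj`, `ph_eq_iff` (Zariski-local equality), `hom φ d`: the induced morphism
  from the moduli problem of line bundles of degree `d`, and `exists_factor`.
-/

set_option autoImplicit false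
universe u
open CategoryTheory CategoryTheory.Limits AlgebraicGeometry Opposite TopologicalSpace

namespace K914.EtPic

open Groth.Agent Groth.Agent.Grpsch Groth.Agent.Grpsch.PicGrp Groth.Agent.Fga.RigGrp Groth.Agent.Fga.JacSum
open Groth.Agent.Fga.JacAlg Groth.Agent.Picfga.ChiDef Groth.Agent.Fga.JacSurj
open Groth.Agent.Ega3A.PicDiv Groth.Agent.Ega3A.PicSheaf Groth.Agent.Ega3A.PicLocBase Groth.Agent.Ega3A.PicGood
open Groth.Agent.Picfga.OverRep
open K914.Curve K914.Cls

variable {k : Type u} [Field k] {X : Scheme.{u}} {f : X ⟶ Spec (CommRingCat.of k)}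
  {P : Over (Spec (CommRingCat.of k))} {φ : ∀ T : Over (Spec (CommRingCat.of k)), PicF.Cl (PicF.XT f T) → (T ⟶ P)}

/-- The morphism attached to a class. -/
noncomputable def ph (φ : ∀ T : Over (Spec (CommRingCat.of k)), PicF.Cl (PicF.XT f T) → (T ⟶ P))
    {T : Over (Spec (CommRingCat.of k))} (c : Pic (PicF.XT f T)) : T ⟶ P := φ T (Groth.Agent.Fga.RigGrp.toCl c)

section

variable (hφ : PicRel.IsRelPic f P φ)

include hφ

theorem comp_ph {T T' : Over (Spec (CommRingCat.of k))} (g : T' ⟶ T) (c : Pic (PicF.XT f T)) :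
    g ≫ ph φ c = ph φ (pull (PicF.XTmap f g) c) := (nat' hφ g c).symm

theorem locEq_iff' {T : Over (Spec (CommRingCat.of k))} (c c' : Pic (PicF.XT f T)) :
    LocEq f T c c' ↔ ph φ c = ph φ c' := locEq_iff hφ c c'

theorem ph_mul_proj {T : Over (Spec (CommRingCat.of k))} (c : Pic (PicF.XT f T)) (m : Pic T.left) :
    ph φ (c * pull (PicF.XTproj f T) m) = ph φ c := by
  rw [← locEq_iff' hφ]
  obtain ⟨𝒰, h⟩ := Ega3A.PicRelImm.locEq_of_proj (f := f) T m
  refine ⟨𝒰, fun i => ?_⟩
  rw [map_mul, h i, map_one, mul_one]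

theorem ph_congr_open [IsProper f] [Smooth f] [GeometricallyConnected f] {T : Over (Spec (CommRingCat.of k))}
    (c c' : Pic (PicF.XT f T)) (h : ph φ c = ph φ c') (t : T.left) :
    ∃ U : T.left.Opens, t ∈ U ∧ pull (PicF.XTmap f (res T U)) c = pull (PicF.XTmap f (res T U)) c' := by
  have hgi := geometricallyIntegral f
  have hG : GInt f := fun Ω _ _ s =>
    GeometricallyIntegral.geometrically_isIntegral (f := f) _ _ _ (IsPullback.of_hasPullback f s)
  exact Ega3A.PicLocEq.exists_open hG ((locEq_iff' hφ c c').2 h) t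

theorem ph_twist {T : Over (Spec (CommRingCat.of k))} {L L' : (PicF.XT f T).Modules} (hL : PicF.IsInvertible L)
    (hL' : PicF.IsInvertible L') {M : T.left.Modules} (hM : PicF.IsInvertible M)
    (e : L' ≅ CohB1.tensorMod L ((Scheme.Modules.pullback (PicF.XTproj f T)).obj M)) :
    ph φ (mk L hL) = ph φ (mk L' hL') := by
  have h1 : mk L' hL' = mk L hL * pull (PicF.XTproj f _) (mk M hM) := by
    rw [pull_mk, mk_mul_mk]
    exact mk_congr e
  rw [h1, ph_mul_proj hφ]

/-- The morphism from the moduli problem of line bundles of degree `d`. -/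
noncomputable def hom (d : ℤ) : (ModFun.PicDeg f d).Hom ⊤ P where
  app T L _ hL := ph φ (mk L (isInvertible_of_ok hL))
  natural g L _ _ hL _ := (comp_ph hφ g (mk L (isInvertible_of_ok hL))).symm
  resp L L' _ hL hL' h := by
    obtain ⟨M, hM, ⟨e⟩⟩ := h
    exact ph_twist hφ _ _ hM e

theorem psiCl_hom [IsProper f] [Smooth f] [GeometricallyConnected f] [SmoothOfRelativeDimension 1 f] {d : ℤ}
    {T : Over (Spec (CommRingCat.of k))} (c : Pic (PicF.XT f T)) (hc : IsDeg f d c) :
    psiCl (hom hφ d) c hc = ph φ c := by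
  obtain ⟨L, hL, rfl⟩ := exists_mk c
  rw [← app_eq (hom hφ d) trivial ((ok_iff hL).2 hc) _ hc rfl]
  rfl

/-- A coarse moduli scheme of line bundles of degree `d` maps to the étale Picard scheme. -/
theorem exists_factor [IsProper f] [Smooth f] [GeometricallyConnected f] [SmoothOfRelativeDimension 1 f] {d : ℤ}
    {J : Over (Spec (CommRingCat.of k))} {ψ : (ModFun.PicDeg f d).Hom ⊤ J}
    (hJ : ModFun.IsCoarseModuli ⊤ (ModFun.PicDeg f d) J ψ) :
    ∃ g : J ⟶ P, ∀ {T : Over (Spec (CommRingCat.of k))} (c : Pic (PicF.XT f T)) (hc : IsDeg f d c),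
      psiCl ψ c hc ≫ g = ph φ c := by
  obtain ⟨g, hg, -⟩ := hJ.2.1 P (hom hφ d)
  refine ⟨g, fun {T} c hc => ?_⟩
  rw [← psiCl_hom hφ c hc]
  exact (hg T _ trivial _).symm

end

end K914.EtPic
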