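import Groth.Agent.Jac.K914.HUniq
import Groth.Agent.Jac.K914.EtPic
import Groth.Agent.SymProd.K992.CurveSym
import Groth.Agent.CalgB.ProjField
import Groth.Agent.Pic13.H932.AFProj
import Groth.Agent.S3042

/-!
# The Abel map of a universal divisor is an immersion over the locus `h⁰ = 1`

* `ucl Z`: the class `O(Z)` of a universal divisor; `pull_ucl`.
* `hAt_eq_of_eq`: `h⁰` is constant on the fibres of the Abel map.
* `eq_of_comp`: the Abel map is injective on `T`-points over field-valued points, on the locus `h⁰ = 1`.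
* `exists_immersion`.
-/

set_option autoImplicit false
universe u
open CategoryTheory CategoryTheory.Limits AlgebraicGeometry Opposite TopologicalSpace

namespace K914.AbelImm

open Groth.Agent Groth.Agent.Grpsch Groth.Agent.Grpsch.PicGrp Groth.Agent.Fga.RigGrp Groth.Agent.Fga.JacSum
open Groth.Agent.Fga.JacAlg Groth.Agent.Picfga.ChiDef Groth.Agent.Fga.JacSurj
open Groth.Agent.Fga.JacFactor Groth.Agent.Dix.IdealModCartier Groth.Agent.Picfga.OverRep
open K914.Curve K914.Cls K914.Points K914.HField K914.Sc K914.EtPic K914.HUniq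

variable {k : Type u} [Field k] {X : Scheme.{u}} {f : X ⟶ Spec (CommRingCat.of k)}
  [SmoothOfRelativeDimension 1 f]

/-- The class of a family of divisors. -/
noncomputable def ucl {n : ℕ} {T : Over (Spec (CommRingCat.of k))} (Z : HilbD.Obj f n T) : Pic (PicF.XT f T) :=
  (dcl Z.1 (isEff T Z.2.1))⁻¹

theorem pull_ucl {n : ℕ} {T T' : Over (Spec (CommRingCat.of k))} (Z : HilbD.Obj f n T) (g : T' ⟶ T)
    (I : (PicF.XT f T').IdealSheafData) (hI : BlowUp.IsEffCartierIdeal I) (h : HilbD.pull f g Z.1 = I) :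
    (dcl I hI)⁻¹ = pull (PicF.XTmap f g) (ucl Z) := by
  subst h
  rw [ucl, map_inv, inv_inj]
  have h1 := Picfga.HilbPull.pull_eq_comap f g Z.1
  rw [dcl, dcl, pull_mk, mk_eq_iff]
  obtain ⟨e⟩ := pullback_idealMod (PicF.XTmap f g) (isEff T Z.2.1) (h1 ▸ hI)
  exact ⟨eqToIso (by rw [h1]) ≪≫ e.symm⟩

section univ

variable [IsProper f] [Smooth f] [GeometricallyConnected f] {n : ℕ} {H : Over (Spec (CommRingCat.of k))}
  {P : Over (Spec (CommRingCat.of k))} {φ : ∀ T : Over (Spec (CommRingCat.of k)), PicF.Cl (PicF.XT f T) → (T ⟶ P)}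
  (hφ : PicRel.IsRelPic f P φ)

include hφ

omit [SmoothOfRelativeDimension 1 f] in
/-- `h⁰` is constant on the fibres of the morphism given by a class. -/
theorem hAt_eq_of_eq (c : Pic (PicF.XT f H)) (i : ℕ) (y₁ y₂ : H.left) (h : (ph φ c).left y₁ = (ph φ c).left y₂) :
    hAt f H i c y₁ = hAt f H i c y₂ := by
  obtain ⟨z, hz₁, hz₂⟩ := Scheme.Pullback.exists_preimage_pullback y₁ y₂ h
  let W : Over (Spec (CommRingCat.of k)) := Over.mk (pullback.fst (ph φ c).left (ph φ c).left ≫ H.hom)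
  let a : W ⟶ H := Over.homMk (pullback.fst (ph φ c).left (ph φ c).left) rfl
  let b : W ⟶ H := Over.homMk (pullback.snd (ph φ c).left (ph φ c).left) (by
    change pullback.snd (ph φ c).left (ph φ c).left ≫ H.hom = pullback.fst (ph φ c).left (ph φ c).left ≫ H.hom
    rw [← Over.w (ph φ c), ← Category.assoc, ← Category.assoc, pullback.condition])
  have hab : a ≫ ph φ c = b ≫ ph φ c := Over.OverMorphism.ext pullback.condition
  rw [comp_ph hφ, comp_ph hφ] at hab
  obtain ⟨U, hzU, hU⟩ := ph_congr_open hφ _ _ hab z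
  have h1 := hAt_pull W (res W U) i (pull (PicF.XTmap f a) c) (⟨z, hzU⟩ : U)
  have h2 := hAt_pull W (res W U) i (pull (PicF.XTmap f b) c) (⟨z, hzU⟩ : U)
  rw [hU, h2, hAt_pull, hAt_pull] at h1
  have h3 : a.left ((res W U).left (⟨z, hzU⟩ : U)) = y₁ := hz₁
  have h4 : b.left ((res W U).left (⟨z, hzU⟩ : U)) = y₂ := hz₂
  rw [h3, h4] at h1
  exact h1.symm

/-- The Abel map is injective on `T`-points lying over a field-valued point with `h⁰ = 1`. -/
theorem eq_of_comp {Z : HilbD.Obj f n H} (hZ : HilbD.IsUniversal f n H Z) {K : Type u} [Field K]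
    {t : Spec (CommRingCat.of K) ⟶ Spec (CommRingCat.of k)} (y : Over.mk t ⟶ H)
    (hy : hK f t 0 (pull (PicF.XTmap f y) (ucl Z)) = 1) {T : Over (Spec (CommRingCat.of k))} (r : T ⟶ Over.mk t)
    (a b : T ⟶ H) (ha : a ≫ ph φ (ucl Z) = r ≫ y ≫ ph φ (ucl Z)) (hb : b ≫ ph φ (ucl Z) = r ≫ y ≫ ph φ (ucl Z)) :
    a = b := by
  rw [comp_ph hφ, comp_ph hφ, comp_ph hφ] at ha hb
  ext1
  refine Scheme.hom_ext_of_forall _ _ fun τ => ?_
  obtain ⟨U₁, hτ₁, hU₁⟩ := ph_congr_open hφ _ _ ha τ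
  obtain ⟨U₂, hτ₂, hU₂⟩ := ph_congr_open hφ _ _ hb τ
  obtain ⟨V, hτV, hV⟩ := exists_affine_mem_le (U₁ ⊓ U₂) τ ⟨hτ₁, hτ₂⟩
  refine ⟨V.1, hτV, ?_⟩
  let r' : Spec (CommRingCat.of Γ(T.left, V.1)) ⟶ Spec (CommRingCat.of k) := V.2.fromSpec ≫ T.hom
  let s : Over.mk r' ⟶ T := Over.homMk V.2.fromSpec rfl
  have key : ∀ (U : T.left.Opens) (_ : V.1 ≤ U), ∃ s' : Over.mk r' ⟶ Over.mk (U.ι ≫ T.hom), s' ≫ res T U = s := by
    intro U hVU
    have h1 : V.2.fromSpec = V.2.isoSpec.inv ≫ T.left.homOfLE hVU ≫ U.ι := by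
      rw [Scheme.homOfLE_ι]
      exact (V.2.isoSpec_inv_ι).symm
    refine ⟨Over.homMk (V.2.isoSpec.inv ≫ T.left.homOfLE hVU) ?_, ?_⟩
    · change (V.2.isoSpec.inv ≫ T.left.homOfLE hVU) ≫ U.ι ≫ T.hom = V.2.fromSpec ≫ T.hom
      rw [h1]
      simp only [Category.assoc]
    · ext1
      change (V.2.isoSpec.inv ≫ T.left.homOfLE hVU) ≫ U.ι = V.2.fromSpec
      rw [h1, Category.assoc]
  have hs : ∀ (U : T.left.Opens) (_ : V.1 ≤ U) (c c' : Pic (PicF.XT f T)),
      pull (PicF.XTmap f (res T U)) c = pull (PicF.XTmap f (res T U)) c' →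
      pull (PicF.XTmap f s) c = pull (PicF.XTmap f s) c' := by
    intro U hVU c c' h
    obtain ⟨s', hs'⟩ := key U hVU
    rw [← hs', XTmap_comp, pull_comp, pull_comp, h]
  have h1 := hs U₁ (hV.trans inf_le_left) _ _ hU₁
  have h2 := hs U₂ (hV.trans inf_le_right) _ _ hU₂
  rw [← pull_comp, ← XTmap_comp] at h1 h2
  rw [← pull_comp, ← XTmap_comp] at h1 h2
  let I₁ : HilbD.Obj f n (Over.mk r') := Picfga.HilbPull.pullObj f (s ≫ a) Z
  let I₂ : HilbD.Obj f n (Over.mk r') := Picfga.HilbPull.pullObj f (s ≫ b) Z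
  have e1 := pull_ucl Z (s ≫ a) I₁.1 (isEff _ I₁.2.1) rfl
  have e2 := pull_ucl Z (s ≫ b) I₂.1 (isEff _ I₂.2.1) rfl
  rw [h1] at e1
  rw [h2] at e2
  have h3 : I₁.1 = I₂.1 := ideal_unique (s ≫ r) _ hy I₁.2.1 I₂.2.1 e1 e2
  have h4 : s ≫ a = s ≫ b := (hZ (Over.mk r') I₂).unique h3 rfl
  have h5 : V.2.fromSpec ≫ a.left = V.2.fromSpec ≫ b.left := congrArg CommaMorphism.left h4
  rw [← V.2.isoSpec_inv_ι, Category.assoc, Category.assoc, cancel_epi] at h5
  exact h5

/-- The same over a residue field of the target. -/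
theorem eq_of_residue {Z : HilbD.Obj f n H} (hZ : HilbD.IsUniversal f n H Z) (p : P.left) {T : Scheme.{u}}
    (a b : T ⟶ H.left) (c : T ⟶ Spec (P.left.residueField p))
    (ha : a ≫ (ph φ (ucl Z)).left = c ≫ P.left.fromSpecResidueField p)
    (hb : b ≫ (ph φ (ucl Z)).left = c ≫ P.left.fromSpecResidueField p)
    (y : H.left) (hy : (ph φ (ucl Z)).left y = p) (h1 : hAt f H 0 (ucl Z) y = 1) : a = b := by
  subst hy
  let m := Spec.map ((ph φ (ucl Z)).left.residueFieldMap y)
  have hm : m ≫ P.left.fromSpecResidueField _ = H.left.fromSpecResidueField y ≫ (ph φ (ucl Z)).left :=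
    Scheme.Hom.SpecMap_residueFieldMap_fromSpecResidueField _ _
  have hs1 : Subsingleton (Spec (P.left.residueField ((ph φ (ucl Z)).left y))) :=
    inferInstanceAs (Subsingleton (PrimeSpectrum (P.left.residueField ((ph φ (ucl Z)).left y))))
  have hs2 : Surjective m := ⟨fun z => ⟨(default : PrimeSpectrum (H.left.residueField y)), Subsingleton.elim _ _⟩⟩
  have hs3 : Flat m := inferInstance
  have hs4 : Epi (pullback.fst c m) := Flat.epi_of_flat_of_surjective _
  let T' : Over (Spec (CommRingCat.of k)) := Over.mk (pullback.fst c m ≫ a ≫ H.hom)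
  let t : Spec (CommRingCat.of (H.left.residueField y)) ⟶ Spec (CommRingCat.of k) := fsr H.left y ≫ H.hom
  let yy : Over.mk t ⟶ H := ofHom H (fsr H.left y)
  have hP : P.hom = P.hom := rfl
  have hc : a ≫ H.hom = c ≫ P.left.fromSpecResidueField _ ≫ P.hom := by
    rw [← Over.w (ph φ (ucl Z)), ← Category.assoc, ha, Category.assoc]
  have hc' : b ≫ H.hom = c ≫ P.left.fromSpecResidueField _ ≫ P.hom := by
    rw [← Over.w (ph φ (ucl Z)), ← Category.assoc, hb, Category.assoc]
  let a' : T' ⟶ H := Over.homMk (pullback.fst c m ≫ a) (Category.assoc _ _ _)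
  let b' : T' ⟶ H := Over.homMk (pullback.fst c m ≫ b) (by
    change (pullback.fst c m ≫ b) ≫ H.hom = pullback.fst c m ≫ a ≫ H.hom
    rw [Category.assoc, hc, hc'])
  let r : T' ⟶ Over.mk t := Over.homMk (pullback.snd c m) (by
    change pullback.snd c m ≫ H.left.fromSpecResidueField y ≫ H.hom = pullback.fst c m ≫ a ≫ H.hom
    have h0 := congrArg (· ≫ P.left.fromSpecResidueField _ ≫ P.hom) (pullback.condition (f := c) (g := m))
    simp only [Category.assoc] at h0
    rw [hc, h0, ← Over.w (ph φ (ucl Z)), ← Category.assoc (H.left.fromSpecResidueField y), ← hm, Category.assoc])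
  have e1 : (pullback.fst c m ≫ a) ≫ (ph φ (ucl Z)).left =
      pullback.snd c m ≫ H.left.fromSpecResidueField y ≫ (ph φ (ucl Z)).left := by
    rw [Category.assoc, ha, ← hm, ← Category.assoc, ← Category.assoc, pullback.condition]
  have e2 : (pullback.fst c m ≫ b) ≫ (ph φ (ucl Z)).left =
      pullback.snd c m ≫ H.left.fromSpecResidueField y ≫ (ph φ (ucl Z)).left := by
    rw [Category.assoc, hb, ← hm, ← Category.assoc, ← Category.assoc, pullback.condition]
  have h2 : a' = b' := eq_of_comp hφ hZ yy h1 r a' b' (Over.OverMorphism.ext e1) (Over.OverMorphism.ext e2)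
  have h3 : pullback.fst c m ≫ a = pullback.fst c m ≫ b := congrArg CommaMorphism.left h2
  rwa [cancel_epi] at h3

/-- The locus `h⁰ = 1` of a universal divisor is immersed in the Picard scheme. -/
theorem exists_immersion {Z : HilbD.Obj f n H} (hZ : HilbD.IsUniversal f n H Z) [IsProper H.hom] [IsSeparated P.hom]
    (hpos : ∀ y : H.left, 0 < hAt f H 0 (ucl Z) y) (y₀ : H.left) (hy₀ : hAt f H 0 (ucl Z) y₀ < 2) :
    ∃ U : H.left.Opens, y₀ ∈ U ∧ IsImmersion (U.ι ≫ (ph φ (ucl Z)).left) := by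
  let j : H.left ⟶ P.left := (ph φ (ucl Z)).left
  have hj : IsProper j := by
    have : IsProper (j ≫ P.hom) := by
      change IsProper ((ph φ (ucl Z)).left ≫ P.hom)
      rw [Over.w]; infer_instance
    exact IsProper.of_comp j P.hom
  let U₀ : H.left.Opens := ⟨_, isOpen_hAt H 0 (ucl Z) 2⟩
  have hcl : IsClosed (j '' (U₀ : Set H.left)ᶜ) := j.isClosedMap _ U₀.2.isClosed_compl
  let V : P.left.Opens := ⟨_, hcl.isOpen_compl⟩
  have hV : j ⁻¹ᵁ V = U₀ := by
    ext y
    constructor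
    · intro hy
      by_contra hy'
      exact hy ⟨y, hy', rfl⟩
    · rintro hy ⟨y', hy', h⟩
      apply hy'
      change hAt f H 0 (ucl Z) y' < 2
      rw [hAt_eq_of_eq hφ (ucl Z) 0 y' y h]
      exact hy
  have hmono : Mono (j ∣_ V) := by
    rw [S3042.result]
    intro v
    constructor
    suffices hsuff : ∀ {T : Scheme.{u}} (α β : T ⟶ pullback (j ∣_ V) (V.toScheme.fromSpecResidueField v)),
        α ≫ pullback.snd _ _ = β ≫ pullback.snd _ _ → α = β from fun {_} α β h => hsuff α β h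
    intro T α β hαβ
    rcases isEmpty_or_nonempty T with hT | ⟨⟨τ⟩⟩
    · exact (isInitialOfIsEmpty (X := T)).hom_ext _ _
    apply pullback.hom_ext ?_ hαβ
    rw [← cancel_mono (j ⁻¹ᵁ V).ι]
    have hw : ∀ γ : T ⟶ pullback (j ∣_ V) (V.toScheme.fromSpecResidueField v), ((γ ≫ pullback.fst _ _) ≫ (j ⁻¹ᵁ V).ι) ≫ j =
        (γ ≫ pullback.snd _ _) ≫ Spec.map (V.ι.residueFieldMap v) ≫ P.left.fromSpecResidueField (V.ι v) := by
      intro γ
      rw [Scheme.Hom.SpecMap_residueFieldMap_fromSpecResidueField, Category.assoc, ← morphismRestrict_ι,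
        Category.assoc, Category.assoc, ← Category.assoc (pullback.fst _ _), pullback.condition, Category.assoc]
    have ha := hw α
    have hb := hw β
    rw [← hαβ] at hb
    rw [← Category.assoc (α ≫ pullback.snd _ _)] at ha hb
    let y : H.left := ((α ≫ pullback.fst _ _) ≫ (j ⁻¹ᵁ V).ι) τ
    have hy : j y = V.ι v := by
      have h1 := congr($(ha) τ)
      rw [Scheme.Hom.comp_apply _ j, Scheme.Hom.comp_apply _ (P.left.fromSpecResidueField (V.ι v)),
        Scheme.fromSpecResidueField_apply] at h1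
      exact h1
    have hyU : y ∈ U₀ := by
      rw [← hV]
      exact ((α ≫ pullback.fst _ _) τ).2
    have h1 : hAt f H 0 (ucl Z) y = 1 := le_antisymm (Nat.lt_succ_iff.1 hyU) (hpos y)
    exact eq_of_residue hφ hZ (V.ι v) _ _ _ ha hb y hy h1
  have h1 : IsClosedImmersion (j ∣_ V) := (IsClosedImmersion.iff_isProper_and_mono _).2 ⟨inferInstance, hmono⟩
  refine ⟨j ⁻¹ᵁ V, ?_, ?_⟩
  · rw [hV]; exact hy₀
  · change IsImmersion ((j ⁻¹ᵁ V).ι ≫ j)
    rw [← morphismRestrict_ι]
    infer_instance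

end univ

end K914.AbelImm
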