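import Groth.Agent.Jac.K914.PtDrop
import Groth.Agent.Variety.K432.CurveLift
import Groth.Agent.Sga4h.GenULADim

/-!
# Transcendence degree against `h⁰`

* `trdegAt_XTproj_le`, `mem_open_of_trdegAt_ne_zero`: points of the curve `X_F`.
* `exists_chain`: if `x_1, ..., x_n` are `Ω`-points and `c` is a class over `F` with `h⁰(c_Ω - Σ x_i) > 0`, then the `x_i`
  are defined over some `E` between `F` and `Ω` with `trdeg(E/F) + h⁰(c_Ω - Σ x_i) ≤ h⁰(c)`.
-/

set_option autoImplicit false
universe u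
open CategoryTheory CategoryTheory.Limits AlgebraicGeometry Opposite TopologicalSpace

namespace K914.Chain

open Groth.Agent Groth.Agent.Grpsch Groth.Agent.Grpsch.PicGrp Groth.Agent.Fga.RigGrp Groth.Agent.Fga.JacSum
open Groth.Agent.Fga.JacAlg Groth.Agent.Picfga.ChiDef Groth.Agent.Fga.JacSurj Groth.Agent.Picfga.SecGraph
open Groth.Agent.Sga4h.GeoDim
open K914.Curve K914.Cls K914.Points K914.HField K914.PtDrop

variable {k : Type u} [Field k] {X : Scheme.{u}} (f : X ⟶ Spec (CommRingCat.of k))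
  [IsProper f] [Smooth f] [GeometricallyConnected f] [SmoothOfRelativeDimension 1 f]
  {K : Type u} [Field K] (t : Spec (CommRingCat.of K) ⟶ Spec (CommRingCat.of k))

theorem dim_XT : topologicalKrullDim (PicF.XT f (Over.mk t)) = 1 :=
  letI := overK f t
  (isCurve f t).dim

theorem trdegAt_XTproj_le (p : PicF.XT f (Over.mk t)) : trdegAt (PicF.XTproj f (Over.mk t)) p ≤ 1 := by
  have h0 : LocallyOfFiniteType (PicF.XTproj f (Over.mk t)) := inferInstanceAs (LocallyOfFiniteType (pullback.snd f t))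
  obtain ⟨n, hn, hn'⟩ := K432.CurveLift.exists_dim_closure (k := K) (PicF.XTproj f (Over.mk t)) p
  have h1 : topologicalKrullDim (closure {p} : Set (PicF.XT f (Over.mk t))) ≤ 1 := by
    rw [← dim_XT f t]
    exact Topology.IsInducing.subtypeVal.topologicalKrullDim_le
  rw [hn'] at h1
  have h2 : n ≤ 1 := by exact_mod_cast h1
  rw [trdegAt_eq_rtd, hn]
  exact_mod_cast h2

/-- A point which is transcendental over the ground field is the generic point. -/
theorem mem_open_of_trdegAt_ne_zero (p : PicF.XT f (Over.mk t)) (hp : trdegAt (PicF.XTproj f (Over.mk t)) p ≠ 0)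
    (W : (PicF.XT f (Over.mk t)).Opens) (hW : (W : Set (PicF.XT f (Over.mk t))).Nonempty) : p ∈ W := by
  have h0 : LocallyOfFiniteType (PicF.XTproj f (Over.mk t)) := inferInstanceAs (LocallyOfFiniteType (pullback.snd f t))
  have := isIntegral_XT f t
  have hg := genericPoint_spec (PicF.XT f (Over.mk t))
  by_contra hpW
  apply hp
  have hsp : genericPoint (PicF.XT f (Over.mk t)) ⤳ p := genericPoint_specializes p
  have hne : genericPoint (PicF.XT f (Over.mk t)) ≠ p := by
    intro h
    apply hpW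
    rw [← h]
    exact (hg.mem_open_set_iff W.isOpen).2 (by simpa using hW)
  have h1 := trdegAt_lt_of_specializes (PicF.XTproj f (Over.mk t)) hsp hne
    (Subsingleton.elim (α := PrimeSpectrum K) _ _)
  have h2 := h1.trans_le (trdegAt_XTproj_le f t _)
  exact Cardinal.lt_one_iff.1 h2

theorem trdegAt_fsr (Y : Scheme.{u}) (y : Y) (z : Spec (CommRingCat.of (Y.residueField y))) :
    trdegAt (fsr Y y) z = 0 := by
  have : IsPreimmersion (fsr Y y) := inferInstanceAs (IsPreimmersion (Y.fromSpecResidueField y))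
  exact trdegAt_eq_zero_of_isPreimmersion _ _

/-- One step: adjoining the coordinates of one point. -/
theorem step {F Ω : Type u} [Field F] [Field Ω] {s : Spec (CommRingCat.of F) ⟶ Spec (CommRingCat.of k)}
    {t : Spec (CommRingCat.of Ω) ⟶ Spec (CommRingCat.of k)} (a : Over.mk t ⟶ Over.mk s)
    (c : Pic (PicF.XT f (Over.mk s))) (hc : 0 < hK f s 0 c) (x : Pt f (Over.mk t)) :
    ∃ (E : Type u) (_ : Field E) (s' : Spec (CommRingCat.of E) ⟶ Spec (CommRingCat.of k)) (b : Over.mk s' ⟶ Over.mk s)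
      (a' : Over.mk t ⟶ Over.mk s') (_ : a' ≫ b = a) (x' : Pt f (Over.mk s')) (_ : x'.comp a' = x) (m : ℕ),
      (∀ z, trdegAt b.left z = m) ∧ m + hK f s' 0 (pull (PicF.XTmap f b) c * gcl f x') ≤ hK f s 0 c := by
  let y : Spec (CommRingCat.of Ω) ⟶ PicF.XT f (Over.mk s) := sec f (Over.mk t) x.1 x.2 ≫ PicF.XTmap f a
  let p : PicF.XT f (Over.mk s) := y (IsLocalRing.closedPoint Ω)
  obtain ⟨φ, hφ⟩ := exists_fsr y p rfl
  let E := (PicF.XT f (Over.mk s)).residueField p
  let e : Spec (CommRingCat.of E) ⟶ PicF.XT f (Over.mk s) := fsr _ p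
  let bl : Spec (CommRingCat.of E) ⟶ Spec (CommRingCat.of F) := e ≫ PicF.XTproj f (Over.mk s)
  let s' : Spec (CommRingCat.of E) ⟶ Spec (CommRingCat.of k) := bl ≫ s
  let b : Over.mk s' ⟶ Over.mk s := Over.homMk bl rfl
  have hy1 : y ≫ PicF.XTproj f (Over.mk s) = a.left := by
    change (sec f (Over.mk t) x.1 x.2 ≫ PicF.XTmap f a) ≫ _ = _
    rw [Category.assoc, Picfga.HilbPull.XTmap_snd, ← Category.assoc]
    erw [sec_proj, Category.id_comp]
  have hy2 : y ≫ pullback.fst f (Over.mk s).hom = x.1 := by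
    change (sec f (Over.mk t) x.1 x.2 ≫ PicF.XTmap f a) ≫ _ = _
    rw [Category.assoc, Picfga.HilbPull.XTmap_fst]
    exact sec_fst f _ _
  have ha : Spec.map φ ≫ s' = t := by
    have h1 : Spec.map φ ≫ bl = a.left := by
      rw [← hy1, ← hφ, Category.assoc]
    have h2 := Over.w a
    change Spec.map φ ≫ bl ≫ s = t
    rw [← Category.assoc, h1]
    exact h2
  let a' : Over.mk t ⟶ Over.mk s' := Over.homMk (Spec.map φ) ha
  have hab : a' ≫ b = a := by
    apply Over.OverMorphism.ext
    change Spec.map φ ≫ bl = a.left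
    rw [← hy1, ← hφ, Category.assoc]
  let x' : Pt f (Over.mk s') := ⟨e ≫ pullback.fst f (Over.mk s).hom, by
    rw [Category.assoc, pullback.condition]
    rfl⟩
  have hx' : x'.comp a' = x := by
    apply Subtype.ext
    change Spec.map φ ≫ e ≫ pullback.fst f (Over.mk s).hom = x.1
    rw [← hy2, ← hφ, Category.assoc]
  have htr : ∀ z, trdegAt bl z = trdegAt (PicF.XTproj f (Over.mk s)) p := by
    intro z
    change trdegAt (e ≫ PicF.XTproj f (Over.mk s)) z = _
    rw [trdegAt_comp, trdegAt_fsr, add_zero]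
    have h1 : e z = p := fsr_apply _ _ _
    rw [h1]
  have hLFT : LocallyOfFiniteType (PicF.XTproj f (Over.mk s)) := inferInstanceAs (LocallyOfFiniteType (pullback.snd f s))
  obtain ⟨m, hm⟩ := exists_nat_trdegAt (PicF.XTproj f (Over.mk s)) p
  refine ⟨E, inferInstance, s', b, a', hab, x', hx', m, fun z => (htr z).trans hm, ?_⟩
  by_cases hm0 : m = 0
  · rw [hm0, zero_add]
    refine (hK_mul_gcl_le f s' _ x').trans ?_
    rw [hK_pull]
  · have h1 : m ≤ 1 := by
      have := trdegAt_XTproj_le f s p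
      rw [hm] at this
      exact_mod_cast this
    have h2 : m = 1 := by omega
    rw [h2, add_comm]
    let z : Spec (CommRingCat.of E) := IsLocalRing.closedPoint E
    refine hK_drop_generic f s' b hc x' z fun W hW => ?_
    have h3 : PicF.XTmap f b (sec f (Over.mk s') x'.1 x'.2 z) = p := by
      rw [← Scheme.Hom.comp_apply]
      have h4 : sec f (Over.mk s') x'.1 x'.2 ≫ PicF.XTmap f b = e := by
        apply pullback.hom_ext
        · rw [Category.assoc, Picfga.HilbPull.XTmap_fst]
          exact sec_fst f _ _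
        · rw [Category.assoc]
          erw [Picfga.HilbPull.XTmap_snd, ← Category.assoc, sec_proj, Category.id_comp]
      rw [h4]
      exact fsr_apply _ _ _
    rw [h3]
    refine mem_open_of_trdegAt_ne_zero f s p ?_ W hW
    rw [hm, h2, Nat.cast_one]
    exact one_ne_zero

theorem exists_chain (n : ℕ) : ∀ {F Ω : Type u} [Field F] [Field Ω] {s : Spec (CommRingCat.of F) ⟶ Spec (CommRingCat.of k)}
    {t : Spec (CommRingCat.of Ω) ⟶ Spec (CommRingCat.of k)} (a : Over.mk t ⟶ Over.mk s)
    (c : Pic (PicF.XT f (Over.mk s))) (x : Fin n → Pt f (Over.mk t))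
    (_ : 0 < hK f t 0 (pull (PicF.XTmap f a) c * ∏ i, gcl f (x i))),
    ∃ (E : Type u) (_ : Field E) (s' : Spec (CommRingCat.of E) ⟶ Spec (CommRingCat.of k)) (b : Over.mk s' ⟶ Over.mk s)
      (a' : Over.mk t ⟶ Over.mk s') (_ : a' ≫ b = a) (x' : Fin n → Pt f (Over.mk s')) (_ : ∀ i, (x' i).comp a' = x i)
      (m : ℕ), (∀ z, trdegAt b.left z = m) ∧
      m + hK f t 0 (pull (PicF.XTmap f a) c * ∏ i, gcl f (x i)) ≤ hK f s 0 c := by
  induction n with
  | zero =>
    intro F Ω _ _ s t a c x _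
    refine ⟨F, inferInstance, s, 𝟙 _, a, Category.comp_id _, fun i => i.elim0, fun i => i.elim0, 0, fun z => ?_, ?_⟩
    · rw [Nat.cast_zero]
      exact trdegAt_eq_zero_of_isPreimmersion (𝟙 _) z
    · rw [zero_add, Fin.prod_univ_zero, mul_one, hK_pull]
  | succ n ih =>
    intro F Ω _ _ s t a c x hpos
    have hc : 0 < hK f s 0 c := by
      rw [← hK_pull f a]
      refine hpos.trans_le ?_
      have h1 := hK_le_mul f t (pull (PicF.XTmap f a) c * ∏ i, gcl f (x i)) (∏ i, (gcl f (x i))⁻¹)
        (hK_prod_pos f t _ _ fun i _ => hK_gcl_inv_pos f t (x i))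
      rwa [Finset.prod_inv_distrib, mul_inv_cancel_right] at h1
    obtain ⟨E, hE, s', b, a', hab, x', hx', m, hm, hle⟩ := step f a c hc (x 0)
    have hcl : pull (PicF.XTmap f a') (pull (PicF.XTmap f b) c * gcl f x') * ∏ i : Fin n, gcl f (x i.succ) =
        pull (PicF.XTmap f a) c * ∏ i, gcl f (x i) := by
      rw [map_mul, pull_gcl, hx', ← pull_comp, ← XTmap_comp, hab, Fin.prod_univ_succ, mul_assoc]
    obtain ⟨E', hE', s'', b', a'', hab', x'', hx'', m', hm', hle'⟩ := ih a' (pull (PicF.XTmap f b) c * gcl f x')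
      (fun i => x i.succ) (by rw [hcl]; exact hpos)
    rw [hcl] at hle'
    refine ⟨E', hE', s'', b' ≫ b, a'', by rw [← Category.assoc, hab', hab], Fin.cons (x'.comp b') x'', ?_, m + m', ?_, ?_⟩
    · intro i
      refine Fin.cases ?_ (fun j => ?_) i
      · rw [Fin.cons_zero, ← hx', ← hab']
        exact Subtype.ext (by simp)
      · rw [Fin.cons_succ, hx'']
    · intro z
      change trdegAt (b'.left ≫ b.left) z = _
      rw [trdegAt_comp, hm, hm', Nat.cast_add]
    · omega

end K914.Chain
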