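import Groth.Agent.Jac.K914.Dv

/-!
# Clifford's theorem, the case of equality, over an algebraically closed field

* `exists_cl`: a class with a section is the class of a multiset of points.
* `exists_notMem`: there are infinitely many points.
* `clifford_lt`: if no divisor of degree two moves, then `2 h⁰(D) ≤ deg D + 1` for `D` effective special, not canonical.
-/

set_option autoImplicit false
universe u
open CategoryTheory CategoryTheory.Limits AlgebraicGeometry Opposite TopologicalSpace

namespace K914.Cliff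

open Groth.Agent Groth.Agent.Grpsch Groth.Agent.Grpsch.PicGrp Groth.Agent.Fga.RigGrp Groth.Agent.Fga.JacSum
open Groth.Agent.Fga.JacAlg Groth.Agent.Picfga.ChiDef Groth.Agent.Fga.JacSurj Groth.Agent.Picfga.SecGraph
open Groth.Agent.Fdesc.LocGen Groth.Agent.Picfga.ZeroDef
open K914.Curve K914.Cls K914.Points K914.HField K914.PtDrop K914.Dv

variable {k : Type u} [Field k] {X : Scheme.{u}} (f : X ⟶ Spec (CommRingCat.of k))
  [IsProper f] [Smooth f] [GeometricallyConnected f] [SmoothOfRelativeDimension 1 f]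
  {K : Type u} [Field K] (t : Spec (CommRingCat.of K) ⟶ Spec (CommRingCat.of k))

theorem dK_cl (M : Multiset (Pt f (Over.mk t))) : dK f t (cl f M) = Multiset.card M := by
  induction M using Multiset.induction with
  | empty => rw [cl_zero, dK_one]; simp
  | cons x M ih => rw [cl_cons, dK_mul, ih, dK_inv, dK_gcl, Multiset.card_cons]; push_cast; ring

theorem hK_cl_pos (M : Multiset (Pt f (Over.mk t))) : 0 < hK f t 0 (cl f M) := by
  induction M using Multiset.induction with
  | empty => rw [cl_zero, hK_zero_one]; exact one_pos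
  | cons x M ih => rw [cl_cons]; exact hK_mul_pos f t (hK_gcl_inv_pos f t x) ih

theorem hK_le_mul_cl (c : Pic (PicF.XT f (Over.mk t))) (M : Multiset (Pt f (Over.mk t))) :
    hK f t 0 c ≤ hK f t 0 (c * cl f M) := hK_le_mul f t c _ (hK_cl_pos f t M)

theorem hK_mul_inv_le (c : Pic (PicF.XT f (Over.mk t))) (x : Pt f (Over.mk t)) :
    hK f t 0 (c * (gcl f x)⁻¹) ≤ hK f t 0 c + 1 := by
  have h := hK_le_mul_gcl_add_one f t (c * (gcl f x)⁻¹) x
  rwa [inv_mul_cancel_right] at h

/-- Riemann-Roch for effective divisors. -/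
theorem rr_cl (M : Multiset (Pt f (Over.mk t))) :
    (hK f t 0 (cl f M) : ℤ) - hK f t 1 (cl f M) = Multiset.card M + chiK f t 1 := by
  rw [rr, dK_cl]

theorem exists_cl [IsAlgClosed K] {c : Pic (PicF.XT f (Over.mk t))} (hc : 0 < hK f t 0 c) :
    ∃ M : Multiset (Pt f (Over.mk t)), cl f M = c := by
  have hint := isIntegral f
  have hgi := geometricallyIntegral f
  obtain ⟨L, hL, rfl⟩ := exists_mk c
  obtain ⟨s, hs⟩ := exists_section_of_pos f t hL hc
  have hs' : sec s ⊤ ≠ 0 := by
    intro h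
    apply hs
    apply hom_ext_sec
    rw [h]
    rfl
  obtain ⟨n, hn⟩ := Int.eq_ofNat_of_zero_le (dK_nonneg f t hc)
  obtain ⟨x, hx⟩ := exists_points_of_section (isSmoothProperCurve f (curve_dim f)) t L hL (sec s ⊤) hs' n (by
    rw [dK] at hn
    omega)
  exact ⟨Multiset.ofList (List.ofFn x), by rw [cl_ofFn, hx]⟩

theorem exists_open (M : Multiset (Pt f (Over.mk t))) :
    ∃ W : (PicF.XT f (Over.mk t)).Opens, (W : Set (PicF.XT f (Over.mk t))).Nonempty ∧
      ∀ x ∈ M, ∀ p ∈ W, p ∉ (HilbD.secGraph f (Over.mk t) x.1 x.2).support := by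
  have := isIntegral_XT f t
  suffices h : ∃ W : (PicF.XT f (Over.mk t)).Opens, genericPoint (PicF.XT f (Over.mk t)) ∈ W ∧
      ∀ x ∈ M, ∀ p ∈ W, p ∉ (HilbD.secGraph f (Over.mk t) x.1 x.2).support by
    obtain ⟨W, h1, h2⟩ := h
    exact ⟨W, ⟨_, h1⟩, h2⟩
  induction M using Multiset.induction with
  | empty => exact ⟨⊤, trivial, fun x hx => absurd hx (Multiset.notMem_zero x)⟩
  | cons x M ih =>
    obtain ⟨W, hW, hW'⟩ := ih
    let V : (PicF.XT f (Over.mk t)).Opens :=
      ⟨((HilbD.secGraph f (Over.mk t) x.1 x.2).support : Set _)ᶜ,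
        (HilbD.secGraph f (Over.mk t) x.1 x.2).support.isClosed.isOpen_compl⟩
    refine ⟨W ⊓ V, ⟨hW, genericPoint_notMem_support (isEff_secGraph f x)⟩, fun y hy p hp => ?_⟩
    rw [Multiset.mem_cons] at hy
    rcases hy with rfl | hy
    · exact hp.2
    · exact hW' y hy p hp.1

/-- There are infinitely many points. -/
theorem exists_notMem [IsAlgClosed K] (M : Multiset (Pt f (Over.mk t))) : ∃ x : Pt f (Over.mk t), x ∉ M := by
  obtain ⟨W, hW, hW'⟩ := exists_open f t M
  have h1 : Nonempty W := hW.to_subtype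
  have h2 : IsProper (PicF.XTproj f (Over.mk t)) := inferInstanceAs (IsProper (pullback.snd f t))
  let p : PicF.XT f (Over.mk t) ⟶ Spec (CommRingCat.of K) := PicF.XTproj f (Over.mk t)
  have h2' : IsProper p := h2
  have h3 : IsLocallyNoetherian (PicF.XT f (Over.mk t)) := LocallyOfFiniteType.isLocallyNoetherian p
  have h4 : CompactSpace (PicF.XT f (Over.mk t)) := (quasiCompact_iff_compactSpace p).1 inferInstance
  have h5 : IsNoetherian (PicF.XT f (Over.mk t)) := {}
  have h6 : QuasiCompact (W.ι ≫ p) := inferInstance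
  obtain ⟨σ, hσ⟩ := K914.Semi.exists_section (W.ι ≫ p)
  let y : Pt f (Over.mk t) := ⟨σ ≫ W.ι ≫ pullback.fst f t, by
    rw [Category.assoc, Category.assoc, pullback.condition, ← Category.assoc, ← Category.assoc, Category.assoc σ]
    erw [hσ]
    exact Category.id_comp _⟩
  have hy : sec f (Over.mk t) y.1 y.2 = σ ≫ W.ι := by
    apply pullback.hom_ext
    · rw [Category.assoc]
      exact sec_fst f _ _
    · rw [Category.assoc]
      exact (sec_proj _ _ _).trans hσ.symm
  refine ⟨y, fun hyM => ?_⟩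
  let z : Spec (CommRingCat.of K) := IsLocalRing.closedPoint K
  refine hW' y hyM (sec f (Over.mk t) y.1 y.2 z) ?_ (mem_support_secGraph f t y z)
  rw [hy]
  exact (σ z).2

/-- **Clifford's theorem**, with the case of equality, when no divisor of degree two moves. -/
theorem clifford_lt [IsAlgClosed K] (hnh : ∀ x y : Pt f (Over.mk t), hK f t 0 ((gcl f x)⁻¹ * (gcl f y)⁻¹) ≤ 1)
    (n : ℕ) : ∀ D : Multiset (Pt f (Over.mk t)), Multiset.card D = n → 1 ≤ n → cl f D ≠ omK f t →
      0 < hK f t 1 (cl f D) → 2 * hK f t 0 (cl f D) ≤ n + 1 := by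
  classical
  induction n using Nat.strong_induction_on with
  | _ n ih =>
  intro D hD hn hcan hsp
  by_contra hlt
  have hn3 : 3 ≤ hK f t 0 (cl f D) := by
    by_cases h2 : n ≤ 2
    · exfalso
      have h1 : hK f t 0 (cl f D) ≤ 1 := by
        obtain rfl | rfl : n = 1 ∨ n = 2 := by omega
        · obtain ⟨x, rfl⟩ := Multiset.card_eq_one.1 hD
          rw [cl_singleton]
          exact (hK_le_mul f t _ (gcl f x)⁻¹ (hK_gcl_inv_pos f t x)).trans (hnh x x)
        · obtain ⟨x, y, rfl⟩ := Multiset.card_eq_two.1 hD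
          have h3 : cl f ({x, y} : Multiset (Pt f (Over.mk t))) = (gcl f x)⁻¹ * (gcl f y)⁻¹ := by
            change cl f (x ::ₘ {y}) = _
            rw [cl_cons, cl_singleton]
          rw [h3]
          exact hnh x y
      omega
    · omega
  -- a complementary divisor
  have hsp' : 0 < hK f t 0 (omK f t * (cl f D)⁻¹) := by rwa [← serre]
  obtain ⟨E, hE⟩ := exists_cl f t hsp'
  have hEne : E ≠ 0 := by
    rintro rfl
    rw [cl_zero, eq_comm, mul_inv_eq_one] at hE
    exact hcan hE.symm
  obtain ⟨e, heE⟩ := Multiset.exists_mem_of_ne_zero hEne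
  obtain ⟨Q, hQ⟩ := exists_notMem f t E
  -- move `D` to contain `e` and `Q`
  have h1 : 0 < hK f t 0 (cl f D * gcl f e * gcl f Q) := by
    have a1 := hK_le_mul_gcl_add_one f t (cl f D) e
    have a2 := hK_le_mul_gcl_add_one f t (cl f D * gcl f e) Q
    omega
  obtain ⟨D'', hD''⟩ := exists_cl f t h1
  let D₁ : Multiset (Pt f (Over.mk t)) := e ::ₘ Q ::ₘ D''
  have hD₁ : cl f D₁ = cl f D := by
    change cl f (e ::ₘ Q ::ₘ D'') = _
    rw [cl_cons, cl_cons, hD'']
    rw [mul_comm (cl f D * gcl f e), inv_mul_cancel_left, mul_comm (cl f D), inv_mul_cancel_left]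
  have hD₁c : Multiset.card D₁ = n := by
    have a1 := dK_cl f t D₁
    rw [hD₁, dK_cl, hD] at a1
    exact_mod_cast a1.symm
  let G := D₁ ∩ E
  have hGD : G ≤ D₁ := Multiset.inter_le_left
  have hGE : G ≤ E := Multiset.inter_le_right
  have heG : e ∈ G := Multiset.mem_inter.2 ⟨Multiset.mem_cons_self _ _, heE⟩
  have hQG : Q ∉ G := fun h => hQ (Multiset.mem_of_le hGE h)
  have hG1 : 1 ≤ Multiset.card G := Multiset.card_pos.2 fun h => by
    rw [h] at heG
    exact Multiset.notMem_zero _ heG
  have hGlt : Multiset.card G < n := by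
    rw [← hD₁c]
    refine Multiset.card_lt_card (lt_of_le_of_ne hGD fun h => hQG ?_)
    rw [h]
    exact Multiset.mem_cons_of_mem (Multiset.mem_cons_self _ _)
  have eD : G + (D₁ - G) = D₁ := add_tsub_cancel_of_le hGD
  have eE : G + (E - G) = E := add_tsub_cancel_of_le hGE
  have hdis : ∀ x ∈ D₁ - G, x ∉ E - G := by
    intro x hx hx'
    rw [← Multiset.count_pos, Multiset.count_sub] at hx hx'
    have h3 : Multiset.count x G = min (Multiset.count x D₁) (Multiset.count x E) := Multiset.count_inter x D₁ E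
    rw [h3] at hx hx'
    omega
  have h2 := submod_cl f t (cl f G) (D₁ - G) (E - G) hdis
  rw [← cl_add, eD, ← cl_add, eE] at h2
  have h3 : cl f (D₁ + (E - G)) = omK f t * (cl f G)⁻¹ := by
    have a1 : cl f E = cl f G * cl f (E - G) := by rw [← cl_add, eE]
    rw [cl_add, hD₁, eq_mul_inv_iff_mul_eq, mul_assoc, mul_comm (cl f (E - G)), ← a1, hE, mul_comm (cl f D),
      inv_mul_cancel_right]
  rw [← cl_add, h3, ← serre, hD₁, hE, ← serre] at h2
  have h4 := rr_cl f t D
  have h5 := rr_cl f t G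
  have h6 : 0 < hK f t 1 (cl f G) := by
    have a1 : cl f D₁ = cl f G * cl f (D₁ - G) := by rw [← cl_add, eD]
    have a2 := hK1_mul_le f t (cl f G) (cl f (D₁ - G)) (hK_cl_pos f t _)
    rw [← a1, hD₁] at a2
    omega
  have h7 : cl f G ≠ omK f t := by
    intro h
    have a1 := dK_cl f t G
    have a2 := dK_cl f t E
    rw [hE, dK_mul, dK_inv, dK_cl, ← h, a1, hD] at a2
    omega
  have h8 := ih (Multiset.card G) hGlt G rfl hG1 h7 h6
  omega

end K914.Cliff
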