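import Groth.Agent.Jac.K914.DiffMain
import Groth.Agent.JacVar.K533.AbelAt

/-!
# Assembly: the Abel map `D ↦ O(D - r σ)` and the class of the pencil
-/

set_option autoImplicit false
universe u
open CategoryTheory CategoryTheory.Limits AlgebraicGeometry Opposite TopologicalSpace
open MonoidalCategory CartesianMonoidalCategory
open scoped MonObj

namespace K914.DiffAsm

open Groth.Agent Groth.Agent.Grpsch Groth.Agent.Grpsch.PicGrp Groth.Agent.Fga.RigGrp Groth.Agent.Fga.JacSum
open Groth.Agent.Fga.JacAlg Groth.Agent.Picfga.ChiDef Groth.Agent.Fga.JacSurj Groth.Agent.Picfga.SecGraph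
open Groth.Agent.Sga4h.GeoDim Groth.Agent.Sga7.H732 Groth.Agent.Sga7.H732.Hedge
open K914.Curve K914.Cls K914.Points K914.HField K914.PtDrop K914.Chain K914.Semi K914.Dv K914.Cliff K914.Sc
open K914.Spread K914.Martens K914.Fine K914.DiffTr K914.Hyper K914.DiffUp K914.DiffLow K914.DiffMain

section tensor

variable {S : Scheme.{u}} {A B : Over S}

theorem lift_eq_tensor (u : A ⟶ B) : lift (fst A A ≫ u) (snd A A ≫ u) = u ⊗ₘ u := by
  apply CartesianMonoidalCategory.hom_ext <;> simp

theorem surjective_tensor (u : A ⟶ B) (hu : Surjective u.left) :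
    Function.Surjective (lift (fst A A ≫ u) (snd A A ≫ u)).left := by
  rw [lift_eq_tensor, Over.tensorHom_left]
  have : MorphismProperty.IsStableUnderComposition (@Surjective : MorphismProperty Scheme.{u}) :=
    (inferInstance : MorphismProperty.IsMultiplicative (@Surjective : MorphismProperty Scheme.{u})).toIsStableUnderComposition
  exact (MorphismProperty.pullbackMap (P := (@Surjective : MorphismProperty Scheme.{u})) hu hu (Over.w u).symm (Over.w u).symm).1

theorem trdegAt_tensor (u : A ⟶ B) [IsClosedImmersion u.left] (z : (A ⊗ A).left) :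
    trdegAt (lift (fst A A ≫ u) (snd A A ≫ u)).left z = 0 := by
  rw [lift_eq_tensor, Over.tensorHom_left]
  have h1 : IsClosedImmersion u.left := inferInstance
  have : MorphismProperty.IsStableUnderComposition (@IsClosedImmersion : MorphismProperty Scheme.{u}) :=
    (inferInstance : MorphismProperty.IsMultiplicative (@IsClosedImmersion : MorphismProperty Scheme.{u})).toIsStableUnderComposition
  have h2 := MorphismProperty.pullbackMap (P := (@IsClosedImmersion : MorphismProperty Scheme.{u})) h1 h1 (Over.w u).symm (Over.w u).symm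
  exact trdegAt_eq_zero_of_isPreimmersion _ z

end tensor

section abel

variable {k : Type u} [Field k] {X : Scheme.{u}} {f : X ⟶ Spec (CommRingCat.of k)}
  [IsProper f] [Smooth f] [GeometricallyConnected f] [SmoothOfRelativeDimension 1 f]
  {σ : Spec (CommRingCat.of k) ⟶ X} (hσ : σ ≫ f = 𝟙 (Spec (CommRingCat.of k)))

omit [IsProper f] [Smooth f] [GeometricallyConnected f] in
theorem mk_graphSumAt [IsSeparated f] {n : ℕ} {F : (PicF.XT f (Jac.powOver f n)).Modules} (hF : PicF.IsInvertible F)
    (h : Jac.IsGraphSumFamilyAt f n σ F) :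
    mk F hF = (∏ i, (gcl f (powPt f n i))⁻¹) * gcl f (Pt.ofSection hσ (Jac.powOver f n)) ^ n := by
  obtain ⟨e⟩ := h
  have hE := K533.AbelAt.isInvertible_ker f hσ
  obtain ⟨h1, h2⟩ := mk_tensorList (fun i : Fin n => ClSub.idealMod (Jac.graphIdeal f n i)) isInvertible_graph
  have h3 : mk F hF * mk _ h1 = pull (pullback.fst f (Jac.powOver f n).hom) (mk _ hE) ^ n := by
    rw [mk_mul_mk, ← map_pow, ← mk_tensorPow, pull_mk, mk_eq_iff]
    exact ⟨e⟩
  rw [K533.AbelAt.gcl_ofSection f hσ hE, ← h3, h2, Finset.prod_inv_distrib]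
  have h4 : ∏ i, mk _ (isInvertible_graph (f := f) i) = ∏ i : Fin n, gcl f (powPt f n i) := rfl
  rw [h4, mul_comm (mk F hF), inv_mul_cancel_left]

variable {J : Over (Spec (CommRingCat.of k))} [GrpObj J] {ξ : Pic (PicF.XT f J)} {hσ}

omit [Smooth f] [GeometricallyConnected f] in
/-- The classes of the points of the Abel map with base point. -/
theorem cls_jr (hdim : topologicalKrullDim X = 1) (h : IsJac f σ hσ J ξ) {ψ : (ModFun.PicDeg f 0).Hom ⊤ J}
    (hψ : K532.Setup.Compat f hdim σ hσ J ψ ξ) {r : ℕ} {Y : Scheme.{u}} {q : SymProd.fibPow f r ⟶ Y}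
    {gY : Y ⟶ Spec (CommRingCat.of k)} {hq : q ≫ gY = WidePullback.base fun _ : Fin r => f} {jr : Over.mk gY ⟶ J}
    (hjr : Jac.IsAbelMapSymAt σ q gY hq ψ jr) {K : Type u} [Field K]
    (t : Spec (CommRingCat.of K) ⟶ Spec (CommRingCat.of k)) (x : Fin r → Pt f (Over.mk t)) :
    Abel.cls h (Over.mk t) (ptsHom x ≫ (Over.homMk q hq : Jac.powOver f r ⟶ Over.mk gY) ≫ jr) =
      cl f (Multiset.ofList (List.ofFn x)) * gcl f (Pt.ofSection hσ (Over.mk t)) ^ r := by
  obtain ⟨hP, F, hF, hsum, hj⟩ := hjr
  rw [hj, Abel.cls_comp, Abel.cls_apply, hψ, pull_norm, K532.Fine.norm_field, K532.Fine.cls, mk_graphSumAt hσ _ hsum,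
    map_mul, map_pow, pull_gcl, Pt.ofSection_comp, pull_graphSum, cl_ofFn]
  simp only [powPt_comp_ptsHom]

end abel

section module

variable (k : Type u) [Field k] (X : Scheme.{u}) [X.Over (Spec (CommRingCat.of k))]
  [IsProper (X ↘ Spec (CommRingCat.of k))]

theorem exists_class (hdim : topologicalKrullDim ↥X = 1) {L : X.Modules} (hL : PicF.IsInvertible L) :
    ∃ c : Pic (PicF.XT (X ↘ Spec (CommRingCat.of k)) (Over.mk (𝟙 (Spec (CommRingCat.of k))))),
      Curv2.deg k X L 1 = dK (X ↘ Spec (CommRingCat.of k)) (𝟙 (Spec (CommRingCat.of k))) c ∧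
      ∀ i, Module.finrank k (Coh.HH X L i) = hK (X ↘ Spec (CommRingCat.of k)) (𝟙 (Spec (CommRingCat.of k))) i c := by
  let f := X ↘ Spec (CommRingCat.of k)
  let p : PicF.XT f (Over.mk (𝟙 (Spec (CommRingCat.of k)))) ⟶ X := pullback.fst f (𝟙 (Spec (CommRingCat.of k)))
  have hp : IsIso p := inferInstanceAs (IsIso (pullback.fst f (𝟙 (Spec (CommRingCat.of k)))))
  have h1 : CompactSpace X := (quasiCompact_iff_compactSpace (X ↘ Spec (CommRingCat.of k))).1 inferInstance
  have h2 : QuasiSeparatedSpace X :=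
    (quasiSeparated_iff_quasiSeparatedSpace (X ↘ Spec (CommRingCat.of k))).1 inferInstance
  refine ⟨pull p (mk L hL), ?_, fun i => ?_⟩
  · have h3 := chiK_fst k X (𝟙 (Spec (CommRingCat.of k))) L hL
    have h4 := chiK_fst k X (𝟙 (Spec (CommRingCat.of k))) (Coh.structureModule X) Fdesc.LocGen.isInvertible_structureModule
    rw [← one_def, map_one] at h4
    have h5 : chiK f (𝟙 _) (pull p (mk L hL)) = FGA.eulerCharLE k X L 1 := h3
    rw [dK, h5, h4, ← K532.CurvePic.deg_mk k X hdim hL]
    exact Etcore.DegZero.dg_mk k X hL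
  · let _ := overK f (𝟙 (Spec (CommRingCat.of k)))
    exact (finrank_iso k (asIso p) (by
      change p ≫ f = pullback.snd f (𝟙 _)
      rw [pullback.condition, Category.comp_id]) L (Ega2.QCohLocal.isQCoh_of_isInvertible hL) _ (Iso.refl _) i).symm

end module

section square

variable {k : Type u} [Field k] {X : Scheme.{u}} (f : X ⟶ Spec (CommRingCat.of k))
  [IsProper f] [Smooth f] [GeometricallyConnected f] [SmoothOfRelativeDimension 1 f]

/-- Relative dimension one. -/
theorem trdegAt_XTproj_le_one (T : Over (Spec (CommRingCat.of k))) (ρ : PicF.XT f T) :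
    trdegAt (PicF.XTproj f T) ρ ≤ 1 := by
  obtain ⟨τ, hτ⟩ : ∃ τ, PicF.XTproj f T ρ = τ := ⟨_, rfl⟩
  let g : Over.mk (fsr T.left τ ≫ T.hom) ⟶ T := ofHom T (fsr T.left τ)
  have sq := Fga.RelCart.isPullback_XTmap f g
  have h1 : IsPreimmersion g.left := inferInstanceAs (IsPreimmersion (T.left.fromSpecResidueField τ))
  have h2 : IsPreimmersion (PicF.XTmap f g) := MorphismProperty.of_isPullback (P := @IsPreimmersion) sq.flip h1
  obtain ⟨ρ₀, hρ₀, -⟩ := Scheme.exists_preimage_of_isPullback sq ρ
    (IsLocalRing.closedPoint (T.left.residueField τ) : PrimeSpectrum (T.left.residueField τ))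
    (hτ.trans (fsr_apply _ _ _).symm)
  have h3 := trdegAt_square (PicF.XTmap f g) (PicF.XTproj f (Over.mk (fsr T.left τ ≫ T.hom))) (PicF.XTproj f T) g.left sq.w ρ₀
      (trdegAt_eq_zero_of_isPreimmersion _ _) (trdegAt_eq_zero_of_isPreimmersion _ _)
  have h4 : PicF.XTmap f g ρ₀ = ρ := hρ₀
  rw [h4] at h3
  rw [← h3]
  exact trdegAt_XTproj_le f _ ρ₀

theorem trdegAt_curve_le (x : X) : trdegAt f x ≤ 1 := by
  obtain ⟨n, hn, hn'⟩ := K432.CurveLift.exists_dim_closure f x
  have h1 : topologicalKrullDim (closure {x} : Set X) ≤ 1 := by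
    have h2 : topologicalKrullDim X = 1 := dK_sum.curve_dim_of f
    rw [← h2]
    exact Topology.IsInducing.subtypeVal.topologicalKrullDim_le
  rw [hn'] at h1
  have h2 : n ≤ 1 := by exact_mod_cast h1
  rw [trdegAt_eq_rtd, hn]
  exact_mod_cast h2

theorem trdegAt_square_le (w : (XO f ⊗ XO f).left) : trdegAt (XO f ⊗ XO f).hom w ≤ (2 : ℕ) := by
  have h1 : (XO f ⊗ XO f).hom = PicF.XTproj f (XO f) ≫ f := by
    change pullback.fst f f ≫ f = pullback.snd f f ≫ f
    exact pullback.condition
  rw [h1]
  refine (trdegAt_comp (PicF.XTproj f (XO f)) f w).le.trans ?_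
  refine (add_le_add (trdegAt_curve_le f _) (trdegAt_XTproj_le_one f _ _)).trans ?_
  norm_num

omit [IsProper f] [SmoothOfRelativeDimension 1 f] in
theorem irreducible_square : IrreducibleSpace (XO f ⊗ XO f).left := by
  have h1 := isIntegral f
  have h2 := geometricallyIrreducible f
  exact inferInstanceAs (IrreducibleSpace ↥(pullback f f))

end square

section final

variable {k : Type u} [Field k] {X : Scheme.{u}} {f : X ⟶ Spec (CommRingCat.of k)}
  [IsProper f] [Smooth f] [GeometricallyConnected f] [SmoothOfRelativeDimension 1 f]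
  {J : Over (Spec (CommRingCat.of k))} [GrpObj J] [IsProper J.hom]

/-- The image of a morphism. -/
noncomputable abbrev Wim {Y : Over (Spec (CommRingCat.of k))} (j : Y ⟶ J) : Over (Spec (CommRingCat.of k)) :=
  Over.mk (j.left.imageι ≫ J.hom)

/-- The inclusion of the image. -/
noncomputable abbrev iim {Y : Over (Spec (CommRingCat.of k))} (j : Y ⟶ J) : Wim j ⟶ J :=
  Over.homMk j.left.imageι rfl

/-- The morphism to the image. -/
noncomputable abbrev toim {A Y : Over (Spec (CommRingCat.of k))} (q : A ⟶ Y) (j : Y ⟶ J) : A ⟶ Wim j :=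
  Over.homMk (q.left ≫ j.left.toImage) (by
    have h1 := Over.w (q ≫ j)
    simp only [Over.mk_hom, Category.assoc]
    rw [Scheme.Hom.toImage_imageι_assoc, Over.w j, Over.w q])

omit [IsProper J.hom] [GrpObj J] in
theorem toim_iim {A Y : Over (Spec (CommRingCat.of k))} (q : A ⟶ Y) (j : Y ⟶ J) : toim q j ≫ iim j = q ≫ j := by
  apply Over.OverMorphism.ext
  change (q.left ≫ j.left.toImage) ≫ j.left.imageι = q.left ≫ j.left
  rw [Category.assoc, Scheme.Hom.toImage_imageι]

omit [GrpObj J] in
theorem surjective_toim {A Y : Over (Spec (CommRingCat.of k))} (q : A ⟶ Y) (j : Y ⟶ J) [IsProper A.hom]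
    (hq : Function.Surjective q.left) [QuasiCompact j.left] : Surjective (toim q j).left := by
  have h1 : IsProper (toim q j).left := by
    have h2 : IsProper ((toim q j).left ≫ (Wim j).hom) := by
      rw [Over.w]
      infer_instance
    have h3 : IsSeparated (Wim j).hom := inferInstanceAs (IsSeparated (j.left.imageι ≫ J.hom))
    exact IsProper.of_comp (toim q j).left (Wim j).hom
  constructor
  have h2 : IsClosed (Set.range (toim q j).left) := (toim q j).left.isClosedMap.isClosed_range
  have h3 : Set.range (toim q j).left = Set.range j.left.toImage := by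
    have : (toim q j).left = q.left ≫ j.left.toImage := rfl
    ext y
    constructor
    · rintro ⟨x, rfl⟩
      exact ⟨q.left x, rfl⟩
    · rintro ⟨x, rfl⟩
      obtain ⟨z, rfl⟩ := hq x
      exact ⟨z, rfl⟩
  have h4' : IsDominant j.left.toImage := inferInstance
  have h4 : DenseRange j.left.toImage := h4'.1
  rw [← Set.range_eq_univ, ← h2.closure_eq, h3]
  exact h4.closure_eq

omit [IsProper f] [Smooth f] [GeometricallyConnected f] [SmoothOfRelativeDimension 1 f] in
theorem isProper_df {W : Over (Spec (CommRingCat.of k))} [IsProper W.hom] (i : W ⟶ J) : IsProper (df i).left := by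
  have h1 : IsProper (W ⊗ W).hom := inferInstanceAs (IsProper (pullback.fst W.hom W.hom ≫ W.hom))
  have h2 : IsProper ((df i).left ≫ J.hom) := by
    rw [Over.w]
    exact h1
  exact IsProper.of_comp (df i).left J.hom

end final

end K914.DiffAsm
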