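import Groth.Agent.Jac.K914.DiffUp
import Groth.Agent.Fga.RelCart

/-!
# Lower bounds for the fibres of the difference maps `W_r × W_r → J`
-/

set_option autoImplicit false
universe u
open CategoryTheory CategoryTheory.Limits AlgebraicGeometry Opposite TopologicalSpace
open MonoidalCategory CartesianMonoidalCategory
open scoped MonObj

namespace K914.DiffLow

open Groth.Agent Groth.Agent.Grpsch Groth.Agent.Grpsch.PicGrp Groth.Agent.Fga.RigGrp Groth.Agent.Fga.JacSum
open Groth.Agent.Fga.JacAlg Groth.Agent.Picfga.ChiDef Groth.Agent.Fga.JacSurj Groth.Agent.Picfga.SecGraph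
open Groth.Agent.Sga4h.GeoDim Groth.Agent.Sga7.H732 Groth.Agent.Sga7.H732.Hedge
open K914.Curve K914.Cls K914.Points K914.HField K914.PtDrop K914.Chain K914.Semi K914.Dv K914.Cliff K914.Sc
open K914.Spread K914.Martens K914.Fine K914.DiffTr K914.Hyper K914.DiffUp

section generic

variable {k : Type u} [Field k] {X : Scheme.{u}} (f : X ⟶ Spec (CommRingCat.of k))
  [IsProper f] [Smooth f] [GeometricallyConnected f] [SmoothOfRelativeDimension 1 f]

omit [Smooth f] [GeometricallyConnected f] [SmoothOfRelativeDimension 1 f] in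
theorem locallyOfFiniteType_XTproj (T : Over (Spec (CommRingCat.of k))) : LocallyOfFiniteType (PicF.XTproj f T) :=
  inferInstanceAs (LocallyOfFiniteType (pullback.snd f T.hom))

theorem exists_one_le {K : Type u} [Field K] (t : Spec (CommRingCat.of K) ⟶ Spec (CommRingCat.of k)) :
    ∃ ρ : PicF.XT f (Over.mk t), 1 ≤ trdegAt (PicF.XTproj f (Over.mk t)) ρ := by
  by_contra hcon
  push Not at hcon
  have := locallyOfFiniteType_XTproj f (Over.mk t)
  have h1 : topologicalKrullDim (Set.univ : Set (PicF.XT f (Over.mk t))) ≤ (0 : ℕ) :=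
    dim_closed_le (PicF.XTproj f (Over.mk t)) isClosed_univ 0 fun w _ => by
      rw [Nat.cast_zero, Cardinal.lt_one_iff.1 (hcon w)]
  have h2 : topologicalKrullDim (Set.univ : Set (PicF.XT f (Over.mk t))) = 1 := by
    rw [← dim_XT f t]
    exact IsHomeomorph.topologicalKrullDim_eq _ (Homeomorph.Set.univ _).isHomeomorph
  rw [h2] at h1
  exact absurd h1 (by norm_num)

/-- A transcendental point of the curve in a family. -/
theorem exists_transcendental (T : Over (Spec (CommRingCat.of k))) (τ : T.left) :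
    ∃ ρ : PicF.XT f T, PicF.XTproj f T ρ = τ ∧ 1 ≤ trdegAt (PicF.XTproj f T) ρ := by
  let g : Over.mk (fsr T.left τ ≫ T.hom) ⟶ T := ofHom T (fsr T.left τ)
  obtain ⟨ρ₀, hρ₀⟩ := exists_one_le f (fsr T.left τ ≫ T.hom)
  have sq := Fga.RelCart.isPullback_XTmap f g
  have h1 : IsPreimmersion g.left := inferInstanceAs (IsPreimmersion (T.left.fromSpecResidueField τ))
  have h2 : IsPreimmersion (PicF.XTmap f g) := MorphismProperty.of_isPullback (P := @IsPreimmersion) sq.flip h1
  refine ⟨PicF.XTmap f g ρ₀, ?_, ?_⟩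
  · rw [← Scheme.Hom.comp_apply, sq.w, Scheme.Hom.comp_apply]
    exact fsr_apply _ _ _
  · rw [← trdegAt_square (PicF.XTmap f g) (PicF.XTproj f (Over.mk (fsr T.left τ ≫ T.hom))) (PicF.XTproj f T) g.left sq.w ρ₀
      (trdegAt_eq_zero_of_isPreimmersion _ _) (trdegAt_eq_zero_of_isPreimmersion _ _)]
    exact hρ₀

/-- Forgetting the first coordinate. -/
noncomputable abbrev dropFst (n : ℕ) (T : Over (Spec (CommRingCat.of k))) :
    Jac.powOver f (n + 1) ⊗ T ⟶ Jac.powOver f n ⊗ T :=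
  lift (fst _ _ ≫ ptsHom (fun i : Fin n => powPt f (n + 1) i.succ)) (snd _ _)

/-- The first coordinate. -/
noncomputable abbrev hd (n : ℕ) (T : Over (Spec (CommRingCat.of k))) : Pt f (Jac.powOver f (n + 1) ⊗ T) :=
  (powPt f (n + 1) 0).comp (fst _ _)

/-- A generic point of `X^n × Spec K`. -/
theorem exists_generic {K : Type u} [Field K] (sK : Spec (CommRingCat.of K) ⟶ Spec (CommRingCat.of k)) (n : ℕ) :
    ∃ e : (Jac.powOver f n ⊗ Over.mk sK).left, (n : Cardinal.{u}) ≤ trdegAt (snd (Jac.powOver f n) (Over.mk sK)).left e := by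
  induction n with
  | zero =>
    exact ⟨(lift (ptsHom (f := f) (fun i : Fin 0 => i.elim0)) (𝟙 _) : Over.mk sK ⟶ _).left
      (IsLocalRing.closedPoint K : PrimeSpectrum K), by simp⟩
  | succ n ih =>
    obtain ⟨e, he⟩ := ih
    let N := Jac.powOver f n ⊗ Over.mk sK
    obtain ⟨ρ, hρ, hρ1⟩ := exists_transcendental f N e
    let Ω := (PicF.XT f N).residueField ρ
    let xl : Spec (CommRingCat.of Ω) ⟶ PicF.XT f N := fsr _ ρ
    let t : Spec (CommRingCat.of Ω) ⟶ Spec (CommRingCat.of k) := xl ≫ PicF.XTproj f N ≫ N.hom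
    let g : Over.mk t ⟶ N := Over.homMk (xl ≫ PicF.XTproj f N) (Category.assoc _ _ _)
    let x₀ : Pt f (Over.mk t) := ⟨xl ≫ pullback.fst f N.hom, by
      rw [Category.assoc, pullback.condition]
      rfl⟩
    let x : Fin n → Pt f (Over.mk t) := fun i => (powPt f n i).comp (g ≫ fst _ _)
    have hx : ptsHom x = g ≫ fst _ _ := ptsHom_powPt_comp _
    let x' : Fin (n + 1) → Pt f (Over.mk t) := Fin.cons x₀ x
    let G : Over.mk t ⟶ Jac.powOver f (n + 1) ⊗ Over.mk sK := lift (ptsHom x') (g ≫ snd _ _)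
    have hG1 : G ≫ dropFst f n (Over.mk sK) = g := by
      apply CartesianMonoidalCategory.hom_ext
      · rw [Category.assoc, lift_fst, ← Category.assoc, lift_fst, comp_ptsHom, ← hx]
        congr 1
        funext i
        have := powPt_comp_ptsHom x' i.succ
        exact this
      · rw [Category.assoc, lift_snd, lift_snd]
    have hG2 : (hd f n (Over.mk sK)).comp G = x₀ := by
      have h1 : (hd f n (Over.mk sK)).comp G = (powPt f (n + 1) 0).comp (G ≫ fst _ _) := rfl
      rw [h1, lift_fst]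
      exact powPt_comp_ptsHom x' 0
    let pt : Spec (CommRingCat.of Ω) := IsLocalRing.closedPoint Ω
    let θ : (Jac.powOver f (n + 1) ⊗ Over.mk sK).left ⟶ PicF.XT f N :=
      pullback.lift (hd f n (Over.mk sK)).1 (dropFst f n (Over.mk sK)).left
        ((hd f n (Over.mk sK)).2.trans (Over.w (dropFst f n (Over.mk sK))).symm)
    have hθ1 : G.left ≫ θ = xl := by
      apply pullback.hom_ext
      · rw [Category.assoc, pullback.lift_fst]
        exact congrArg Subtype.val hG2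
      · rw [Category.assoc, pullback.lift_snd]
        exact congrArg (fun u => u.left) hG1
    have hθ2 : θ (G.left pt) = ρ := by
      rw [← Scheme.Hom.comp_apply, hθ1]
      exact fsr_apply _ _ _
    have hθ3 : θ ≫ PicF.XTproj f N = (dropFst f n (Over.mk sK)).left := pullback.lift_snd _ _ _
    refine ⟨G.left pt, ?_⟩
    have h1 : (snd (Jac.powOver f (n + 1)) (Over.mk sK)) = dropFst f n (Over.mk sK) ≫ snd _ _ := (lift_snd _ _).symm
    rw [h1, trdegAt_comp_over, Nat.cast_add, Nat.cast_one]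
    refine add_le_add ?_ ?_
    · have h2 : (dropFst f n (Over.mk sK)).left (G.left pt) = e := by
        rw [← hθ3, Scheme.Hom.comp_apply, hθ2, hρ]
      rw [h2]
      exact he
    · rw [← hθ3, trdegAt_comp, hθ2]
      exact hρ1.trans le_self_add

end generic

section lower

variable {k : Type u} [Field k] {X : Scheme.{u}} {f : X ⟶ Spec (CommRingCat.of k)}
  [IsProper f] [Smooth f] [GeometricallyConnected f] [SmoothOfRelativeDimension 1 f]
  {J W : Over (Spec (CommRingCat.of k))} [GrpObj J] (i : W ⟶ J) {r : ℕ} (S : Jac.powOver f r ⟶ W)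
  {σ : Spec (CommRingCat.of k) ⟶ X} {hσ : σ ≫ f = 𝟙 (Spec (CommRingCat.of k))} {ξ : Pic (PicF.XT f J)}
  (h : IsJac f σ hσ J ξ)

omit [IsProper f] [Smooth f] [GeometricallyConnected f] [SmoothOfRelativeDimension 1 f] in
theorem trdegAt_snd_le {n : ℕ} {K L Ω : Type u} [Field K] [Field L] [Field Ω] {sK : Spec (CommRingCat.of K) ⟶ Spec (CommRingCat.of k)}
    {t : Spec (CommRingCat.of Ω) ⟶ Spec (CommRingCat.of k)} {s : Spec (CommRingCat.of L) ⟶ Spec (CommRingCat.of k)}
    (e : Fin n → Pt f (Over.mk t)) (a : Over.mk t ⟶ Over.mk sK) (e' : Fin n → Pt f (Over.mk s)) (b : Over.mk s ⟶ Over.mk sK)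
    (α : Over.mk t ⟶ Over.mk s) (he : ∀ i, (e' i).comp α = e i) (hb : α ≫ b = a) (pt : Spec (CommRingCat.of Ω)) :
    trdegAt (snd (Jac.powOver f n) (Over.mk sK)).left ((lift (ptsHom e) a).left pt) ≤ trdegAt b.left (α.left pt) := by
  have h1 : α ≫ lift (ptsHom e') b = lift (ptsHom e) a := by
    rw [comp_lift, comp_ptsHom' e' α e he, hb]
  have h2 : b = lift (ptsHom e') b ≫ snd _ _ := (lift_snd _ _).symm
  have h3 := trdegAt_comp_over (lift (ptsHom e') b) (snd _ _) (α.left pt)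
  rw [← h2, ← comp_left_apply, h1] at h3
  rw [h3]
  exact le_self_add

include h in
/-- The fibre over a difference of two points has large dimension. -/
theorem lower_aux
    (hcl : ∀ {K : Type u} [Field K] (t : Spec (CommRingCat.of K) ⟶ Spec (CommRingCat.of k)) (x : Fin r → Pt f (Over.mk t)),
      Abel.cls h (Over.mk t) ((ptsHom x ≫ S) ≫ i) =
        cl f (Multiset.ofList (List.ofFn x)) * gcl f (Pt.ofSection hσ (Over.mk t)) ^ r)
    {j₁ : XO f ⟶ J} (hj₁ : K532.Dict.IsAbel h j₁) (hr1 : 1 ≤ r)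
    (hr : (r : ℤ) + chiK f (𝟙 (Spec (CommRingCat.of k))) 1 ≤ 0) (w : (XO f ⊗ XO f).left)
    (hw0 : trdegAt (df j₁).left w = 0) :
    ∃ p : (W ⊗ W).left, (df i).left p = (df j₁).left w ∧ ((r - 1 : ℕ) : Cardinal.{u}) ≤ trdegAt (df i).left p := by
  obtain ⟨n, rfl⟩ : ∃ n, r = n + 1 := ⟨r - 1, by omega⟩
  rw [Nat.add_sub_cancel]
  let sw : Spec (CommRingCat.of ((XO f ⊗ XO f).left.residueField w)) ⟶ Spec (CommRingCat.of k) :=
    fsr (XO f ⊗ XO f).left w ≫ (XO f ⊗ XO f).hom
  let u : Over.mk sw ⟶ XO f ⊗ XO f := ofHom _ (fsr (XO f ⊗ XO f).left w)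
  have huw : ∀ z, u.left z = w := fun z => ofHom_fsr_apply w z
  have hutr : ∀ z, trdegAt u.left z = 0 := fun z => trdegAt_fsr _ _ _
  obtain ⟨x₀, y₀, hu⟩ : ∃ x₀ y₀ : Pt f (Over.mk sw), u = lift (Abel.ptHom x₀) (Abel.ptHom y₀) :=
    ⟨_, _, eq_lift_ptHom u⟩
  obtain ⟨e₀, he₀⟩ := exists_generic f sw n
  let N := Jac.powOver f n ⊗ Over.mk sw
  let Ω₀ := N.left.residueField e₀
  let Ω := AlgebraicClosure Ω₀
  let q : Spec (CommRingCat.of Ω) ⟶ Spec (CommRingCat.of Ω₀) := Spec.map (CommRingCat.ofHom (algebraMap Ω₀ Ω))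
  let t : Spec (CommRingCat.of Ω) ⟶ Spec (CommRingCat.of k) := (q ≫ fsr N.left e₀) ≫ N.hom
  let g : Over.mk t ⟶ N := ofHom N (q ≫ fsr N.left e₀)
  let pt : Spec (CommRingCat.of Ω) := IsLocalRing.closedPoint Ω
  have hg : g.left pt = e₀ := (Scheme.Hom.comp_apply q (fsr _ e₀) _).trans (fsr_apply _ _ _)
  let e : Fin n → Pt f (Over.mk t) := fun j => (powPt f n j).comp (g ≫ fst _ _)
  have he : ptsHom e = g ≫ fst _ _ := ptsHom_powPt_comp _
  let a : Over.mk t ⟶ Over.mk sw := g ≫ snd _ _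
  have hga : g = lift (ptsHom e) a := by
    apply CartesianMonoidalCategory.hom_ext
    · rw [lift_fst, he]
    · rw [lift_snd]
  obtain ⟨xs, hxs⟩ := exists_ofFn' (x₀.comp a ::ₘ Multiset.ofList (List.ofFn e)) (r := n + 1) (by
    rw [Multiset.card_cons, Multiset.coe_card, List.length_ofFn])
  obtain ⟨ys, hys⟩ := exists_ofFn' (y₀.comp a ::ₘ Multiset.ofList (List.ofFn e)) (r := n + 1) (by
    rw [Multiset.card_cons, Multiset.coe_card, List.length_ofFn])
  let P : Over.mk t ⟶ W ⊗ W := lift (ptsHom xs ≫ S) (ptsHom ys ≫ S)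
  have hPd : P ≫ df i = a ≫ u ≫ df j₁ := by
    apply Abel.cls_injective h
    have h1 : a ≫ u ≫ df j₁ = lift (Abel.ptHom (x₀.comp a)) (Abel.ptHom (y₀.comp a)) ≫ df j₁ := by
      rw [← Category.assoc, hu, comp_lift, ptHom_comp, ptHom_comp]
    rw [h1, cls_lift_df h hj₁, lift_df, map_mul, map_inv, hcl, hcl, hxs, hys, cl_cons, cl_cons, mul_inv_rev,
      mul_assoc, mul_inv_cancel_left, mul_inv_rev, inv_inv, mul_assoc, mul_inv_cancel_left]
  let p : (W ⊗ W).left := P.left pt
  let z : J.left := (df j₁).left w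
  have hpz : (df i).left p = z := by
    have h1 := congrArg (fun v => v.left pt) hPd
    have h2 : (a ≫ u ≫ df j₁).left pt = (df j₁).left (u.left (a.left pt)) := rfl
    refine h1.trans (h2.trans ?_)
    rw [huw]
  -- factorisations
  obtain ⟨ap, hap⟩ := exists_factor P p rfl
  obtain ⟨E, hE1, hE2, sE, bE, aE, haE, hbE⟩ := exists_algClosed ap
  obtain ⟨bz, hbz⟩ := exists_factor (u ≫ df j₁) z
    ((comp_left_apply u (df j₁) _).trans (congrArg (df j₁).left (huw _)))
  obtain ⟨dp, hdp⟩ := exists_factor (ofHom (W ⊗ W) (fsr (W ⊗ W).left p) ≫ df i) z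
    ((comp_left_apply _ (df i) _).trans ((congrArg (df i).left (ofHom_fsr_apply p _)).trans hpz))
  have hmono : Mono (ofHom J (fsr J.left z)) := by
    have : Mono (ofHom J (fsr J.left z)).left := inferInstanceAs (Mono (J.left.fromSpecResidueField z))
    exact Over.mono_of_mono_left _
  have hcomm : a ≫ bz = aE ≫ bE ≫ dp := by
    rw [← cancel_mono (ofHom J (fsr J.left z))]
    simp only [Category.assoc]
    rw [hbz, hdp, ← hPd, ← hap, ← haE]
    simp only [Category.assoc]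
  have hbz0 : ∀ z', trdegAt bz.left z' = 0 := by
    intro z'
    rw [← trdegAt_comp_ofHom, hbz, trdegAt_comp_over, huw, hw0, hutr, add_zero]
  obtain ⟨eE, heE⟩ := factor_algClosed a bz aE (bE ≫ dp) hcomm hbz0
  have hcomm2 : eE ≫ bz = bE ≫ dp := by
    have h1 : aE ≫ eE ≫ bz = aE ≫ bE ≫ dp := by rw [← Category.assoc, heE, hcomm]
    apply Over.OverMorphism.ext
    exact cancel_field aE.left (congrArg (fun v => v.left) h1)
  -- the class of `e`
  let c : Pic (PicF.XT f (Over.mk sE)) :=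
    Abel.cls h (Over.mk sE) ((bE ≫ ofHom (W ⊗ W) (fsr (W ⊗ W).left p)) ≫ fst W W ≫ i) *
      (gcl f (Pt.ofSection hσ (Over.mk sE)) ^ (n + 1))⁻¹ * gcl f (x₀.comp eE)
  have hc : pull (PicF.XTmap f aE) c = cl f (Multiset.ofList (List.ofFn e)) := by
    have h1 : aE ≫ (bE ≫ ofHom (W ⊗ W) (fsr (W ⊗ W).left p)) ≫ fst W W ≫ i = (ptsHom xs ≫ S) ≫ i := by
      rw [← Category.assoc, ← Category.assoc aE bE, haE, hap, ← Category.assoc, lift_fst]
    simp only [c]
    rw [map_mul, map_mul, ← Abel.cls_comp, h1, hcl, hxs, map_inv, map_pow, pull_gcl, Pt.ofSection_comp, pull_gcl,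
      comp_comp, heE, mul_inv_cancel_right, cl_cons, mul_comm, mul_inv_cancel_left]
  have hce : pull (PicF.XTmap f aE) c * ∏ j, gcl f (e j) = 1 := by
    rw [hc, cl_ofFn, Finset.prod_inv_distrib, inv_mul_cancel]
  have hgK : ∀ {K : Type u} [Field K] (t : Spec (CommRingCat.of K) ⟶ Spec (CommRingCat.of k)),
      chiK f t 1 = chiK f (𝟙 (Spec (CommRingCat.of k))) 1 := by
    intro K _ t
    have := chiK_pull f (Over.homMk t (Category.comp_id _) : Over.mk t ⟶ Over.mk (𝟙 (Spec (CommRingCat.of k)))) 1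
    rwa [map_one] at this
  push_cast at hr
  -- `h⁰ ≤ 1`
  have he1 : hK f t 0 (∏ j, (gcl f (e j))⁻¹) ≤ 1 := by
    obtain ⟨L, hL, s, b, α, hab, e', he', m, hm, hle⟩ := DiffTr.exists_small f a e (by rw [hgK]; omega)
    have h1 := trdegAt_snd_le e a e' b α he' hab pt
    rw [← hga, hg, hm] at h1
    have h2 : n ≤ m := by exact_mod_cast he₀.trans h1
    omega
  obtain ⟨L, hL, s, b, α, hab, e', he', m, hm, hle⟩ := exists_chain f n aE c e (by
    rw [hce, hK_zero_one]; exact one_pos)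
  have hc1 : hK f sE 0 c = hK f t 0 (∏ j, (gcl f (e j))⁻¹) := by
    rw [← hK_pull f aE, hc, cl_ofFn]
  rw [hce, hK_zero_one, hc1] at hle
  have hm0 : m = 0 := by omega
  have h1 := trdegAt_snd_le e a e' (b ≫ eE) α he' (by rw [← Category.assoc, hab, heE]) pt
  rw [← hga, hg] at h1
  refine ⟨p, hpz, he₀.trans (h1.trans ?_)⟩
  have h2 : trdegAt (b ≫ eE).left (α.left pt) = trdegAt ((b ≫ eE) ≫ bz).left (α.left pt) := by
    rw [trdegAt_comp_over (b ≫ eE) bz, hbz0, zero_add]
  have h3 : (b ≫ eE) ≫ bz = b ≫ bE ≫ dp := by rw [Category.assoc, hcomm2]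
  rw [h2, h3, trdegAt_comp_over, trdegAt_comp_over, hm, hbE, hm0, Nat.cast_zero, add_zero, add_zero,
    ← trdegAt_comp_ofHom, hdp, trdegAt_comp_over, ofHom_fsr_apply]
  rw [show trdegAt (ofHom (W ⊗ W) (fsr (W ⊗ W).left p)).left _ = 0 from trdegAt_fsr _ _ _, add_zero]

end lower

end K914.DiffLow
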