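import Groth.Agent.Jac.K914.DiffLow

/-!
# The fibres of the difference maps `W_r × W_r → J` over `C - C`, on a hyperelliptic curve
-/

set_option autoImplicit false
universe u
open CategoryTheory CategoryTheory.Limits AlgebraicGeometry Opposite TopologicalSpace
open MonoidalCategory CartesianMonoidalCategory
open scoped MonObj

namespace K914.DiffMain

open Groth.Agent Groth.Agent.Grpsch Groth.Agent.Grpsch.PicGrp Groth.Agent.Fga.RigGrp Groth.Agent.Fga.JacSum
open Groth.Agent.Fga.JacAlg Groth.Agent.Picfga.ChiDef Groth.Agent.Fga.JacSurj Groth.Agent.Picfga.SecGraph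
open Groth.Agent.Sga4h.GeoDim Groth.Agent.Sga7.H732 Groth.Agent.Sga7.H732.Hedge
open K914.Curve K914.Cls K914.Points K914.HField K914.PtDrop K914.Chain K914.Semi K914.Dv K914.Cliff K914.Sc
open K914.Spread K914.Martens K914.Fine K914.DiffTr K914.Hyper K914.DiffUp K914.DiffLow

section common

variable {S : Scheme.{u}}

/-- Two points with the same image have a common geometric point. -/
theorem exists_common {A B C : Over S} (a : A ⟶ C) (b : B ⟶ C) (x : A.left) (y : B.left) (h : a.left x = b.left y) :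
    ∃ (Ω : Type u) (_ : Field Ω) (_ : IsAlgClosed Ω) (t : Spec (CommRingCat.of Ω) ⟶ S) (g₁ : Over.mk t ⟶ A)
      (g₂ : Over.mk t ⟶ B), g₁ ≫ a = g₂ ≫ b ∧ g₁.left (IsLocalRing.closedPoint Ω : PrimeSpectrum Ω) = x ∧
        g₂.left (IsLocalRing.closedPoint Ω : PrimeSpectrum Ω) = y := by
  obtain ⟨z, hz1, hz2⟩ := Scheme.Pullback.exists_preimage_pullback x y h
  let Ω₀ := (pullback a.left b.left).residueField z
  let Ω := AlgebraicClosure Ω₀
  let q : Spec (CommRingCat.of Ω) ⟶ Spec (CommRingCat.of Ω₀) := Spec.map (CommRingCat.ofHom (algebraMap Ω₀ Ω))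
  let e : Spec (CommRingCat.of Ω) ⟶ pullback a.left b.left := q ≫ fsr _ z
  have he : e (IsLocalRing.closedPoint Ω : PrimeSpectrum Ω) = z :=
    (Scheme.Hom.comp_apply q (fsr _ z) _).trans (fsr_apply _ _ _)
  refine ⟨Ω, inferInstance, inferInstance, e ≫ pullback.fst _ _ ≫ A.hom, Over.homMk (e ≫ pullback.fst _ _) (Category.assoc _ _ _),
    Over.homMk (e ≫ pullback.snd _ _) ?_, ?_, ?_, ?_⟩
  · change (e ≫ pullback.snd _ _) ≫ B.hom = e ≫ pullback.fst _ _ ≫ A.hom
    have h1 : pullback.fst a.left b.left ≫ A.hom = pullback.snd a.left b.left ≫ B.hom := by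
      rw [← Over.w a, ← Over.w b, pullback.condition_assoc]
    rw [Category.assoc, h1]
  · apply Over.OverMorphism.ext
    change (e ≫ pullback.fst _ _) ≫ a.left = (e ≫ pullback.snd _ _) ≫ b.left
    exact (Category.assoc e _ _).trans ((congrArg (fun v => e ≫ v) pullback.condition).trans (Category.assoc e _ _).symm)
  · exact (Scheme.Hom.comp_apply e (pullback.fst a.left b.left) _).trans ((congrArg _ he).trans hz1)
  · exact (Scheme.Hom.comp_apply e (pullback.snd a.left b.left) _).trans ((congrArg _ he).trans hz2)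

end common

section main

variable {k : Type u} [Field k] {X : Scheme.{u}} {f : X ⟶ Spec (CommRingCat.of k)}
  [IsProper f] [Smooth f] [GeometricallyConnected f] [SmoothOfRelativeDimension 1 f]
  {J W : Over (Spec (CommRingCat.of k))} [GrpObj J] (i : W ⟶ J)
  (hi : ∀ z, trdegAt (lift (fst W W ≫ i) (snd W W ≫ i)).left z = 0) {r : ℕ} (S : Jac.powOver f r ⟶ W)
  (hS : Function.Surjective (lift (fst (Jac.powOver f r) (Jac.powOver f r) ≫ S) (snd _ _ ≫ S)).left)

omit [IsProper f] [Smooth f] [GeometricallyConnected f] [SmoothOfRelativeDimension 1 f] in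
include hS in
theorem exists_geom (p : (W ⊗ W).left) :
    ∃ (Ω : Type u) (_ : Field Ω) (_ : IsAlgClosed Ω) (t : Spec (CommRingCat.of Ω) ⟶ Spec (CommRingCat.of k))
      (g : Over.mk t ⟶ Jac.powOver f r ⊗ Jac.powOver f r),
      (g ≫ lift (fst (Jac.powOver f r) (Jac.powOver f r) ≫ S) (snd _ _ ≫ S)).left
        (IsLocalRing.closedPoint Ω : PrimeSpectrum Ω) = p := by
  obtain ⟨x, hx⟩ := hS p
  obtain ⟨Ω, h1, h2, t, g₁, g₂, h3, h4, h5⟩ := exists_common (𝟙 (Jac.powOver f r ⊗ Jac.powOver f r)) (𝟙 _) x x rfl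
  exact ⟨Ω, h1, h2, t, g₁, (comp_left_apply g₁ _ _).trans ((congrArg _ h4).trans hx)⟩

include hi hS in
theorem fiber_le [LocallyOfFiniteType (df i).left] (z : J.left) :
    topologicalKrullDim ((df i).left.fiber z) ≤ (r : ℕ) :=
  Sga4h.GenULADim.topologicalKrullDim_fiber_le _ _ _ fun p _ => by
    obtain ⟨Ω, _, _, t, g, hg⟩ := exists_geom S hS p
    have h1 := upper_aux i hi S g
    rwa [hg] at h1

variable {σ : Spec (CommRingCat.of k) ⟶ X} {hσ : σ ≫ f = 𝟙 (Spec (CommRingCat.of k))} {ξ : Pic (PicF.XT f J)}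
  (h : IsJac f σ hσ J ξ)
  (hcl : ∀ {K : Type u} [Field K] (t : Spec (CommRingCat.of K) ⟶ Spec (CommRingCat.of k)) (x : Fin r → Pt f (Over.mk t)),
      Abel.cls h (Over.mk t) ((ptsHom x ≫ S) ≫ i) =
        cl f (Multiset.ofList (List.ofFn x)) * gcl f (Pt.ofSection hσ (Over.mk t)) ^ r)
  {j₁ : XO f ⟶ J} (hj₁ : K532.Dict.IsAbel h j₁)

/-- The identity point. -/
abbrev idSet (J : Over (Spec (CommRingCat.of k))) [GrpObj J] : Set J.left := Set.range (η[J] : 𝟙_ _ ⟶ J).left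

theorem one_mem_idSet {T : Over (Spec (CommRingCat.of k))} (x : T.left) : (1 : T ⟶ J).left x ∈ idSet J := by
  rw [Hom.one_def]
  exact ⟨(toUnit T).left x, rfl⟩

include hi hS h hcl hj₁ in
theorem upper_pos [LocallyOfFiniteType (df j₁).left] [QuasiCompact (df j₁).left]
    (gk : Pic (PicF.XT f (Over.mk (𝟙 (Spec (CommRingCat.of k))))))
    (h2 : 2 ≤ hK f (𝟙 _) 0 gk) (hd : dK f (𝟙 _) gk = 2) (hr1 : 1 ≤ r)
    (hr : (r : ℤ) + chiK f (𝟙 (Spec (CommRingCat.of k))) 1 ≤ 0) (p : (W ⊗ W).left)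
    (hp : (df i).left p ∈ Set.range (df j₁).left) (hp1 : (df i).left p ∉ idSet J) :
    trdegAt (df i).left p ≤ (r - 1 : ℕ) := by
  obtain ⟨w, hw, hw0⟩ := K432.CurveLift.exists_rtd_eq_zero (df j₁).left ((df i).left p) hp
  obtain ⟨x, hx⟩ := hS p
  obtain ⟨Ω, _, _, t, g, g₂, h3, h4, h5⟩ := exists_common
    (lift (fst (Jac.powOver f r) (Jac.powOver f r) ≫ S) (snd _ _ ≫ S) ≫ df i) (df j₁) x w
      ((comp_left_apply _ (df i) x).trans ((congrArg _ hx).trans hw.symm))
  have h6 : (g ≫ lift (fst (Jac.powOver f r) (Jac.powOver f r) ≫ S) (snd _ _ ≫ S)).left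
        (IsLocalRing.closedPoint Ω : PrimeSpectrum Ω) = p :=
    (comp_left_apply g _ _).trans ((congrArg _ h4).trans hx)
  have h7 := upper_aux1 i hi S h hcl hj₁ gk h2 hd hr1 hr g g₂ (by rw [Category.assoc, h3]) (by rw [h5]; exact hw0)
    (fun hone => hp1 (by
      have h8 : (g₂ ≫ df j₁).left (IsLocalRing.closedPoint Ω : PrimeSpectrum Ω) = (df i).left p :=
        (comp_left_apply g₂ (df j₁) _).trans ((congrArg _ h5).trans hw)
      rw [← h8, hone]
      exact one_mem_idSet _))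
  rwa [h6] at h7

include hi hS h hcl hj₁ in
/-- The fibres over the differences of distinct points. -/
theorem fiber_eq [LocallyOfFiniteType (df i).left] [LocallyOfFiniteType (df j₁).left] [QuasiCompact (df j₁).left]
    (gk : Pic (PicF.XT f (Over.mk (𝟙 (Spec (CommRingCat.of k))))))
    (h2 : 2 ≤ hK f (𝟙 _) 0 gk) (hd : dK f (𝟙 _) gk = 2) (hr1 : 1 ≤ r)
    (hr : (r : ℤ) + chiK f (𝟙 (Spec (CommRingCat.of k))) 1 ≤ 0) (z : J.left)
    (hz : z ∈ Set.range (df j₁).left) (hz1 : z ∉ idSet J) :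
    topologicalKrullDim ((df i).left.fiber z) = ((r - 1 : ℕ) : WithBot ℕ∞) := by
  apply le_antisymm
  · exact Sga4h.GenULADim.topologicalKrullDim_fiber_le _ _ _ fun p hp =>
      upper_pos i hi S hS h hcl hj₁ gk h2 hd hr1 hr p (hp ▸ hz) (hp ▸ hz1)
  · obtain ⟨w, hw, hw0⟩ := K432.CurveLift.exists_rtd_eq_zero (df j₁).left z hz
    obtain ⟨p, hp, hp'⟩ := lower_aux i S h hcl hj₁ hr1 hr w hw0
    have h3 := le_dim_fiber (df i).left p (r - 1) hp'
    rwa [hp, hw] at h3

include hi hS h hcl hj₁ in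
/-- The dimension of the preimage of `C - C`. -/
theorem dim_preimage_le [LocallyOfFiniteType (df i).left] [LocallyOfFiniteType (df j₁).left] [QuasiCompact (df j₁).left]
    [LocallyOfFiniteType (W ⊗ W).hom]
    (gk : Pic (PicF.XT f (Over.mk (𝟙 (Spec (CommRingCat.of k))))))
    (h2 : 2 ≤ hK f (𝟙 _) 0 gk) (hd : dK f (𝟙 _) gk = 2) (hr1 : 1 ≤ r)
    (hr : (r : ℤ) + chiK f (𝟙 (Spec (CommRingCat.of k))) 1 ≤ 0)
    (hdim : ∀ w, trdegAt (XO f ⊗ XO f).hom w ≤ (2 : ℕ))
    (hcl' : IsClosed (Set.range (df j₁).left)) :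
    topologicalKrullDim ((df i).left ⁻¹' Set.range (df j₁).left) ≤ ((r + 1 : ℕ) : WithBot ℕ∞) := by
  refine dim_closed_le (W ⊗ W).hom (hcl'.preimage (df i).left.continuous) (r + 1) fun p hp => ?_
  have h3 : (W ⊗ W).hom = (df i).left ≫ J.hom := (Over.w (df i)).symm
  rw [h3, trdegAt_comp]
  by_cases hp1 : (df i).left p ∈ idSet J
  · have h4 : trdegAt J.hom ((df i).left p) = 0 := by
      obtain ⟨x, hx⟩ := hp1
      have h5 := trdegAt_comp (η[J] : 𝟙_ _ ⟶ J).left J.hom x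
      have h6 : (η[J] : 𝟙_ _ ⟶ J).left ≫ J.hom = 𝟙 _ := Over.w (η[J] : 𝟙_ _ ⟶ J)
      rw [h6, trdegAt_eq_zero_of_isPreimmersion, hx] at h5
      exact (add_eq_zero.1 h5.symm).1
    obtain ⟨Ω, _, _, t, g, hg⟩ := exists_geom S hS p
    have h5 := upper_aux i hi S g
    rw [hg] at h5
    rw [h4, zero_add]
    refine h5.trans ?_
    exact_mod_cast Nat.le_succ r
  · have h4 := upper_pos i hi S hS h hcl hj₁ gk h2 hd hr1 hr p hp hp1
    obtain ⟨w, hw⟩ := hp
    have h5 : trdegAt J.hom ((df i).left p) ≤ (2 : ℕ) := by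
      have h6 := trdegAt_comp (df j₁).left J.hom w
      have h7 : (df j₁).left ≫ J.hom = (XO f ⊗ XO f).hom := Over.w (df j₁)
      rw [h7, hw] at h6
      refine le_trans ?_ (hdim w)
      rw [h6]
      exact le_self_add
    refine (add_le_add h5 h4).trans ?_
    have h6 : 2 + (r - 1) ≤ r + 1 := by omega
    exact_mod_cast h6

end main

section dense

variable {k : Type u} [Field k] {X : Scheme.{u}} {f : X ⟶ Spec (CommRingCat.of k)}
  [IsProper f] [Smooth f] [GeometricallyConnected f] [SmoothOfRelativeDimension 1 f]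
  {J : Over (Spec (CommRingCat.of k))} [GrpObj J]
  {σ : Spec (CommRingCat.of k) ⟶ X} {hσ : σ ≫ f = 𝟙 (Spec (CommRingCat.of k))} {ξ : Pic (PicF.XT f J)}
  (h : IsJac f σ hσ J ξ) {j₁ : XO f ⟶ J} (hj₁ : K532.Dict.IsAbel h j₁)

omit [IsProper f] [Smooth f] [GeometricallyConnected f] [SmoothOfRelativeDimension 1 f] in
theorem subset_closure [IrreducibleSpace (XO f ⊗ XO f).left] {V : Set J.left} (hV : IsOpen V)
    (hne : (V ∩ Set.range (df j₁).left).Nonempty) :
    Set.range (df j₁).left ⊆ closure (V ∩ Set.range (df j₁).left) := by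
  have h1 : Dense ((df j₁).left ⁻¹' V) := by
    refine (hV.preimage (df j₁).left.continuous).dense ?_
    obtain ⟨z, hz, w, rfl⟩ := hne
    exact ⟨w, hz⟩
  rintro _ ⟨w, rfl⟩
  have h2 : w ∈ closure ((df j₁).left ⁻¹' V) := h1 w
  have h3 := image_closure_subset_closure_image (df j₁).left.continuous ⟨w, h2, rfl⟩
  refine closure_mono ?_ h3
  rintro _ ⟨w', hw', rfl⟩
  exact ⟨hw', w', rfl⟩

include h hj₁ in
/-- `C - C` is not a point. -/
theorem exists_ne [IsAlgClosed k] (hg : chiK f (𝟙 (Spec (CommRingCat.of k))) 1 ≤ 0) :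
    ((idSet J)ᶜ ∩ Set.range (df j₁).left).Nonempty := by
  obtain ⟨x, -⟩ := exists_notMem f (𝟙 (Spec (CommRingCat.of k))) 0
  obtain ⟨y, hy⟩ := exists_notMem f (𝟙 (Spec (CommRingCat.of k))) {x}
  rw [Multiset.mem_singleton] at hy
  let pt : Spec (CommRingCat.of k) := IsLocalRing.closedPoint k
  let u : Over.mk (𝟙 (Spec (CommRingCat.of k))) ⟶ XO f ⊗ XO f := lift (Abel.ptHom x) (Abel.ptHom y)
  refine ⟨(df j₁).left (u.left pt), fun hmem => hy ?_, ⟨_, rfl⟩⟩
  obtain ⟨z, hz⟩ := hmem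
  have h1 : (u ≫ df j₁).left = (1 : Over.mk (𝟙 (Spec (CommRingCat.of k))) ⟶ J).left := by
    refine section_ext J.hom _ _ (Over.w (u ≫ df j₁)) (Over.w (1 : Over.mk (𝟙 (Spec (CommRingCat.of k))) ⟶ J)) ?_
    refine Eq.trans (hz.symm : (u ≫ df j₁).left pt = _) ?_
    rw [Hom.one_def]
    have h2 : z = (toUnit (Over.mk (𝟙 (Spec (CommRingCat.of k))))).left pt := Subsingleton.elim (α := PrimeSpectrum k) _ _
    rw [h2]
    rfl
  have h2 : u ≫ df j₁ = 1 := Over.OverMorphism.ext h1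
  have h3 := cls_lift_df h hj₁ (𝟙 (Spec (CommRingCat.of k))) x y
  have h4 : lift (Abel.ptHom x) (Abel.ptHom y) ≫ df j₁ = 1 := h2
  rw [h4, map_one] at h3
  exact (gcl_inj f (𝟙 _) hg (inv_mul_eq_one.1 h3.symm)).symm

end dense

end K914.DiffMain
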