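import Groth.Agent.Jac.K914.Martens

/-!
# Transcendence degrees in families of divisors

* `le_dim_fiber`: a point of transcendence degree `n` over its image forces the fibre to have dimension `≥ n`;
* `factor_algClosed`: an algebraic subfield is contained in every algebraically closed one;
* `exists_pts`: `n` points of the curve are defined over an extension of transcendence degree `≤ n`;
* `exists_small`: `n ≤ g - 1` points are defined over an extension of transcendence degree `≤ n + 1 - h⁰`.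
-/

set_option autoImplicit false
universe u
open CategoryTheory CategoryTheory.Limits AlgebraicGeometry Opposite TopologicalSpace

namespace K914.DiffTr

open Groth.Agent Groth.Agent.Grpsch Groth.Agent.Grpsch.PicGrp Groth.Agent.Fga.RigGrp Groth.Agent.Fga.JacSum
open Groth.Agent.Fga.JacAlg Groth.Agent.Picfga.ChiDef Groth.Agent.Fga.JacSurj Groth.Agent.Picfga.SecGraph
open Groth.Agent.Sga4h.GeoDim
open K914.Curve K914.Cls K914.Points K914.HField K914.PtDrop K914.Chain K914.Semi K914.Dv K914.Cliff K914.Sc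
open K914.Spread K914.Martens

section fib

variable {Z W : Scheme.{u}} (p : Z ⟶ W) [LocallyOfFiniteType p]

theorem le_dim_fiber (z : Z) (n : ℕ) (h : (n : Cardinal.{u}) ≤ trdegAt p z) :
    (n : WithBot ℕ∞) ≤ topologicalKrullDim (p.fiber (p z)) := by
  have h1 : z ∈ Set.range (p.fiberι (p z)) := by
    rw [Scheme.Hom.range_fiberι]
    rfl
  obtain ⟨x, hx⟩ := h1
  obtain ⟨m, hm, hm'⟩ := CycB.RelDim.exists_dim_closure_fiber p (p z) x
  rw [hx, ← trdegAt_eq_rtd] at hm
  rw [hm] at h
  have h4 : n ≤ m := by exact_mod_cast h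
  have h5 : topologicalKrullDim (closure {x} : Set (p.fiber (p z))) ≤ topologicalKrullDim (p.fiber (p z)) :=
    Topology.IsInducing.subtypeVal.topologicalKrullDim_le
  rw [hm'] at h5
  refine le_trans ?_ h5
  exact_mod_cast h4

end fib

section fields

variable {S : Scheme.{u}}

theorem isAlgebraic_of_trdegAt {F K : Type u} [Field F] [Field K] (φ : CommRingCat.of F ⟶ CommRingCat.of K)
    (h : ∀ z, trdegAt (Spec.map φ) z = 0) : @Algebra.IsAlgebraic F K _ _ φ.hom.toAlgebra := by
  have h1 := h (genericPoint (Spec (CommRingCat.of K)))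
  rw [trdegAt_genericPoint_Spec φ φ.hom.injective] at h1
  let _ := φ.hom.toAlgebra
  have h2 : Algebra.trdeg F K = 0 := h1
  have h3 : FaithfulSMul F K := (faithfulSMul_iff_algebraMap_injective F K).mpr φ.hom.injective
  exact trdeg_eq_zero_iff.1 h2

/-- An algebraic subfield is contained in every algebraically closed subfield. -/
theorem factor_algClosed {F K E Ω : Type u} [Field F] [Field K] [Field E] [Field Ω] [IsAlgClosed E]
    {sF : Spec (CommRingCat.of F) ⟶ S} {sK : Spec (CommRingCat.of K) ⟶ S} {sE : Spec (CommRingCat.of E) ⟶ S}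
    {t : Spec (CommRingCat.of Ω) ⟶ S} (a : Over.mk t ⟶ Over.mk sK) (b : Over.mk sK ⟶ Over.mk sF)
    (c : Over.mk t ⟶ Over.mk sE) (d : Over.mk sE ⟶ Over.mk sF) (h : a ≫ b = c ≫ d)
    (hb : ∀ z, trdegAt b.left z = 0) : ∃ e : Over.mk sE ⟶ Over.mk sK, c ≫ e = a := by
  obtain ⟨α, hα⟩ := Spec.map_surjective a.left
  obtain ⟨β, hβ⟩ := Spec.map_surjective b.left
  obtain ⟨γ, hγ⟩ := Spec.map_surjective c.left
  obtain ⟨δ, hδ⟩ := Spec.map_surjective d.left
  have h1 : β ≫ α = δ ≫ γ := by
    apply Spec.map_injective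
    rw [Spec.map_comp, Spec.map_comp, hα, hβ, hγ, hδ]
    exact congrArg (fun u => u.left) h
  have h2 : @Algebra.IsAlgebraic F K _ _ β.hom.toAlgebra := isAlgebraic_of_trdegAt β fun z => by
    rw [hβ]; exact hb z
  have key : ∀ x : K, ∃ y : E, γ.hom y = α.hom x := by
    intro x
    let _ := β.hom.toAlgebra
    let _ : Algebra E Ω := γ.hom.toAlgebra
    obtain ⟨p, hp, hpx⟩ := h2.isAlgebraic x
    have h3 : IsAlgebraic E (α.hom x) := by
      refine ⟨p.map δ.hom, ?_, ?_⟩
      · rw [Ne, Polynomial.map_eq_zero_iff δ.hom.injective]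
        exact hp
      · rw [Polynomial.aeval_def, Polynomial.eval₂_map]
        have h4 : (algebraMap E Ω).comp δ.hom = α.hom.comp (algebraMap F K) := by
          have := congrArg (fun u => u.hom) h1
          exact this.symm
        have h5 : Polynomial.eval₂ (algebraMap F K) x p = 0 := hpx
        rw [h4, ← Polynomial.hom_eval₂, h5, map_zero]
    have h4 : IsIntegral E (α.hom x) := h3.isIntegral
    have h5 := IsAlgClosed.degree_eq_one_of_irreducible E (minpoly.irreducible h4)
    obtain ⟨y, hy⟩ := minpoly.mem_range_of_degree_eq_one E (α.hom x) h5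
    exact ⟨y, hy⟩
  choose g hg using key
  have hinj := γ.hom.injective
  let ε : K →+* E :=
    { toFun := g
      map_one' := hinj (by rw [hg, map_one, map_one])
      map_zero' := hinj (by rw [hg, map_zero, map_zero])
      map_add' := fun x y => hinj (by rw [hg, map_add, map_add, hg, hg])
      map_mul' := fun x y => hinj (by rw [hg, map_mul, map_mul, hg, hg]) }
  have hε : CommRingCat.ofHom ε ≫ γ = α := by
    ext x
    exact hg x
  have h6 : c.left ≫ Spec.map (CommRingCat.ofHom ε) = a.left := by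
    rw [← hγ, ← hα, ← Spec.map_comp, hε]
  refine ⟨Over.homMk (Spec.map (CommRingCat.ofHom ε)) ?_, Over.OverMorphism.ext h6⟩
  apply cancel_field c.left
  have h7 := Over.w a
  have h8 := Over.w c
  change a.left ≫ sK = t at h7
  change c.left ≫ sE = t at h8
  change c.left ≫ Spec.map (CommRingCat.ofHom ε) ≫ sK = c.left ≫ sE
  rw [← Category.assoc, h6, h7, h8]

end fields

section curve

variable {k : Type u} [Field k] {X : Scheme.{u}} (f : X ⟶ Spec (CommRingCat.of k))
  [IsProper f] [Smooth f] [GeometricallyConnected f] [SmoothOfRelativeDimension 1 f]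

/-- `n` points of the curve are defined over an extension of transcendence degree at most `n`. -/
theorem exists_pts (n : ℕ) : ∀ {F Ω : Type u} [Field F] [Field Ω] {s : Spec (CommRingCat.of F) ⟶ Spec (CommRingCat.of k)}
    {t : Spec (CommRingCat.of Ω) ⟶ Spec (CommRingCat.of k)} (a : Over.mk t ⟶ Over.mk s)
    (x : Fin n → Pt f (Over.mk t)),
    ∃ (E : Type u) (_ : Field E) (s' : Spec (CommRingCat.of E) ⟶ Spec (CommRingCat.of k)) (b : Over.mk s' ⟶ Over.mk s)
      (a' : Over.mk t ⟶ Over.mk s') (_ : a' ≫ b = a) (x' : Fin n → Pt f (Over.mk s')) (_ : ∀ i, (x' i).comp a' = x i)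
      (m : ℕ), (∀ z, trdegAt b.left z = m) ∧ m ≤ n := by
  induction n with
  | zero =>
    intro F Ω _ _ s t a x
    refine ⟨F, inferInstance, s, 𝟙 _, a, Category.comp_id _, fun i => i.elim0, fun i => i.elim0, 0, fun z => ?_, le_rfl⟩
    rw [Nat.cast_zero]
    exact trdegAt_eq_zero_of_isPreimmersion (𝟙 _) z
  | succ n ih =>
    intro F Ω _ _ s t a x
    obtain ⟨E, hE, s', b, a', hab, x', hx', m, hm, hle⟩ := step f a 1 (by rw [hK_zero_one]; exact one_pos) (x 0)
    rw [hK_zero_one] at hle
    obtain ⟨E', hE', s'', b', a'', hab', x'', hx'', m', hm', hle'⟩ := ih a' (fun i => x i.succ)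
    refine ⟨E', hE', s'', b' ≫ b, a'', by rw [← Category.assoc, hab', hab], Fin.cons (x'.comp b') x'', ?_, m + m', ?_, ?_⟩
    · intro i
      refine Fin.cases ?_ (fun j => ?_) i
      · rw [Fin.cons_zero, ← hx', ← hab']
        exact Subtype.ext (by simp)
      · rw [Fin.cons_succ, hx'']
    · intro z
      change trdegAt (b'.left ≫ b.left) z = _
      rw [trdegAt_comp, hm, hm', Nat.cast_add]
    · omega

/-- `n` points `x_i` of the curve, `n < g`, are defined over an extension of transcendence degree at most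
`n + 1 - h⁰(Σ x_i)`. -/
theorem exists_small {n : ℕ} {F Ω : Type u} [Field F] [Field Ω] {s : Spec (CommRingCat.of F) ⟶ Spec (CommRingCat.of k)}
    {t : Spec (CommRingCat.of Ω) ⟶ Spec (CommRingCat.of k)} (a : Over.mk t ⟶ Over.mk s)
    (x : Fin n → Pt f (Over.mk t)) (hn : (n : ℤ) + chiK f t 1 ≤ 0) :
    ∃ (E : Type u) (_ : Field E) (s' : Spec (CommRingCat.of E) ⟶ Spec (CommRingCat.of k)) (b : Over.mk s' ⟶ Over.mk s)
      (a' : Over.mk t ⟶ Over.mk s') (_ : a' ≫ b = a) (x' : Fin n → Pt f (Over.mk s')) (_ : ∀ i, (x' i).comp a' = x i)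
      (m : ℕ), (∀ z, trdegAt b.left z = m) ∧ m + hK f t 0 (∏ i, (gcl f (x i))⁻¹) ≤ n + 1 := by
  have h1 : hK f t 0 (pull (PicF.XTmap f a) (omK f s) * ∏ i, gcl f (x i)) = hK f t 1 (∏ i, (gcl f (x i))⁻¹) := by
    rw [pull_omK, serre, Finset.prod_inv_distrib, inv_inv]
  have h2 := rr f t (∏ i, (gcl f (x i))⁻¹)
  rw [dK_sum] at h2
  have h3 : 0 < hK f t 0 (∏ i, (gcl f (x i))⁻¹) := hK_prod_pos f t _ _ fun i _ => hK_gcl_inv_pos f t (x i)
  obtain ⟨E, hE, s', b, a', hab, x', hx', m, hm, hle⟩ := exists_chain f n a (omK f s) x (by rw [h1]; omega)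
  have h4 : (hK f s 0 (omK f s) : ℤ) = 1 - chiK f t 1 := by
    have h5 : hK f s 0 (omK f s) = hK f s 1 1 := by rw [serre f s 1, inv_one, mul_one]
    have h6 := hK_sub f s 1
    rw [hK_zero_one] at h6
    have h7 := chiK_pull f a 1
    rw [map_one] at h7
    rw [h5]
    omega
  refine ⟨E, hE, s', b, a', hab, x', hx', m, hm, ?_⟩
  rw [h1] at hle
  omega

end curve

end K914.DiffTr
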