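import Groth.Agent.Jac.K914.Cliff

/-!
# General points on a curve over an algebraically closed field

* `exists_pt_mem`: points in open sets; `exists_drop`: a point at which `h⁰` drops.
* `exists_general`: `n ≤ g` points whose sum has `h⁰ = 1`.
-/

set_option autoImplicit false
universe u
open CategoryTheory CategoryTheory.Limits AlgebraicGeometry Opposite TopologicalSpace

namespace K914.GenPos

open Groth.Agent Groth.Agent.Grpsch Groth.Agent.Grpsch.PicGrp Groth.Agent.Fga.RigGrp Groth.Agent.Fga.JacSum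
open Groth.Agent.Fga.JacAlg Groth.Agent.Picfga.ChiDef Groth.Agent.Fga.JacSurj Groth.Agent.Picfga.SecGraph
open Groth.Agent.Fdesc.LocGen
open K914.Curve K914.Cls K914.Points K914.HField K914.PtDrop K914.Dv K914.Cliff

variable {k : Type u} [Field k] {X : Scheme.{u}} (f : X ⟶ Spec (CommRingCat.of k))
  [IsProper f] [Smooth f] [GeometricallyConnected f] [SmoothOfRelativeDimension 1 f]
  {K : Type u} [Field K] (t : Spec (CommRingCat.of K) ⟶ Spec (CommRingCat.of k))

theorem exists_pt_mem [IsAlgClosed K] (W : (PicF.XT f (Over.mk t)).Opens)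
    (hW : (W : Set (PicF.XT f (Over.mk t))).Nonempty) :
    ∃ x : Pt f (Over.mk t), ∀ z : Spec (CommRingCat.of K), sec f (Over.mk t) x.1 x.2 z ∈ W := by
  have h1 : Nonempty W := hW.to_subtype
  have h2 : IsProper (PicF.XTproj f (Over.mk t)) := inferInstanceAs (IsProper (pullback.snd f t))
  let p : PicF.XT f (Over.mk t) ⟶ Spec (CommRingCat.of K) := PicF.XTproj f (Over.mk t)
  have h2' : IsProper p := h2
  have h3 : IsLocallyNoetherian (PicF.XT f (Over.mk t)) := LocallyOfFiniteType.isLocallyNoetherian p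
  have h4 : CompactSpace (PicF.XT f (Over.mk t)) := (quasiCompact_iff_compactSpace p).1 inferInstance
  have h5 : IsNoetherian (PicF.XT f (Over.mk t)) := {}
  have h6 : QuasiCompact (W.ι ≫ p) := inferInstance
  obtain ⟨σ, hσ⟩ := K914.Semi.exists_section (W.ι ≫ p)
  let y : Pt f (Over.mk t) := ⟨σ ≫ W.ι ≫ pullback.fst f t, by
    rw [Category.assoc, Category.assoc, pullback.condition, ← Category.assoc, ← Category.assoc, Category.assoc σ]
    erw [hσ]
    exact Category.id_comp _⟩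
  have hy : sec f (Over.mk t) y.1 y.2 = σ ≫ W.ι := by
    apply pullback.hom_ext
    · rw [Category.assoc]
      exact sec_fst f _ _
    · rw [Category.assoc]
      exact (sec_proj _ _ _).trans hσ.symm
  refine ⟨y, fun z => ?_⟩
  rw [hy]
  exact (σ z).2

theorem exists_drop [IsAlgClosed K] {c : Pic (PicF.XT f (Over.mk t))} (hc : 0 < hK f t 0 c) :
    ∃ x : Pt f (Over.mk t), hK f t 0 (c * gcl f x) + 1 = hK f t 0 c := by
  have := isIntegral_XT f t
  obtain ⟨L, hL, rfl⟩ := exists_mk c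
  obtain ⟨s, hs⟩ := exists_section_of_pos f t hL hc
  have h1 := genericPoint_mem_genLocus hL hs
  rw [mem_genLocus_iff] at h1
  obtain ⟨V, hV, hg⟩ := h1
  obtain ⟨x, hx⟩ := exists_pt_mem f t V ⟨_, hV⟩
  refine ⟨x, le_antisymm ?_ (hK_le_mul_gcl_add_one f t _ x)⟩
  refine hK_drop f t hL s x (IsLocalRing.closedPoint K) ?_
  rw [mem_genLocus_iff]
  exact ⟨V, hx _, hg⟩

/-- `n ≤ g` general points. -/
theorem exists_general [IsAlgClosed K] (n : ℕ) (hn : (n : ℤ) + chiK f t 1 ≤ 1) :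
    ∃ x : Fin n → Pt f (Over.mk t), hK f t 0 (∏ i, (gcl f (x i))⁻¹) = 1 := by
  suffices h : ∃ x : Fin n → Pt f (Over.mk t), hK f t 0 (∏ i, (gcl f (x i))⁻¹) = 1 ∧
      dK f t (∏ i, (gcl f (x i))⁻¹) = n by
    obtain ⟨x, hx, -⟩ := h
    exact ⟨x, hx⟩
  induction n with
  | zero => exact ⟨Fin.elim0, by rw [Fin.prod_univ_zero]; exact hK_zero_one f t, by
      rw [Fin.prod_univ_zero, dK_one]; simp⟩
  | succ n ih =>
    push_cast at hn
    obtain ⟨x, hx, hd⟩ := ih (by omega)
    have h1 := rr f t (∏ i, (gcl f (x i))⁻¹)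
    rw [hx, hd] at h1
    have h2 : 0 < hK f t 1 (∏ i, (gcl f (x i))⁻¹) := by omega
    have h2' := serre f t (∏ i, (gcl f (x i))⁻¹)
    rw [h2'] at h2
    obtain ⟨y, hy⟩ := exists_drop f t h2
    have h3 : ∏ i, (gcl f ((Fin.cons y x : Fin (n + 1) → Pt f (Over.mk t)) i))⁻¹ =
        (gcl f y)⁻¹ * ∏ i, (gcl f (x i))⁻¹ := by
      rw [Fin.prod_univ_succ]
      rfl
    refine ⟨Fin.cons y x, ?_, ?_⟩
    · have h4 := rr f t ((gcl f y)⁻¹ * ∏ i, (gcl f (x i))⁻¹)
      rw [dK_mul, dK_inv, dK_gcl, hd, serre] at h4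
      have h5 : omK f t * ((gcl f y)⁻¹ * ∏ i, (gcl f (x i))⁻¹)⁻¹ =
          omK f t * (∏ i, (gcl f (x i))⁻¹)⁻¹ * gcl f y := by
        rw [mul_inv_rev, inv_inv, mul_assoc]
      rw [h5] at h4
      rw [h3]
      omega
    · rw [h3, dK_mul, dK_inv, dK_gcl, hd]
      push_cast
      ring

end K914.GenPos
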