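import Groth.Agent.Jac.K914.Cliff
import Groth.Agent.Jac.K914.GenPos

/-!
# Divisors on a hyperelliptic curve over an algebraically closed field

`gd` is a class of degree two with `h⁰(gd) ≥ 2`.

* `gcl_inj`: points are determined by their classes (`g ≥ 1`);
* `pencil`: `2 h⁰(c) ≤ h⁰(c + gd) + h⁰(c - gd)`;
* `sub_pencil`: `h⁰(c) ≥ 2` and `h¹(c) ≥ 1` imply `h⁰(c - gd) ≥ 1`;
* `key`: `deg D ≤ g - 1`, `x ≠ y` and `h⁰(D - x + y) ≥ 1` imply `h⁰(D - x) ≥ 1` or `h⁰(D - y') ≥ 1`, `y + y' ∼ gd`.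
-/

set_option autoImplicit false
universe u
open CategoryTheory CategoryTheory.Limits AlgebraicGeometry Opposite TopologicalSpace

namespace K914.Hyper

open Groth.Agent Groth.Agent.Grpsch Groth.Agent.Grpsch.PicGrp Groth.Agent.Fga.RigGrp Groth.Agent.Fga.JacSum
open Groth.Agent.Fga.JacAlg Groth.Agent.Picfga.ChiDef Groth.Agent.Fga.JacSurj Groth.Agent.Picfga.SecGraph
open K914.Curve K914.Cls K914.Points K914.HField K914.PtDrop K914.Dv K914.Cliff K914.GenPos

variable {k : Type u} [Field k] {X : Scheme.{u}} (f : X ⟶ Spec (CommRingCat.of k))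
  [IsProper f] [Smooth f] [GeometricallyConnected f] [SmoothOfRelativeDimension 1 f]
  {K : Type u} [Field K] (t : Spec (CommRingCat.of K) ⟶ Spec (CommRingCat.of k))

theorem hK_eq_zero {c : Pic (PicF.XT f (Over.mk t))} (hc : dK f t c < 0) : hK f t 0 c = 0 := by
  by_contra h
  have := dK_nonneg f t (Nat.pos_of_ne_zero h)
  omega

variable [IsAlgClosed K]

theorem hK_pt (hg : chiK f t 1 ≤ 0) (y : Pt f (Over.mk t)) : hK f t 0 (gcl f y)⁻¹ = 1 := by
  have h1 := hK_gcl_inv_pos f t y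
  have h2 := hK_mul_inv_le f t 1 y
  rw [one_mul, hK_zero_one] at h2
  by_contra hne
  have h3 : hK f t 0 (gcl f y)⁻¹ = 2 := by omega
  have h4 := hK_sub f t 1
  rw [hK_zero_one] at h4
  have h5 := serre f t 1
  rw [inv_one, mul_one] at h5
  obtain ⟨w, hw⟩ := exists_drop f t (c := omK f t) (by omega)
  have h6 := hK_le_mul_gcl_add_one f t (gcl f y)⁻¹ w
  have h7 : (gcl f y)⁻¹ * gcl f w = 1 := by
    refine eq_one_of_dK_nonpos f t (by omega) ?_
    rw [dK_mul, dK_inv, dK_gcl, dK_gcl]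
    norm_num
  have h8 : gcl f y = gcl f w := by
    rw [inv_mul_eq_one] at h7
    exact h7
  have h9 := rr f t (gcl f y)⁻¹
  rw [serre, inv_inv, dK_inv, dK_gcl, h8] at h9
  rw [h8] at h3
  omega

theorem gcl_inj (hg : chiK f t 1 ≤ 0) {x y : Pt f (Over.mk t)} (h : gcl f x = gcl f y) : x = y := by
  by_contra hne
  have h1 := submod f t (gcl f x) hne
  have h2 : hK f t 0 (gcl f x) = 0 := hK_eq_zero f t (by rw [dK_gcl]; norm_num)
  have h3 := hK_pt f t hg y
  rw [← h, mul_inv_cancel, hK_zero_one, one_mul, h2, h, h3] at h1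
  omega

variable {gd : Pic (PicF.XT f (Over.mk t))} (h2 : 2 ≤ hK f t 0 gd) (hd : dK f t gd = 2)

include h2 hd

theorem exists_conj (y : Pt f (Over.mk t)) : ∃ y' : Pt f (Over.mk t), gd = (gcl f y)⁻¹ * (gcl f y')⁻¹ := by
  have h3 := hK_le_mul_gcl_add_one f t gd y
  obtain ⟨M, hM⟩ := exists_cl f t (c := gd * gcl f y) (by omega)
  have h4 := dK_cl f t M
  rw [hM, dK_mul, hd, dK_gcl] at h4
  have h5 : Multiset.card M = 1 := by omega
  obtain ⟨y', rfl⟩ := Multiset.card_eq_one.1 h5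
  rw [cl_singleton] at hM
  refine ⟨y', ?_⟩
  rw [hM, mul_comm, mul_inv_cancel_right]

theorem pencil (hg : chiK f t 1 ≤ 0) (c : Pic (PicF.XT f (Over.mk t))) :
    2 * hK f t 0 c ≤ hK f t 0 (c * gd) + hK f t 0 (c * gd⁻¹) := by
  obtain ⟨y, -⟩ := exists_notMem f t (0 : Multiset (Pt f (Over.mk t)))
  obtain ⟨y', hy'⟩ := exists_conj f t h2 hd y
  obtain ⟨w, hw⟩ := exists_notMem f t (y ::ₘ y' ::ₘ (0 : Multiset (Pt f (Over.mk t))))
  obtain ⟨w', hw'⟩ := exists_conj f t h2 hd w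
  rw [Multiset.mem_cons, Multiset.mem_cons, not_or, not_or] at hw
  obtain ⟨hw1, hw2, -⟩ := hw
  have e1 : cl f (y ::ₘ y' ::ₘ (0 : Multiset (Pt f (Over.mk t)))) = gd := by
    rw [cl_cons, cl_cons, cl_zero, mul_one, hy']
  have e2 : cl f (w ::ₘ w' ::ₘ (0 : Multiset (Pt f (Over.mk t)))) = gd := by
    rw [cl_cons, cl_cons, cl_zero, mul_one, hw']
  have h3 : (gcl f y)⁻¹ * (gcl f y')⁻¹ = (gcl f w)⁻¹ * (gcl f w')⁻¹ := hy'.symm.trans hw'
  have h4 : y ≠ w' := by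
    rintro rfl
    apply hw2
    rw [mul_comm (gcl f w)⁻¹] at h3
    exact (gcl_inj f t hg (inv_injective (mul_left_cancel h3))).symm
  have h5 : y' ≠ w' := by
    rintro rfl
    apply hw1
    exact (gcl_inj f t hg (inv_injective (mul_right_cancel h3))).symm
  have h6 := submod_cl f t (c * gd⁻¹) (y ::ₘ y' ::ₘ 0) (w ::ₘ w' ::ₘ 0) fun x hx hx' => by
    rw [Multiset.mem_cons, Multiset.mem_cons] at hx hx'
    rcases hx with rfl | rfl | hx
    · rcases hx' with rfl | rfl | hx'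
      · exact hw1 rfl
      · exact h4 rfl
      · exact absurd hx' (Multiset.notMem_zero _)
    · rcases hx' with rfl | rfl | hx'
      · exact hw2 rfl
      · exact h5 rfl
      · exact absurd hx' (Multiset.notMem_zero _)
    · exact absurd hx (Multiset.notMem_zero _)
  rw [e1, e2, inv_mul_cancel_right] at h6
  omega

theorem sub_pencil (hg : chiK f t 1 ≤ 0) (c : Pic (PicF.XT f (Over.mk t))) (hc0 : 2 ≤ hK f t 0 c)
    (hc1 : 0 < hK f t 1 c) : 0 < hK f t 0 (c * gd⁻¹) := by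
  rw [serre] at hc1
  obtain ⟨y, hy⟩ := exists_drop f t hc1
  obtain ⟨y', hy'⟩ := exists_conj f t h2 hd y
  have h3 := rr f t c
  have h4 := rr f t (c * (gcl f y)⁻¹)
  have h5 : omK f t * (c * (gcl f y)⁻¹)⁻¹ = omK f t * c⁻¹ * gcl f y := by
    rw [mul_inv_rev, inv_inv, mul_comm (gcl f y), mul_assoc]
  rw [serre, h5, dK_mul, dK_inv, dK_gcl] at h4
  rw [serre] at h3
  have h6 : hK f t 0 (c * (gcl f y)⁻¹) = hK f t 0 c := by omega
  have h7 := hK_mul_inv_le f t (c * (gcl f y)⁻¹) y'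
  rw [mul_assoc, ← hy'] at h7
  have h8 := pencil f t h2 hd hg c
  omega

theorem key (hg : chiK f t 1 ≤ 0) (M : Multiset (Pt f (Over.mk t))) (hM : (Multiset.card M : ℤ) + chiK f t 1 ≤ 0)
    {x y y' : Pt f (Over.mk t)} (hxy : x ≠ y) (hy' : gd = (gcl f y)⁻¹ * (gcl f y')⁻¹)
    (h : 0 < hK f t 0 (cl f M * gcl f x * (gcl f y)⁻¹)) :
    0 < hK f t 0 (cl f M * gcl f x) ∨ 0 < hK f t 0 (cl f M * gcl f y') := by
  by_cases h3 : 2 ≤ hK f t 0 (cl f M * (gcl f y)⁻¹)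
  · right
    have h4 := rr f t (cl f M * (gcl f y)⁻¹)
    rw [dK_mul, dK_inv, dK_gcl, dK_cl] at h4
    have h5 := sub_pencil f t h2 hd hg (cl f M * (gcl f y)⁻¹) h3 (by omega)
    have h6 : cl f M * (gcl f y)⁻¹ * gd⁻¹ = cl f M * gcl f y' := by
      rw [hy', mul_inv, inv_inv, inv_inv, mul_assoc, inv_mul_cancel_left]
    rwa [h6] at h5
  · left
    have h4 := submod f t (cl f M * gcl f x) hxy
    rw [mul_inv_cancel_right] at h4
    have h5 := hK_cl_pos f t M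
    omega

end K914.Hyper
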