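import Groth.Agent.Jac.K914.DiffTr
import Groth.Agent.Jac.K914.Hyper
import Groth.Agent.JacVar.K532.Setup

/-!
# Upper bounds for the fibres of the difference maps `W_r × W_r → J`

`W` is any `k`-scheme with `i : W ⟶ J` a monomorphism not changing residue fields, and `S : X^r ⟶ W` surjective with
`i (S (x_1, …, x_r)) = O(x_1 + ⋯ + x_r - r σ)`.
-/

set_option autoImplicit false
universe u
open CategoryTheory CategoryTheory.Limits AlgebraicGeometry Opposite TopologicalSpace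
open MonoidalCategory CartesianMonoidalCategory
open scoped MonObj

namespace K914.DiffUp

open Groth.Agent Groth.Agent.Grpsch Groth.Agent.Grpsch.PicGrp Groth.Agent.Fga.RigGrp Groth.Agent.Fga.JacSum
open Groth.Agent.Fga.JacAlg Groth.Agent.Picfga.ChiDef Groth.Agent.Fga.JacSurj Groth.Agent.Picfga.SecGraph
open Groth.Agent.Sga4h.GeoDim Groth.Agent.Sga7.H732 Groth.Agent.Sga7.H732.Hedge
open K914.Curve K914.Cls K914.Points K914.HField K914.PtDrop K914.Chain K914.Semi K914.Dv K914.Cliff K914.Sc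
open K914.Spread K914.Martens K914.Fine K914.DiffTr K914.Hyper

section df

variable {k : Type u} [Field k] {J W : Over (Spec (CommRingCat.of k))} [GrpObj J] (i : W ⟶ J)

/-- The difference map. -/
noncomputable abbrev df : W ⊗ W ⟶ J := (fst W W ≫ i) * (snd W W ≫ i)⁻¹

theorem comp_df {T : Over (Spec (CommRingCat.of k))} (g : T ⟶ W ⊗ W) :
    g ≫ df i = ((g ≫ fst W W) ≫ i) * ((g ≫ snd W W) ≫ i)⁻¹ := by
  rw [MonObj.comp_mul, GrpObj.comp_inv, Category.assoc, Category.assoc]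

theorem lift_df {T : Over (Spec (CommRingCat.of k))} (a b : T ⟶ W) :
    lift a b ≫ df i = (a ≫ i) * (b ≫ i)⁻¹ := by
  rw [comp_df, lift_fst, lift_snd]

theorem trdegAt_df_le (hi : ∀ z, trdegAt (lift (fst W W ≫ i) (snd W W ≫ i)).left z = 0) {Ω L : Type u} [Field Ω]
    [Field L] {t : Spec (CommRingCat.of Ω) ⟶ Spec (CommRingCat.of k)} {s : Spec (CommRingCat.of L) ⟶ Spec (CommRingCat.of k)}
    (α : Over.mk t ⟶ Over.mk s) (P : Over.mk t ⟶ W ⊗ W) (a d : Over.mk s ⟶ J) (ha : α ≫ a = P ≫ fst W W ≫ i)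
    (hd : α ≫ d = P ≫ df i) (pt : Spec (CommRingCat.of Ω)) :
    trdegAt (df i).left (P.left pt) ≤ trdegAt d.left (α.left pt) := by
  have h1 : α ≫ lift a (d⁻¹ * a) = P ≫ lift (fst W W ≫ i) (snd W W ≫ i) := by
    rw [comp_lift, comp_lift, ha, MonObj.comp_mul, GrpObj.comp_inv, hd, ha, comp_df, mul_inv_rev, inv_inv,
      ← Category.assoc, inv_mul_cancel_right, Category.assoc, Category.assoc]
  have h2 : lift a (d⁻¹ * a) ≫ df (𝟙 J) = d := by
    rw [lift_df, Category.comp_id, Category.comp_id, mul_inv_rev, inv_inv, mul_inv_cancel_left]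
  have h3 : df i = lift (fst W W ≫ i) (snd W W ≫ i) ≫ df (𝟙 J) := by
    rw [lift_df, Category.comp_id, Category.comp_id]
  have h4 := trdegAt_comp (lift (fst W W ≫ i) (snd W W ≫ i)).left (df (𝟙 J)).left (P.left pt)
  rw [hi, add_zero] at h4
  have h5 := trdegAt_comp (lift a (d⁻¹ * a)).left (df (𝟙 J)).left (α.left pt)
  have h6 : (lift (fst W W ≫ i) (snd W W ≫ i)).left (P.left pt) = (lift a (d⁻¹ * a)).left (α.left pt) := by
    have := congrArg (fun u => u.left pt) h1
    exact this.symm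
  have h7 : (df i).left = (lift (fst W W ≫ i) (snd W W ≫ i)).left ≫ (df (𝟙 J)).left :=
    congrArg (fun u => u.left) h3
  have h8 : d.left = (lift a (d⁻¹ * a)).left ≫ (df (𝟙 J)).left := (congrArg (fun u => u.left) h2).symm
  rw [h7, h4, h8, h5, h6]
  exact le_self_add

end df

section setup

variable {k : Type u} [Field k] {X : Scheme.{u}} {f : X ⟶ Spec (CommRingCat.of k)}

theorem exists_ofFn' {α : Type*} (M : Multiset α) {r : ℕ} (h : Multiset.card M = r) :
    ∃ x : Fin r → α, Multiset.ofList (List.ofFn x) = M := by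
  subst h
  exact exists_ofFn M

/-- The curve as a scheme over the base. -/
noncomputable abbrev XO (f : X ⟶ Spec (CommRingCat.of k)) : Over (Spec (CommRingCat.of k)) := Over.mk f

/-- The coordinates of a point of `X × X`. -/
theorem eq_lift_ptHom {T : Over (Spec (CommRingCat.of k))} (u : T ⟶ XO f ⊗ XO f) :
    u = lift (Abel.ptHom ((Abel.idPt (f := f)).comp (u ≫ fst _ _))) (Abel.ptHom ((Abel.idPt (f := f)).comp (u ≫ snd _ _))) := by
  apply CartesianMonoidalCategory.hom_ext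
  · rw [lift_fst]
    exact Over.OverMorphism.ext (Category.comp_id _).symm
  · rw [lift_snd]
    exact Over.OverMorphism.ext (Category.comp_id _).symm

theorem ptHom_comp {T T' : Over (Spec (CommRingCat.of k))} (a : T' ⟶ T) (x : Pt f T) :
    a ≫ Abel.ptHom x = Abel.ptHom (x.comp a) := rfl

end setup

section pts

variable {S : Scheme.{u}}

theorem comp_left_apply {A B C : Over S} (u : A ⟶ B) (v : B ⟶ C) (p : A.left) :
    (u ≫ v).left p = v.left (u.left p) := rfl

/-- A field-valued point factors through the residue field. -/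
theorem exists_factor {A : Over S} {K : Type u} [Field K] {t : Spec (CommRingCat.of K) ⟶ S}
    (P : Over.mk t ⟶ A) (y : A.left) (hy : P.left (IsLocalRing.closedPoint K : PrimeSpectrum K) = y) :
    ∃ a : Over.mk t ⟶ Over.mk (fsr A.left y ≫ A.hom), a ≫ ofHom A (fsr A.left y) = P := by
  obtain ⟨φ, hφ⟩ := exists_fsr P.left y hy
  refine ⟨Over.homMk (Spec.map φ) ?_, Over.OverMorphism.ext hφ⟩
  change Spec.map φ ≫ fsr A.left y ≫ A.hom = t
  rw [← Category.assoc, hφ]
  exact Over.w P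

theorem trdegAt_comp_over {A B C : Over S} (u : A ⟶ B) (v : B ⟶ C) (z : A.left) :
    trdegAt (u ≫ v).left z = trdegAt v.left (u.left z) + trdegAt u.left z := trdegAt_comp u.left v.left z

theorem cancel_aux {G : Type*} [CommGroup G] (a b c : G) : a⁻¹ * b * c * a * b⁻¹ = c := by
  rw [show a⁻¹ * b * c * a * b⁻¹ = c * (a * a⁻¹) * (b * b⁻¹) by ac_rfl, mul_inv_cancel, mul_inv_cancel, mul_one, mul_one]

theorem trdegAt_comp_ofHom {A : Over S} (y : A.left) {K : Type u} [Field K] {s : Spec (CommRingCat.of K) ⟶ S}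
    (b : Over.mk s ⟶ Over.mk (fsr A.left y ≫ A.hom)) (z : Spec (CommRingCat.of K)) :
    trdegAt (b ≫ ofHom A (fsr A.left y)).left z = trdegAt b.left z := by
  change trdegAt (b.left ≫ fsr A.left y) z = _
  rw [trdegAt_comp, trdegAt_fsr, zero_add]

theorem ofHom_fsr_apply {A : Over S} (y : A.left) (z : Spec (CommRingCat.of (A.left.residueField y))) :
    (ofHom A (fsr A.left y)).left z = y := fsr_apply _ _ _

end pts

section upper

variable {k : Type u} [Field k] {X : Scheme.{u}} {f : X ⟶ Spec (CommRingCat.of k)}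
  [IsProper f] [Smooth f] [GeometricallyConnected f] [SmoothOfRelativeDimension 1 f]
  {J W : Over (Spec (CommRingCat.of k))} [GrpObj J] (i : W ⟶ J)
  (hi : ∀ z, trdegAt (lift (fst W W ≫ i) (snd W W ≫ i)).left z = 0) {r : ℕ} (S : Jac.powOver f r ⟶ W)

include hi in
/-- The fibre through the image of a point of `X^r × X^r`. -/
theorem upper_aux {Ω : Type u} [Field Ω] {t : Spec (CommRingCat.of Ω) ⟶ Spec (CommRingCat.of k)}
    (g : Over.mk t ⟶ Jac.powOver f r ⊗ Jac.powOver f r) :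
    trdegAt (df i).left ((g ≫ lift (fst (Jac.powOver f r) (Jac.powOver f r) ≫ S) (snd _ _ ≫ S)).left
      (IsLocalRing.closedPoint Ω : PrimeSpectrum Ω)) ≤ r := by
  obtain ⟨P, hP⟩ : ∃ P : Over.mk t ⟶ W ⊗ W, P = g ≫ lift (fst (Jac.powOver f r) (Jac.powOver f r) ≫ S) (snd _ _ ≫ S) :=
    ⟨_, rfl⟩
  have hP1 : P ≫ fst W W = (g ≫ fst _ _) ≫ S := by
    rw [hP, Category.assoc, lift_fst, Category.assoc]
  rw [← hP]
  let x : Fin r → Pt f (Over.mk t) := fun j => (powPt f r j).comp (g ≫ fst _ _)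
  have hx : ptsHom x = g ≫ fst _ _ := ptsHom_powPt_comp _
  obtain ⟨a₀, ha⟩ := exists_factor (P ≫ df i) _ rfl
  obtain ⟨L, hL, s, b, α, hab, x', hx', m, hm, hle⟩ := DiffTr.exists_pts f r a₀ x
  refine (trdegAt_df_le i hi α P (ptsHom x' ≫ S ≫ i) (b ≫ ofHom J (fsr J.left _)) ?_ ?_ _).trans ?_
  · rw [← Category.assoc, comp_ptsHom' x' α x hx', hx, ← Category.assoc, ← Category.assoc P, hP1]
  · rw [← Category.assoc, hab, ha]
  · rw [trdegAt_comp_ofHom, hm]
    exact_mod_cast hle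

variable {σ : Spec (CommRingCat.of k) ⟶ X} {hσ : σ ≫ f = 𝟙 (Spec (CommRingCat.of k))} {ξ : Pic (PicF.XT f J)}
  (h : IsJac f σ hσ J ξ)

omit [Smooth f] [GeometricallyConnected f] in
/-- The class of a difference of two points. -/
theorem cls_lift_df {j₁ : XO f ⟶ J} (hj₁ : K532.Dict.IsAbel h j₁) {K : Type u} [Field K]
    (t : Spec (CommRingCat.of K) ⟶ Spec (CommRingCat.of k)) (x y : Pt f (Over.mk t)) :
    Abel.cls h (Over.mk t) (lift (Abel.ptHom x) (Abel.ptHom y) ≫ df j₁) = (gcl f x)⁻¹ * gcl f y := by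
  rw [lift_df, map_mul, map_inv, hj₁, hj₁, acl_field, acl_field, mul_inv_rev, inv_inv, mul_assoc,
    mul_inv_cancel_left]

include h hi in
/-- The fibre over a difference of two distinct points. -/
theorem upper_aux1 {Ω : Type u} [Field Ω] [IsAlgClosed Ω] {t : Spec (CommRingCat.of Ω) ⟶ Spec (CommRingCat.of k)}
    (hcl : ∀ {K : Type u} [Field K] (t : Spec (CommRingCat.of K) ⟶ Spec (CommRingCat.of k)) (x : Fin r → Pt f (Over.mk t)),
      Abel.cls h (Over.mk t) ((ptsHom x ≫ S) ≫ i) =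
        cl f (Multiset.ofList (List.ofFn x)) * gcl f (Pt.ofSection hσ (Over.mk t)) ^ r)
    {j₁ : XO f ⟶ J} (hj₁ : K532.Dict.IsAbel h j₁) (gk : Pic (PicF.XT f (Over.mk (𝟙 (Spec (CommRingCat.of k))))))
    (h2 : 2 ≤ hK f (𝟙 _) 0 gk) (hd : dK f (𝟙 _) gk = 2) (hr1 : 1 ≤ r)
    (hr : (r : ℤ) + chiK f (𝟙 (Spec (CommRingCat.of k))) 1 ≤ 0)
    (g : Over.mk t ⟶ Jac.powOver f r ⊗ Jac.powOver f r) (g₂ : Over.mk t ⟶ XO f ⊗ XO f)
    (hg : (g ≫ lift (fst (Jac.powOver f r) (Jac.powOver f r) ≫ S) (snd _ _ ≫ S)) ≫ df i = g₂ ≫ df j₁)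
    (hw0 : trdegAt (df j₁).left (g₂.left (IsLocalRing.closedPoint Ω : PrimeSpectrum Ω)) = 0)
    (hne : g₂ ≫ df j₁ ≠ 1) :
    trdegAt (df i).left ((g ≫ lift (fst (Jac.powOver f r) (Jac.powOver f r) ≫ S) (snd _ _ ≫ S)).left
      (IsLocalRing.closedPoint Ω : PrimeSpectrum Ω)) ≤ (r - 1 : ℕ) := by
  obtain ⟨P, hP⟩ : ∃ P : Over.mk t ⟶ W ⊗ W, P = g ≫ lift (fst (Jac.powOver f r) (Jac.powOver f r) ≫ S) (snd _ _ ≫ S) :=
    ⟨_, rfl⟩
  have hP1 : P ≫ fst W W = (g ≫ fst _ _) ≫ S := by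
    rw [hP, Category.assoc, lift_fst, Category.assoc]
  have hP2 : P ≫ snd W W = (g ≫ snd _ _) ≫ S := by
    rw [hP, Category.assoc, lift_snd, Category.assoc]
  rw [← hP] at hg ⊢
  -- the coordinates
  let x : Fin r → Pt f (Over.mk t) := fun j => (powPt f r j).comp (g ≫ fst _ _)
  have hx : ptsHom x = g ≫ fst _ _ := ptsHom_powPt_comp _
  let x' : Fin r → Pt f (Over.mk t) := fun j => (powPt f r j).comp (g ≫ snd _ _)
  have hx' : ptsHom x' = g ≫ snd _ _ := ptsHom_powPt_comp _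
  -- the field `K`
  obtain ⟨w, hw⟩ : ∃ w, w = g₂.left (IsLocalRing.closedPoint Ω : PrimeSpectrum Ω) := ⟨_, rfl⟩
  rw [← hw] at hw0
  obtain ⟨aw, haw⟩ := exists_factor g₂ w hw.symm
  obtain ⟨K, hK1, hK2, sK, b, a, hab, hb⟩ := exists_algClosed aw
  let u : Over.mk sK ⟶ XO f ⊗ XO f := b ≫ ofHom _ (fsr (XO f ⊗ XO f).left w)
  have hau : a ≫ u = g₂ := by rw [← Category.assoc, hab, haw]
  have huw : ∀ z, u.left z = w := fun z => (comp_left_apply b _ z).trans (ofHom_fsr_apply w _)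
  let x₀ : Pt f (Over.mk sK) := (Abel.idPt (f := f)).comp (u ≫ fst _ _)
  let y₀ : Pt f (Over.mk sK) := (Abel.idPt (f := f)).comp (u ≫ snd _ _)
  have hu : u = lift (Abel.ptHom x₀) (Abel.ptHom y₀) := eq_lift_ptHom u
  have hg₂ : g₂ = lift (Abel.ptHom (x₀.comp a)) (Abel.ptHom (y₀.comp a)) := by
    rw [← hau, hu, comp_lift, ptHom_comp, ptHom_comp]
  -- the pencil
  let eK : Over.mk sK ⟶ Over.mk (𝟙 (Spec (CommRingCat.of k))) := Over.homMk sK (Category.comp_id _)
  have hgK : ∀ {K : Type u} [Field K] (t : Spec (CommRingCat.of K) ⟶ Spec (CommRingCat.of k)),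
      chiK f t 1 = chiK f (𝟙 (Spec (CommRingCat.of k))) 1 := by
    intro K _ t
    have := chiK_pull f (Over.homMk t (Category.comp_id _) : Over.mk t ⟶ Over.mk (𝟙 (Spec (CommRingCat.of k)))) 1
    rwa [map_one] at this
  obtain ⟨y₁, hy₁⟩ := exists_conj f sK (gd := pull (PicF.XTmap f eK) gk) (by rwa [hK_pull]) (by rwa [dK_pull]) y₀
  have hclP : cl f (Multiset.ofList (List.ofFn x)) * (cl f (Multiset.ofList (List.ofFn x')))⁻¹ =
      (gcl f (x₀.comp a))⁻¹ * gcl f (y₀.comp a) := by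
    rw [← cls_lift_df h hj₁, ← hg₂, ← hg, comp_df, hP1, hP2, ← hx, ← hx', map_mul, map_inv, hcl, hcl, mul_inv_rev,
      mul_assoc, mul_inv_cancel_left]
  have hxy : x₀.comp a ≠ y₀.comp a := by
    intro hxy
    apply hne
    rw [hg₂, lift_df, hxy, mul_inv_cancel]
  have hkey := Hyper.key f t (gd := pull (PicF.XTmap f (a ≫ eK)) gk) (by rwa [hK_pull]) (by rwa [dK_pull])
    (by rw [hgK]; omega) (Multiset.ofList (List.ofFn x)) (by
      rw [hgK, Multiset.coe_card, List.length_ofFn]; exact hr) (y' := y₁.comp a) hxy (by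
      rw [XTmap_comp, pull_comp, hy₁, map_mul, map_inv, map_inv, pull_gcl, pull_gcl]) (by
      have h1 : cl f (Multiset.ofList (List.ofFn x)) * gcl f (x₀.comp a) * (gcl f (y₀.comp a))⁻¹ =
          cl f (Multiset.ofList (List.ofFn x')) := by
        rw [mul_inv_eq_iff_eq_mul] at hclP
        rw [hclP, cancel_aux]
      rw [h1]
      exact hK_cl_pos f t _)
  -- the point of the pencil
  obtain ⟨v, hv⟩ : ∃ v : Pt f (Over.mk sK), 0 < hK f t 0 (cl f (Multiset.ofList (List.ofFn x)) * gcl f (v.comp a)) := by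
    rcases hkey with hkey | hkey
    · exact ⟨x₀, hkey⟩
    · exact ⟨y₁, hkey⟩
  obtain ⟨M, hM⟩ := exists_cl f t hv
  have hcard : Multiset.card M + 1 = r := by
    have h1 := dK_cl f t M
    rw [hM, dK_mul, dK_cl, dK_gcl, Multiset.coe_card, List.length_ofFn] at h1
    omega
  obtain ⟨e, he⟩ := exists_ofFn M
  obtain ⟨L, hL, s, b', α, hab', e', he', m, hm, hle⟩ := DiffTr.exists_pts f _ a e
  obtain ⟨xL, hxL⟩ := exists_ofFn' (v.comp b' ::ₘ Multiset.ofList (List.ofFn e')) (r := r) (by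
    rw [Multiset.card_cons, Multiset.coe_card, List.length_ofFn]
    exact hcard)
  refine (trdegAt_df_le i hi α P ((ptsHom xL ≫ S) ≫ i) (b' ≫ u ≫ df j₁) ?_ ?_ _).trans ?_
  · apply Abel.cls_injective h
    rw [Abel.cls_comp, hcl, ← Category.assoc, hP1, ← hx, hcl, hxL, map_mul, map_pow, pull_gcl, Pt.ofSection_comp,
      pull_cl, Multiset.map_cons, cl_cons]
    congr 1
    have h1 : (Multiset.ofList (List.ofFn e')).map (fun z => z.comp α) = M := by
      rw [Multiset.map_coe, List.map_ofFn]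
      refine Eq.trans ?_ he
      congr 2
      funext j
      exact he' j
    rw [h1, hM, comp_comp, hab']
    rw [mul_comm, mul_inv_cancel_right]
  · rw [← Category.assoc, hab', ← Category.assoc, hau, hg]
  · rw [trdegAt_comp_over, trdegAt_comp_over, huw, hw0, trdegAt_comp_ofHom, hb, hm, zero_add, zero_add]
    have h4 : m ≤ r - 1 := by omega
    exact_mod_cast h4

end upper

end K914.DiffUp
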