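import Groth.Agent.Jac.K914.SymUniv
import Groth.Agent.Picfga.CurveP1

/-!
# Divisors from sections

* `exists_obj`: the zero ideal of a section which is non-zero on all fibres, as a relative divisor.
* `exists_map`: the corresponding morphism to the base of a universal divisor.
-/

set_option autoImplicit false
universe u
open CategoryTheory CategoryTheory.Limits AlgebraicGeometry Opposite TopologicalSpace

namespace K914.DivObj

open Groth.Agent Groth.Agent.Grpsch Groth.Agent.Grpsch.PicGrp Groth.Agent.Fga.RigGrp Groth.Agent.Fga.JacSum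
open Groth.Agent.Fga.JacAlg Groth.Agent.Picfga.ChiDef Groth.Agent.Fga.JacSurj Groth.Agent.Picfga.ZeroDef
open Groth.Agent.Picfga.ZeroDiv Groth.Agent.Picfga.P1Def
open Groth.Agent.Fga.JacFactor Groth.Agent.Dix.IdealModCartier Groth.Agent.Picfga.OverRep
open K914.Curve K914.Cls K914.Points K914.HField K914.Sc K914.EtPic K914.HUniq K914.AbelImm

variable {k : Type u} [Field k] {X : Scheme.{u}} {f : X ⟶ Spec (CommRingCat.of k)}
  [IsProper f] [Smooth f] [GeometricallyConnected f] [SmoothOfRelativeDimension 1 f]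

theorem exists_obj {T : Over (Spec (CommRingCat.of k))} {M : (PicF.XT f T).Modules} (hM : PicF.IsInvertible M)
    (s : Γ(M, ⊤)) (hs : ∀ τ : T.left, pbTop f (ptHom T τ) M s ≠ 0) {n : ℕ} (hd : IsDeg f n (mk M hM)) :
    ∃ D : HilbD.Obj f n T, IsZeroIdeal M s D.1 ∧ (dcl D.1 (isEff T D.2.1))⁻¹ = mk M hM := by
  have hint := isIntegral f
  have hX := isSmoothProperCurve f (curve_dim f)
  have hgi := geometricallyIntegral f
  obtain ⟨P⟩ := Picfga.CurveP1.exists_p1Data hX
  obtain ⟨I, hI⟩ := exists_zeroIdeal hM s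
  have hfin := Sga7.H780.JacSurjG.isFinLocFree_of_isZeroIdeal' hX T M hM s hs I hI
  have hE := isEff T hfin
  have hcl : (dcl I hE)⁻¹ = mk M hM := (Fga.ZeroClass.mk_eq_inv_dcl hM s hI hE).symm
  have hdeg : Mor2.IsFinLocFreeOfDeg n (I.subschemeι ≫ PicF.XTproj f T) := by
    refine ⟨hfin, fun τ => ?_⟩
    let t : Spec (CommRingCat.of (T.left.residueField τ)) ⟶ Spec (CommRingCat.of k) := fsr T.left τ ≫ T.hom
    let g : Over.mk t ⟶ T := ofHom T (fsr T.left τ)
    obtain ⟨m, hm⟩ := Picfga.HilbPull.isPullback_pull_base f g I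
    have hfin' : Mor2.IsFinLocFree ((HilbD.pull f g I).subschemeι ≫ PicF.XTproj f (Over.mk t)) := by
      obtain ⟨a, b, c⟩ := hfin
      exact ⟨MorphismProperty.of_isPullback hm a, MorphismProperty.of_isPullback hm b,
        MorphismProperty.of_isPullback hm c⟩
    have hE' := isEff (Over.mk t) hfin'
    have h1 : (dcl (HilbD.pull f g I) hE')⁻¹ = pull (PicF.XTmap f g) (mk M hM) := by
      rw [← hcl, map_inv, inv_inj]
      obtain ⟨e⟩ := pullback_idealMod (PicF.XTmap f g) hE (Picfga.HilbPull.pull_eq_comap f g I ▸ hE')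
      rw [dcl, dcl, pull_mk, mk_eq_iff]
      exact ⟨eqToIso (by rw [Picfga.HilbPull.pull_eq_comap]) ≪≫ e.symm⟩
    have hfinite : IsFinite ((HilbD.pull f g I).subschemeι ≫ PicF.XTproj f (Over.mk t)) := hfin'.1
    let y : Spec (CommRingCat.of (T.left.residueField τ)) := IsLocalRing.closedPoint _
    have h2 := Picfga.ChiRR.chiK_mul_inv_dcl P t 1 hE' y
    rw [one_mul, h1] at h2
    have h3 := hd τ
    change chiK f t (pull (PicF.XTmap f g) (mk M hM)) = chiK f t (pull (PicF.XTmap f g) 1) + n at h3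
    rw [map_one, h2] at h3
    have hfl : Flat (I.subschemeι ≫ PicF.XTproj f T) := hfin.2.1
    have hfi : IsFinite (I.subschemeι ≫ PicF.XTproj f T) := hfin.1
    have h4 := Scheme.Hom.finrank_of_isPullback m ((HilbD.pull f g I).subschemeι ≫ PicF.XTproj f (Over.mk t))
      (I.subschemeι ≫ PicF.XTproj f T) g.left hm
    have h5 := h4 y
    have h6 : g.left y = τ := fsr_apply T.left τ y
    rw [h6] at h5
    rw [← h5]
    have h7 := add_left_cancel h3
    exact_mod_cast h7
  exact ⟨⟨I, hdeg⟩, hI, hcl⟩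

/-- The morphism to the base of a universal divisor given by a section. -/
theorem exists_map {n : ℕ} {H : Over (Spec (CommRingCat.of k))} {Z : HilbD.Obj f n H} (hZ : HilbD.IsUniversal f n H Z)
    {T : Over (Spec (CommRingCat.of k))} {M : (PicF.XT f T).Modules} (hM : PicF.IsInvertible M)
    (s : Γ(M, ⊤)) (hs : ∀ τ : T.left, pbTop f (ptHom T τ) M s ≠ 0) (hd : IsDeg f n (mk M hM)) :
    ∃ a : T ⟶ H, IsZeroIdeal M s (HilbD.pull f a Z.1) ∧ pull (PicF.XTmap f a) (ucl Z) = mk M hM := by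
  obtain ⟨D, hD, hcl⟩ := exists_obj hM s hs hd
  obtain ⟨a, ha, -⟩ := hZ T D
  refine ⟨a, ha ▸ hD, ?_⟩
  rw [← pull_ucl Z a D.1 (isEff T D.2.1) ha, hcl]

end K914.DivObj
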