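import Groth.Agent.Jac.K914.Chain
import Groth.Agent.Jac.K914.Semi
import Groth.Agent.Picfga.PtTwist
import Groth.Agent.Fga.ZeroClass

/-!
# Effective divisors on `X_K` as multisets of points

* `exists_mem_genLocus_of_lt`: if `h⁰(c - x) < h⁰(c)` then some section of `c` generates at `x`.
* `submod`: `h⁰(c + x) + h⁰(c + y) ≤ h⁰(c + x + y) + h⁰(c)` for `x ≠ y`.
* `cl M`: the class of a multiset of points; `submod_cl`.
-/

set_option autoImplicit false
universe u
open CategoryTheory CategoryTheory.Limits AlgebraicGeometry Opposite TopologicalSpace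

namespace K914.Dv

open Groth.Agent Groth.Agent.Grpsch Groth.Agent.Grpsch.PicGrp Groth.Agent.Fga.RigGrp Groth.Agent.Fga.JacSum
open Groth.Agent.Fga.JacAlg Groth.Agent.Picfga.ChiDef Groth.Agent.Fga.JacSurj Groth.Agent.Picfga.SecGraph
open Groth.Agent.Fdesc.LocGen Groth.Agent.Picfga.ZeroDef
open K914.Curve K914.Cls K914.Points K914.HField K914.PtDrop

section general

variable {Y : Scheme.{u}}

theorem sub_nonunit {K : Type u} [Field K] (x : Spec (CommRingCat.of K) ⟶ Y) (z : Spec (CommRingCat.of K))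
    {V : Y.Opens} (c : Γ(Y, V)) (h : x z ∉ Y.basicOpen c) : x.app V c = 0 := by
  rw [← basicOpen_eq_bot_iff, ← Scheme.preimage_basicOpen]
  ext z'
  have hz : z' = z := Subsingleton.elim (α := PrimeSpectrum K) _ _
  subst hz
  constructor
  · intro h'
    exact absurd h' h
  · intro h'
    exact absurd h' (by simp)

/-- Two sections of a scheme over a field with the same underlying point are equal. -/
theorem section_ext {k : Type u} [Field k] (p : Y ⟶ Spec (CommRingCat.of k)) (s t : Spec (CommRingCat.of k) ⟶ Y)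
    (hs : s ≫ p = 𝟙 _) (ht : t ≫ p = 𝟙 _)
    (h : s (IsLocalRing.closedPoint k) = t (IsLocalRing.closedPoint k)) : s = t := by
  have key : ∀ (s : Spec (CommRingCat.of k) ⟶ Y) (x : Y), s (IsLocalRing.closedPoint k) = x →
      ∃ ψ : Y.residueField x ⟶ CommRingCat.of k, Spec.map ψ ≫ Y.fromSpecResidueField x = s := by
    rintro s _ rfl
    exact ⟨_, Scheme.descResidueField_stalkClosedPointTo_fromSpecResidueField k Y s⟩
  obtain ⟨a, ha⟩ := key s _ h
  obtain ⟨b, hb⟩ := key t _ rfl
  have h1 : Spec.map a ≫ (Y.fromSpecResidueField (t (IsLocalRing.closedPoint k)) ≫ p) = 𝟙 _ := by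
    rw [← Category.assoc, ha, hs]
  have h2 : Spec.map b ≫ (Y.fromSpecResidueField (t (IsLocalRing.closedPoint k)) ≫ p) = 𝟙 _ := by
    rw [← Category.assoc, hb, ht]
  obtain ⟨c, hc⟩ := Spec.map_surjective (Y.fromSpecResidueField (t (IsLocalRing.closedPoint k)) ≫ p)
  rw [← hc, ← Spec.map_comp, ← Spec.map_id, Spec.map_inj] at h1 h2
  have hiso : IsIso a := by
    rw [ConcreteCategory.isIso_iff_bijective]
    refine ⟨a.hom.injective, fun y => ⟨c.hom y, ?_⟩⟩
    exact congr($(h1).hom y)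
  have h3 : inv a = c := IsIso.inv_eq_of_inv_hom_id h1
  have h4 : c ≫ b = c ≫ a := h2.trans h1.symm
  have : IsIso c := h3 ▸ inferInstance
  have h5 : b = a := (cancel_epi c).1 h4
  exact ha.symm.trans ((congrArg (fun z => Spec.map z ≫ Y.fromSpecResidueField _) h5.symm).trans hb)

end general

/-! ### Classes of multisets of points -/

section cl

variable {X S : Scheme.{u}} (f : X ⟶ S) [SmoothOfRelativeDimension 1 f] [IsSeparated f] {T : Over S}

/-- The class of a multiset of points. -/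
noncomputable def cl (M : Multiset (Pt f T)) : Pic (PicF.XT f T) := (M.map fun x => (gcl f x)⁻¹).prod

@[simp] theorem cl_zero : cl f (0 : Multiset (Pt f T)) = 1 := rfl

@[simp] theorem cl_cons (x : Pt f T) (M : Multiset (Pt f T)) : cl f (x ::ₘ M) = (gcl f x)⁻¹ * cl f M := by
  rw [cl, Multiset.map_cons, Multiset.prod_cons]
  rfl

@[simp] theorem cl_add (M N : Multiset (Pt f T)) : cl f (M + N) = cl f M * cl f N := by
  rw [cl, Multiset.map_add, Multiset.prod_add]
  rfl

@[simp] theorem cl_singleton (x : Pt f T) : cl f ({x} : Multiset (Pt f T)) = (gcl f x)⁻¹ := by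
  rw [cl, Multiset.map_singleton, Multiset.prod_singleton]

theorem cl_ofFn {n : ℕ} (x : Fin n → Pt f T) : cl f (Multiset.ofList (List.ofFn x)) = ∏ i, (gcl f (x i))⁻¹ := by
  rw [cl, Multiset.map_coe, Multiset.prod_coe, List.map_ofFn, List.prod_ofFn]
  rfl

theorem pull_cl {T' : Over S} (g : T' ⟶ T) (M : Multiset (Pt f T)) :
    pull (PicF.XTmap f g) (cl f M) = cl f (M.map fun x => x.comp g) := by
  induction M using Multiset.induction with
  | empty => simp
  | cons x M ih => rw [cl_cons, map_mul, map_inv, pull_gcl, ih, Multiset.map_cons, cl_cons]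

end cl

section curve

variable {k : Type u} [Field k] {X : Scheme.{u}} (f : X ⟶ Spec (CommRingCat.of k))
  [IsProper f] [Smooth f] [GeometricallyConnected f] [SmoothOfRelativeDimension 1 f]
  {K : Type u} [Field K] (t : Spec (CommRingCat.of K) ⟶ Spec (CommRingCat.of k))

/-- If twisting down by `x` drops `h⁰`, then some section generates at `x`. -/
theorem exists_mem_genLocus_of_lt {N : (PicF.XT f (Over.mk t)).Modules} (hN : PicF.IsInvertible N)
    (x : Pt f (Over.mk t)) (z : Spec (CommRingCat.of K)) (h : hK f t 0 (mk N hN * gcl f x) < hK f t 0 (mk N hN)) :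
    ∃ s : Coh.structureModule (PicF.XT f (Over.mk t)) ⟶ N, sec f (Over.mk t) x.1 x.2 z ∈ CohB1.genLocus N s := by
  have := isIntegral_XT f t
  let _ := overK f t
  have := finite_HH f t hN 0
  by_contra hcon
  push Not at hcon
  obtain ⟨M, hM, σ, hσ⟩ := Picfga.ZeroDiv.exists_section_of_isEffCartier (isEff_secGraph f x)
  obtain ⟨P, hP, h'⟩ := exists_mk (mk N hN * gcl f x)
  have hMc : mk M hM = (gcl f x)⁻¹ := Fga.ZeroClass.mk_eq_inv_dcl hM σ hσ (isEff_secGraph f x)
  have h1 : mk (CohB1.tensorMod P M) (isInvertible_tensorMod hP hM) = mk N hN := by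
    rw [← mk_mul_mk hP hM, ← h', hMc, mul_inv_cancel_right]
  obtain ⟨e⟩ := (mk_eq_iff _ _).1 h1
  have key : ∀ l : Γ(CohB1.tensorMod P M, ⊤), ∃ n : Γ(P, ⊤), tmul n (res M le_top σ) = l := by
    intro l
    refine Picfga.PtTwist.exists_tmul_eq hP hM hσ (isEff_secGraph f x) l fun V hV m hm c hc => ?_
    rw [Picfga.SecGraph.secGraph_eq_ker, Scheme.Hom.ker_apply]
    refine sub_nonunit _ z c fun hz => hcon (homOf l ≫ e.hom) ?_
    rw [Ega2.SecCalc.genLocus_comp]
    have h3 := genLocus_inf_eq (homOf l) hm (a := c) (by rw [sec_homOf]; exact hc)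
    rw [← h3] at hz
    exact hz.1
  let v₀ : Coh.HH (PicF.XT f (Over.mk t)) M 0 := (VarietyA.CurveLin.secOf M).symm σ
  have hsurj : Function.Surjective (K532.SecMul.mulPair K P M 0 v₀) := by
    intro w
    obtain ⟨n, hn⟩ := key (VarietyA.CurveLin.secOf _ w)
    refine ⟨(VarietyA.CurveLin.secOf P).symm n, ?_⟩
    apply (VarietyA.CurveLin.secOf _).injective
    rw [K532.SecMul.mulPair_apply, K532.SecMul.secOf_hmap, Picfga.ZeroHom.mulSec_app, ← hn]
    congr 1
    · exact (VarietyA.CurveLin.secOf P).apply_symm_apply _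
    · congr 1
      exact (VarietyA.CurveLin.secOf M).apply_symm_apply _
  have hfP : Module.Finite K (Coh.HH (PicF.XT f (Over.mk t)) P 0) := finite_HH f t hP 0
  have h4 : Module.finrank K (Coh.HH (PicF.XT f (Over.mk t)) (CohB1.tensorMod P M) 0) ≤
      Module.finrank K (Coh.HH (PicF.XT f (Over.mk t)) P 0) :=
    LinearMap.finrank_le_finrank_of_surjective hsurj
  have h5 : hK f t 0 (mk P hP) < hK f t 0 (mk (CohB1.tensorMod P M) (isInvertible_tensorMod hP hM)) := by
    rw [h1, ← h']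
    exact h
  exact absurd h4 (not_le.2 h5)

theorem sec_ne {x y : Pt f (Over.mk t)} (hxy : x ≠ y) (z : Spec (CommRingCat.of K)) :
    sec f (Over.mk t) x.1 x.2 z ∉ (HilbD.secGraph f (Over.mk t) y.1 y.2).support := by
  have hsep : IsSeparated (PicF.XTproj f (Over.mk t)) := inferInstanceAs (IsSeparated (pullback.snd f t))
  have hc : IsClosedImmersion (sec f (Over.mk t) y.1 y.2) := by
    have : IsClosedImmersion (sec f (Over.mk t) y.1 y.2 ≫ PicF.XTproj f (Over.mk t)) := by
      rw [sec_proj]; infer_instance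
    exact IsClosedImmersion.of_comp _ (PicF.XTproj f (Over.mk t))
  rw [Picfga.SecGraph.secGraph_eq_ker]
  intro h
  have h1 : sec f (Over.mk t) x.1 x.2 z ∈ Set.range (sec f (Over.mk t) y.1 y.2) := by
    have h2 := Scheme.Hom.support_ker (sec f (Over.mk t) y.1 y.2)
    rw [(Scheme.Hom.isClosedEmbedding (sec f (Over.mk t) y.1 y.2)).isClosed_range.closure_eq] at h2
    rw [← h2]
    exact h
  obtain ⟨z', hz'⟩ := h1
  apply hxy
  have h3 : sec f (Over.mk t) x.1 x.2 = sec f (Over.mk t) y.1 y.2 := by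
    refine section_ext (PicF.XTproj f (Over.mk t)) _ _ (sec_proj _ _ _) (sec_proj _ _ _) ?_
    have hz1 : (IsLocalRing.closedPoint K : Spec (CommRingCat.of K)) = z := Subsingleton.elim (α := PrimeSpectrum K) _ _
    have hz2 : (IsLocalRing.closedPoint K : Spec (CommRingCat.of K)) = z' := Subsingleton.elim (α := PrimeSpectrum K) _ _
    refine Eq.trans ?_ (Eq.trans hz'.symm ?_)
    · rw [hz1]
    · rw [← hz2]
  apply Subtype.ext
  rw [← sec_fst f x.1 x.2, ← sec_fst f y.1 y.2, h3]

/-- Submodularity of `h⁰` for two distinct points. -/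
theorem submod (c : Pic (PicF.XT f (Over.mk t))) {x y : Pt f (Over.mk t)} (hxy : x ≠ y) :
    hK f t 0 (c * (gcl f x)⁻¹) + hK f t 0 (c * (gcl f y)⁻¹) ≤
      hK f t 0 (c * (gcl f x)⁻¹ * (gcl f y)⁻¹) + hK f t 0 c := by
  by_cases h : hK f t 0 (c * (gcl f x)⁻¹) ≤ hK f t 0 c
  · have h1 := hK_le_mul f t (c * (gcl f y)⁻¹) (gcl f x)⁻¹ (hK_gcl_inv_pos f t x)
    rw [mul_right_comm] at h1
    omega
  · obtain ⟨N, hN, hNc⟩ := exists_mk (c * (gcl f x)⁻¹)
    obtain ⟨M, hM, hMc⟩ := exists_mk (gcl f y)⁻¹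
    have h2 : hK f t 0 (mk N hN * gcl f x) < hK f t 0 (mk N hN) := by
      rw [← hNc, inv_mul_cancel_right]
      omega
    let z : Spec (CommRingCat.of K) := IsLocalRing.closedPoint K
    obtain ⟨s, hs⟩ := exists_mem_genLocus_of_lt f t hN x z h2
    obtain ⟨σ, hσ⟩ := exists_section_dcl (isEff_secGraph f y) hM (by rw [← hMc, gcl_eq_dcl])
    have h3 : sec f (Over.mk t) x.1 x.2 z ∈ CohB1.genLocus _ (tmulHom s σ) := by
      rw [genLocus_tmulHom hN hM]
      exact ⟨hs, (hσ _).2 (sec_ne f t hxy z)⟩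
    have h4 := hK_drop f t (isInvertible_tensorMod hN hM) (tmulHom s σ) x z h3
    rw [← mk_mul_mk hN hM, ← hNc, ← hMc] at h4
    have h5 := hK_le_mul_gcl_add_one f t (c * (gcl f x)⁻¹) x
    rw [inv_mul_cancel_right] at h5
    have h6 : c * (gcl f x)⁻¹ * (gcl f y)⁻¹ * gcl f x = c * (gcl f y)⁻¹ := by
      rw [mul_right_comm, inv_mul_cancel_right]
    rw [h6] at h4
    omega

theorem submod_one (c : Pic (PicF.XT f (Over.mk t))) {x : Pt f (Over.mk t)} (B : Multiset (Pt f (Over.mk t)))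
    (hB : x ∉ B) :
    hK f t 0 (c * (gcl f x)⁻¹) + hK f t 0 (c * cl f B) ≤ hK f t 0 (c * (gcl f x)⁻¹ * cl f B) + hK f t 0 c := by
  induction B using Multiset.induction with
  | empty => simp
  | cons y B ih =>
    rw [Multiset.mem_cons, not_or] at hB
    have h1 := ih hB.2
    have h2 := submod f t (c * cl f B) hB.1
    rw [cl_cons]
    have e1 : c * ((gcl f y)⁻¹ * cl f B) = c * cl f B * (gcl f y)⁻¹ := by
      rw [mul_comm (gcl f y)⁻¹, mul_assoc]
    have e2 : c * (gcl f x)⁻¹ * ((gcl f y)⁻¹ * cl f B) = c * cl f B * (gcl f x)⁻¹ * (gcl f y)⁻¹ := by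
      rw [mul_comm (gcl f y)⁻¹, mul_assoc, mul_assoc, mul_assoc, mul_left_comm (gcl f x)⁻¹]
    have e3 : c * (gcl f x)⁻¹ * cl f B = c * cl f B * (gcl f x)⁻¹ := mul_right_comm _ _ _
    rw [e3] at h1
    rw [e1, e2]
    omega

/-- Submodularity of `h⁰` for disjoint effective divisors. -/
theorem submod_cl (c : Pic (PicF.XT f (Over.mk t))) (A B : Multiset (Pt f (Over.mk t)))
    (hAB : ∀ x ∈ A, x ∉ B) :
    hK f t 0 (c * cl f A) + hK f t 0 (c * cl f B) ≤ hK f t 0 (c * cl f A * cl f B) + hK f t 0 c := by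
  induction A using Multiset.induction with
  | empty =>
    rw [cl_zero, mul_one]
    omega
  | cons x A ih =>
    have h1 := ih fun y hy => hAB y (Multiset.mem_cons_of_mem hy)
    have h2 := submod_one f t (c * cl f A) B (hAB x (Multiset.mem_cons_self x A))
    rw [cl_cons]
    have e1 : c * ((gcl f x)⁻¹ * cl f A) = c * cl f A * (gcl f x)⁻¹ := by
      rw [mul_comm (gcl f x)⁻¹, mul_assoc]
    rw [e1]
    omega

end curve

end K914.Dv
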