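import Groth.Agent.JacVar.K532.CurvePic
import Groth.Agent.JacVar.K532.UnitBase
import Groth.Agent.Jac.K914.Points
import Groth.Agent.S0034

/-!
# Cohomology of classes on `X_K` for a curve `X` over `k` and a field `K` over `k`

* `hK f t i c`: the dimension of `H^i` of the class `c` on `X_K`; `dK f t c`: its degree.
* `hK_pull`: invariance under extension of the field.
* `rr`, `serre`, `hK_zero_mul_gcl_le`, ...
-/

set_option autoImplicit false
universe u
open CategoryTheory CategoryTheory.Limits AlgebraicGeometry Opposite TopologicalSpace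

namespace K914.HField

open Groth.Agent Groth.Agent.Grpsch Groth.Agent.Grpsch.PicGrp Groth.Agent.Fga.RigGrp Groth.Agent.Fga.JacSum
open Groth.Agent.Fga.JacAlg Groth.Agent.Picfga.ChiDef Groth.Agent.Fga.JacSurj Groth.Agent.Fdesc.LocGen
open K914.Curve K914.Cls K914.Points

section defs

variable {k : Type u} [Field k] {X : Scheme.{u}} (f : X ⟶ Spec (CommRingCat.of k))
  {K : Type u} [Field K] (t : Spec (CommRingCat.of K) ⟶ Spec (CommRingCat.of k))

/-- The dimension of `H^i` of a class on `X_K`. -/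
noncomputable def hK (i : ℕ) (c : Pic (PicF.XT f (Over.mk t))) : ℕ :=
  letI := overK f t
  K532.CurvePic.h K (PicF.XT f (Over.mk t)) i c

/-- The degree of a class on `X_K`. -/
noncomputable def dK (c : Pic (PicF.XT f (Over.mk t))) : ℤ := chiK f t c - chiK f t 1

theorem deg_eq_dK (c : Pic (PicF.XT f (Over.mk t))) :
    (letI := overK f t
     K532.CurvePic.deg K (PicF.XT f (Over.mk t)) c) = dK f t c := by
  obtain ⟨L, hL, rfl⟩ := exists_mk c
  rfl

theorem hK_sub (c : Pic (PicF.XT f (Over.mk t))) : (hK f t 0 c : ℤ) - hK f t 1 c = chiK f t c := by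
  obtain ⟨L, hL, rfl⟩ := exists_mk c
  rw [chiK_mk, chiM, FGA.eulerCharLE, Finset.sum_range_succ, Finset.sum_range_one]
  simp only [pow_zero, one_mul, pow_one, neg_mul]
  rfl

end defs

section curve

variable {k : Type u} [Field k] {X : Scheme.{u}} (f : X ⟶ Spec (CommRingCat.of k))
  [IsProper f] [Smooth f] [GeometricallyConnected f] [SmoothOfRelativeDimension 1 f]
  {K : Type u} [Field K] (t : Spec (CommRingCat.of K) ⟶ Spec (CommRingCat.of k))

theorem isCurve :
    letI := overK f t
    K532.CurvePic.IsCurve K (PicF.XT f (Over.mk t)) := by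
  let _ := overK f t
  have h1 : IsProper (PicF.XT f (Over.mk t) ↘ Spec (CommRingCat.of K)) := inferInstanceAs (IsProper (pullback.snd f t))
  have h2 : Smooth (PicF.XT f (Over.mk t) ↘ Spec (CommRingCat.of K)) := inferInstanceAs (Smooth (pullback.snd f t))
  have h3 : GeometricallyConnected (PicF.XT f (Over.mk t) ↘ Spec (CommRingCat.of K)) :=
    inferInstanceAs (GeometricallyConnected (pullback.snd f t))
  have h4 : SmoothOfRelativeDimension 1 (PicF.XT f (Over.mk t) ↘ Spec (CommRingCat.of K)) :=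
    smoothOfRelDim_XTproj f (Over.mk t)
  have h5 : IsIntegral (PicF.XT f (Over.mk t)) := isIntegral (PicF.XT f (Over.mk t) ↘ Spec (CommRingCat.of K))
  have h6 : GeometricallyReduced (PicF.XT f (Over.mk t) ↘ Spec (CommRingCat.of K)) :=
    Flat2B.SmoothGeom.geometricallyReduced_of_smooth _
  exact ⟨isSmoothProperCurve _ (curve_dim (PicF.XT f (Over.mk t) ↘ Spec (CommRingCat.of K))), S1536.result K _⟩

/-- The canonical class on `X_K`. -/
noncomputable def omK : Pic (PicF.XT f (Over.mk t)) :=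
  letI := overK f t
  K532.CurvePic.om (isCurve f t)

theorem hK_le_mul (c d : Pic (PicF.XT f (Over.mk t))) (hd : 0 < hK f t 0 d) : hK f t 0 c ≤ hK f t 0 (c * d) :=
  letI := overK f t
  K532.CurvePic.h0_le_mul (isCurve f t) c d hd

theorem hK1_mul_le (c d : Pic (PicF.XT f (Over.mk t))) (hd : 0 < hK f t 0 d) : hK f t 1 (c * d) ≤ hK f t 1 c :=
  letI := overK f t
  K532.CurvePic.h1_mul_le (isCurve f t) c d hd

theorem serre (c : Pic (PicF.XT f (Over.mk t))) : hK f t 1 c = hK f t 0 (omK f t * c⁻¹) :=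
  letI := overK f t
  K532.CurvePic.serre (isCurve f t) c

theorem hK_zero_one : hK f t 0 1 = 1 :=
  letI := overK f t
  K532.CurvePic.h0_one (isCurve f t)

theorem hK_mul_pos {c d : Pic (PicF.XT f (Over.mk t))} (hc : 0 < hK f t 0 c) (hd : 0 < hK f t 0 d) :
    0 < hK f t 0 (c * d) :=
  hc.trans_le (hK_le_mul f t c d hd)

theorem hK_prod_pos {ι : Type*} (s : Finset ι) (c : ι → Pic (PicF.XT f (Over.mk t))) (hc : ∀ i ∈ s, 0 < hK f t 0 (c i)) :
    0 < hK f t 0 (∏ i ∈ s, c i) :=
  letI := overK f t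
  K532.CurvePic.h0_prod_pos (isCurve f t) s c hc

theorem dK_mul (a b : Pic (PicF.XT f (Over.mk t))) : dK f t (a * b) = dK f t a + dK f t b := by
  rw [← deg_eq_dK, ← deg_eq_dK, ← deg_eq_dK]
  exact letI := overK f t; K532.CurvePic.deg_mul (isCurve f t) a b

theorem dK_inv (a : Pic (PicF.XT f (Over.mk t))) : dK f t a⁻¹ = - dK f t a := by
  rw [← deg_eq_dK, ← deg_eq_dK]
  exact letI := overK f t; K532.CurvePic.deg_inv (isCurve f t) a

omit [IsProper f] [Smooth f] [GeometricallyConnected f] [SmoothOfRelativeDimension 1 f] in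
theorem dK_one : dK f t 1 = 0 := sub_self _

theorem dK_nonneg {c : Pic (PicF.XT f (Over.mk t))} (hc : 0 < hK f t 0 c) : 0 ≤ dK f t c := by
  rw [← deg_eq_dK]
  exact letI := overK f t; K532.CurvePic.deg_nonneg (isCurve f t) hc

theorem eq_one_of_dK_nonpos {c : Pic (PicF.XT f (Over.mk t))} (hc : 0 < hK f t 0 c) (hd : dK f t c ≤ 0) : c = 1 := by
  rw [← deg_eq_dK] at hd
  exact letI := overK f t; K532.CurvePic.eq_one_of_deg_nonpos (isCurve f t) hc hd

omit [IsProper f] [Smooth f] [GeometricallyConnected f] [SmoothOfRelativeDimension 1 f] in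
/-- Riemann-Roch. -/
theorem rr (c : Pic (PicF.XT f (Over.mk t))) :
    (hK f t 0 c : ℤ) - hK f t 1 c = dK f t c + chiK f t 1 := by
  rw [hK_sub, dK]
  ring

theorem dK_gcl (x : Pt f (Over.mk t)) : dK f t (gcl f x) = -1 := by
  have hX : Curve.IsSmoothProperCurve k X f :=
    have := isIntegral f
    isSmoothProperCurve f (curve_dim f)
  have h5 := Fga.JacRR.rrStep f hX K t x (gcl f x)
  rw [mul_inv_cancel] at h5
  rw [dK]
  omega

omit [Smooth f] [GeometricallyConnected f] [SmoothOfRelativeDimension 1 f] in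
theorem hK_pull {K' : Type u} [Field K'] {t' : Spec (CommRingCat.of K') ⟶ Spec (CommRingCat.of k)}
    {t : Spec (CommRingCat.of K) ⟶ Spec (CommRingCat.of k)}
    (g : Over.mk t' ⟶ Over.mk t) (i : ℕ) (c : Pic (PicF.XT f (Over.mk t))) :
    hK f t' i (pull (PicF.XTmap f g) c) = hK f t i c := by
  obtain ⟨L, hL, rfl⟩ := exists_mk c
  let _ := overK f t
  let _ := overK f t'
  obtain ⟨φ, hφ⟩ := Spec.map_surjective g.left
  let _ : Algebra K K' := φ.hom.toAlgebra
  have h0 : g.left = Spec.map (CommRingCat.ofHom (algebraMap K K')) := hφ.symm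
  have hp := Picfga.HilbPull.isPullback_XTmap f g
  rw [h0] at hp
  have h1 : IsProper (PicF.XT f (Over.mk t) ↘ Spec (CommRingCat.of K)) := inferInstanceAs (IsProper (pullback.snd f t))
  have h2 : CompactSpace (PicF.XT f (Over.mk t)) :=
    (quasiCompact_iff_compactSpace (PicF.XT f (Over.mk t) ↘ Spec (CommRingCat.of K))).1 inferInstance
  have h3 : QuasiSeparatedSpace (PicF.XT f (Over.mk t)) :=
    (quasiSeparated_iff_quasiSeparatedSpace (PicF.XT f (Over.mk t) ↘ Spec (CommRingCat.of K))).1 inferInstance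
  have h4 : Coh.IsQCoh L := Ega2.QCohLocal.isQCoh_of_isInvertible hL
  obtain ⟨e⟩ := S0034.result K K' (PicF.XT f (Over.mk t)) (PicF.XT f (Over.mk t')) (PicF.XTmap f g) hp L i
  have h5 := e.finrank_eq
  rw [Module.finrank_baseChange] at h5
  exact h5.symm

omit [Smooth f] [GeometricallyConnected f] [SmoothOfRelativeDimension 1 f] in
theorem chiK_pull {K' : Type u} [Field K'] {t' : Spec (CommRingCat.of K') ⟶ Spec (CommRingCat.of k)}
    {t : Spec (CommRingCat.of K) ⟶ Spec (CommRingCat.of k)}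
    (g : Over.mk t' ⟶ Over.mk t) (c : Pic (PicF.XT f (Over.mk t))) :
    chiK f t' (pull (PicF.XTmap f g) c) = chiK f t c := by
  rw [← hK_sub, ← hK_sub, hK_pull, hK_pull]

omit [Smooth f] [GeometricallyConnected f] [SmoothOfRelativeDimension 1 f] in
theorem dK_pull {K' : Type u} [Field K'] {t' : Spec (CommRingCat.of K') ⟶ Spec (CommRingCat.of k)}
    {t : Spec (CommRingCat.of K) ⟶ Spec (CommRingCat.of k)}
    (g : Over.mk t' ⟶ Over.mk t) (c : Pic (PicF.XT f (Over.mk t))) :
    dK f t' (pull (PicF.XTmap f g) c) = dK f t c := by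
  have h := chiK_pull f g 1
  rw [map_one] at h
  rw [dK, dK, chiK_pull, h]

end curve

end K914.HField
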