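import Groth.Agent.Jac.K914.Sc
import Groth.Agent.Picfga.RepA
import Groth.Agent.Fga.ZeroClass

/-!
# Divisors in a fixed class with `h⁰ = 1` are unique over every base

* `h0gen_pull`: `H⁰` of the pull back to `X_R` of a class with `h⁰ = 1` over a field is free of rank one.
* `ideal_unique`.
-/

set_option autoImplicit false
universe u
open CategoryTheory CategoryTheory.Limits AlgebraicGeometry Opposite TopologicalSpace

namespace K914.HUniq

open Groth.Agent Groth.Agent.Grpsch Groth.Agent.Grpsch.PicGrp Groth.Agent.Fga.RigGrp Groth.Agent.Fga.JacSum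
open Groth.Agent.Fga.JacAlg Groth.Agent.Picfga.ChiDef Groth.Agent.Fga.JacSurj
open Groth.Agent.Fdesc.LocGen Groth.Agent.Picfga.P1Def Groth.Agent.Picfga.ZeroDef Groth.Agent.Picfga.ZeroDiv
open Groth.Agent.Fga.JacFactor Groth.Agent.Dix.IdealModCartier
open K914.Curve K914.Cls K914.Points K914.HField K914.Sc

variable {k : Type u} [Field k] {X : Scheme.{u}} {f : X ⟶ Spec (CommRingCat.of k)} [IsProper f]
  {Ω : Type u} [Field Ω] {t : Spec (CommRingCat.of Ω) ⟶ Spec (CommRingCat.of k)} {R : Type u} [CommRing R]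
  {r : Spec (CommRingCat.of R) ⟶ Spec (CommRingCat.of k)}

theorem h0gen_pull (p : Over.mk r ⟶ Over.mk t) {L : (PicF.XT f (Over.mk t)).Modules} (hL : PicF.IsInvertible L)
    (h1 : hK f t 0 (mk L hL) = 1) :
    ∃ s : Γ((Scheme.Modules.pullback (PicF.XTmap f p)).obj L, ⊤), H0gen f (Over.mk r) _ s := by
  let _ := overK f t
  let _ : (PicF.XT f (Over.mk r)).Over (Spec (CommRingCat.of R)) := ⟨PicF.XTproj f (Over.mk r)⟩
  obtain ⟨φ, hφ⟩ := Spec.map_surjective p.left
  let _ : Algebra Ω R := φ.hom.toAlgebra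
  have h0 : p.left = Spec.map (CommRingCat.ofHom (algebraMap Ω R)) := hφ.symm
  have hp := Picfga.HilbPull.isPullback_XTmap f p
  rw [h0] at hp
  have h1' : IsProper (PicF.XT f (Over.mk t) ↘ Spec (CommRingCat.of Ω)) := inferInstanceAs (IsProper (pullback.snd f t))
  have h2 : CompactSpace (PicF.XT f (Over.mk t)) :=
    (quasiCompact_iff_compactSpace (PicF.XT f (Over.mk t) ↘ Spec (CommRingCat.of Ω))).1 inferInstance
  have h3 : QuasiSeparatedSpace (PicF.XT f (Over.mk t)) :=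
    (quasiSeparated_iff_quasiSeparatedSpace (PicF.XT f (Over.mk t) ↘ Spec (CommRingCat.of Ω))).1 inferInstance
  have h4 : Coh.IsQCoh L := Ega2.QCohLocal.isQCoh_of_isInvertible hL
  obtain ⟨e⟩ := S0034.result Ω R (PicF.XT f (Over.mk t)) (PicF.XT f (Over.mk r)) (PicF.XTmap f p) hp L 0
  have h5 : Module.finrank Ω (Coh.HH (PicF.XT f (Over.mk t)) L 0) = 1 := h1
  have h6 : Module.Finite Ω (Coh.HH (PicF.XT f (Over.mk t)) L 0) := Module.finite_of_finrank_pos (by omega)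
  let b : Coh.HH (PicF.XT f (Over.mk t)) L 0 ≃ₗ[Ω] Ω :=
    LinearEquiv.ofFinrankEq _ _ (by rw [h5, Module.finrank_self])
  let E : R ≃ₗ[R] Coh.HH (PicF.XT f (Over.mk r)) ((Scheme.Modules.pullback (PicF.XTmap f p)).obj L) 0 :=
    ((TensorProduct.AlgebraTensorModule.rid Ω R R).symm ≪≫ₗ
      (TensorProduct.AlgebraTensorModule.congr (LinearEquiv.refl R R) b.symm)) ≪≫ₗ e
  let S := VarietyA.CurveLin.secOf ((Scheme.Modules.pullback (PicF.XTmap f p)).obj L)
  have hS : ∀ (c : Γ((Over.mk r).left, ⊤)) (x : R), fn f (Over.mk r) c • S (E x) =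
      S (E ((Scheme.ΓSpecIso (CommRingCat.of R)).hom.hom c * x)) := by
    intro c x
    have e1 : E ((Scheme.ΓSpecIso (CommRingCat.of R)).hom.hom c * x) =
        (Scheme.ΓSpecIso (CommRingCat.of R)).hom.hom c • E x := by rw [← smul_eq_mul, map_smul]
    rw [e1]
    have e2 : ((Scheme.ΓSpecIso (CommRingCat.of R)).hom.hom c) • E x =
        (Coh.toGlobal (PicF.XTproj f (Over.mk r)) ((Scheme.ΓSpecIso (CommRingCat.of R)).hom.hom c)) • E x := rfl
    rw [e2, VarietyA.CurveLin.secOf_smul]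
    congr 1
    change _ = (PicF.XTproj f (Over.mk r)).appTop.hom ((Scheme.ΓSpecIso (CommRingCat.of R)).inv.hom
      ((Scheme.ΓSpecIso (CommRingCat.of R)).hom.hom c))
    have e3 : (Scheme.ΓSpecIso (CommRingCat.of R)).inv.hom ((Scheme.ΓSpecIso (CommRingCat.of R)).hom.hom c) = c := by
      exact congr($((Scheme.ΓSpecIso (CommRingCat.of R)).hom_inv_id).hom c)
    rw [e3]
    rfl
  refine ⟨S (E 1), fun m => ?_⟩
  refine ⟨(Scheme.ΓSpecIso (CommRingCat.of R)).inv.hom (E.symm (S.symm m)), ?_, fun c hc => ?_⟩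
  · change m = fn f (Over.mk r) _ • _
    rw [hS, mul_one]
    have e3 : (Scheme.ΓSpecIso (CommRingCat.of R)).hom.hom ((Scheme.ΓSpecIso (CommRingCat.of R)).inv.hom
        (E.symm (S.symm m))) = E.symm (S.symm m) := by
      exact congr($((Scheme.ΓSpecIso (CommRingCat.of R)).inv_hom_id).hom _)
    rw [e3, LinearEquiv.apply_symm_apply, AddEquiv.apply_symm_apply]
  · change m = fn f (Over.mk r) c • _ at hc
    rw [hc, hS, mul_one, AddEquiv.symm_apply_apply, LinearEquiv.symm_apply_apply]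
    exact congr($((Scheme.ΓSpecIso (CommRingCat.of R)).hom_inv_id).hom c).symm

variable [Smooth f] [GeometricallyConnected f] [SmoothOfRelativeDimension 1 f]

omit [IsProper f] [Smooth f] [GeometricallyConnected f] in
theorem isEff (T : Over (Spec (CommRingCat.of k))) {I : (PicF.XT f T).IdealSheafData}
    (hI : Mor2.IsFinLocFree (I.subschemeι ≫ PicF.XTproj f T)) : BlowUp.IsEffCartierIdeal I :=
  have := smoothOfRelDim_XTproj f T
  ((S1184.result (PicF.XTproj f T) I).2 hI).1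

/-- A divisor in a fixed class with `h⁰ = 1` is unique, over any affine base. -/
theorem ideal_unique (p : Over.mk r ⟶ Over.mk t) (c : Pic (PicF.XT f (Over.mk t))) (h1 : hK f t 0 c = 1)
    {I₁ I₂ : (PicF.XT f (Over.mk r)).IdealSheafData}
    (hI₁ : Mor2.IsFinLocFree (I₁.subschemeι ≫ PicF.XTproj f (Over.mk r)))
    (hI₂ : Mor2.IsFinLocFree (I₂.subschemeι ≫ PicF.XTproj f (Over.mk r)))
    (e₁ : (dcl I₁ (isEff _ hI₁))⁻¹ = pull (PicF.XTmap f p) c)
    (e₂ : (dcl I₂ (isEff _ hI₂))⁻¹ = pull (PicF.XTmap f p) c) : I₁ = I₂ := by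
  obtain ⟨L, hL, rfl⟩ := exists_mk c
  obtain ⟨s, hs⟩ := h0gen_pull p hL h1
  have key : ∀ (I : (PicF.XT f (Over.mk r)).IdealSheafData)
      (hI : Mor2.IsFinLocFree (I.subschemeι ≫ PicF.XTproj f (Over.mk r)))
      (_ : (dcl I (isEff _ hI))⁻¹ = pull (PicF.XTmap f p) (mk L hL)),
      ∃ s' : Γ((Scheme.Modules.pullback (PicF.XTmap f p)).obj L, ⊤), IsZeroIdeal _ s' I ∧
        ∀ τ : (Over.mk r).left, pbTop f (ptHom (Over.mk r) τ) _ s' ≠ 0 := by
    intro I hI e
    obtain ⟨M, hM, σ, hσ⟩ := exists_section_of_isEffCartier (isEff _ hI)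
    have e3 : mk M hM = mk _ (Fdesc.LocGen.isInvertible_pullback (PicF.XTmap f p) hL) := by
      rw [Fga.ZeroClass.mk_eq_inv_dcl hM σ hσ (isEff _ hI), e]
      rfl
    obtain ⟨θ⟩ := (mk_eq_iff _ _).1 e3
    have h2 := isZeroIdeal_of_iso θ hσ
    refine ⟨θ.hom.app ⊤ σ, h2, fun τ => ?_⟩
    have := smoothOfRelDim_XTproj f (Over.mk r)
    refine Picfga.ZeroFin.pbTop_ne_zero (Over.mk r) _ (Fdesc.LocGen.isInvertible_pullback _ hL) _ I h2 hI τ ?_
    have h3 := K914.PtDrop.isIntegral_XT f ((Over.mk r).left.fromSpecResidueField τ ≫ (Over.mk r).hom)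
    exact h3.nonempty
  obtain ⟨s₁, hz₁, hn₁⟩ := key I₁ hI₁ e₁
  obtain ⟨s₂, hz₂, hn₂⟩ := key I₂ hI₂ e₂
  exact Picfga.RepA.zeroIdeal_eq f (Fdesc.LocGen.isInvertible_pullback _ hL) (Iso.refl _) hs hz₁ hz₂ hn₁ hn₂

end K914.HUniq
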