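import Groth.Agent.Jac.K914.Fine
import Groth.Agent.Jac.K914.Semi
import Groth.Agent.Grpsch.MulFinFlat

/-!
# Roots of a class defined over the algebraically closed ground field are defined over it

* `eq_hom_section`: a point of a scheme over `k` lying over a rational point is constant.
* `exists_desc_of_pow`: if `c ^ n` comes from `X_k` then so does `c`.
-/

set_option autoImplicit false
universe u
open CategoryTheory CategoryTheory.Limits AlgebraicGeometry Opposite TopologicalSpace MonoidalCategory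
open CartesianMonoidalCategory MonObj

namespace K914.Tors

open Groth.Agent Groth.Agent.Grpsch Groth.Agent.Grpsch.PicGrp Groth.Agent.Fga.RigGrp Groth.Agent.Fga.JacSum
open Groth.Agent.Fga.JacAlg Groth.Agent.Picfga.ChiDef Groth.Agent.Fga.JacSurj Groth.Agent.Sga7.H732.Hedge
open K914.Curve K914.Cls K914.Points K914.HField K914.Fine

theorem fsr_hom_section {k : Type u} [Field k] {P : Scheme.{u}} (p : P ⟶ Spec (CommRingCat.of k))
    (s : Spec (CommRingCat.of k) ⟶ P) (hs : s ≫ p = 𝟙 _) (x : P) (hx : s (IsLocalRing.closedPoint k) = x) :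
    fsr P x ≫ p ≫ s = fsr P x := by
  obtain ⟨ψ, hψ⟩ := exists_fsr s x hx
  have h1 : Spec.map ψ ≫ (fsr P x ≫ p) = 𝟙 _ := by rw [← Category.assoc, hψ, hs]
  obtain ⟨c, hc⟩ := Spec.map_surjective (fsr P x ≫ p)
  rw [← hc, ← Spec.map_comp, ← Spec.map_id, Spec.map_inj] at h1
  have hiso : IsIso ψ := by
    rw [ConcreteCategory.isIso_iff_bijective]
    refine ⟨ψ.hom.injective, fun y => ⟨c.hom y, ?_⟩⟩
    exact congr($(h1).hom y)
  rw [← cancel_epi (Spec.map ψ), ← Category.assoc, hψ, ← Category.assoc, hs, Category.id_comp]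

/-- A point over a rational point is constant. -/
theorem eq_hom_section {k Ω : Type u} [Field k] [Field Ω] {P : Scheme.{u}} (p : P ⟶ Spec (CommRingCat.of k))
    (s : Spec (CommRingCat.of k) ⟶ P) (hs : s ≫ p = 𝟙 _) (g : Spec (CommRingCat.of Ω) ⟶ P)
    (h : g (IsLocalRing.closedPoint Ω) = s (IsLocalRing.closedPoint k)) : g ≫ p ≫ s = g := by
  obtain ⟨φ, hφ⟩ := exists_fsr g _ h
  rw [← hφ, Category.assoc, fsr_hom_section p s hs _ rfl]

/-- A point of a finite scheme over an algebraically closed field is constant. -/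
theorem exists_section_of_finite {k Ω : Type u} [Field k] [IsAlgClosed k] [Field Ω] {P : Scheme.{u}}
    (p : P ⟶ Spec (CommRingCat.of k)) [IsFinite p] (g : Spec (CommRingCat.of Ω) ⟶ P) :
    ∃ s : Spec (CommRingCat.of k) ⟶ P, s ≫ p = 𝟙 _ ∧ g ≫ p ≫ s = g := by
  have h1 : DiscreteTopology P := by
    have h1 : IsLocallyArtinian (Spec (CommRingCat.of k)) :=
      Scheme.isLocallyArtinianScheme_Spec.mpr inferInstance
    have h2 : IsLocallyArtinian P := IsLocallyArtinian.of_locallyQuasiFinite (f := p)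
    infer_instance
  obtain ⟨s, hs, hs'⟩ := Fga.JacFactor.exists_section_of_closed (Iso.refl _) p (g (IsLocalRing.closedPoint Ω))
    (isClosed_discrete _)
  exact ⟨s, hs, eq_hom_section p s hs g (hs' _).symm⟩

section curve

variable {k : Type u} [Field k] {X : Scheme.{u}} {f : X ⟶ Spec (CommRingCat.of k)}
  [IsProper f] [Smooth f] [GeometricallyConnected f] [SmoothOfRelativeDimension 1 f]
  {K : Type u} [Field K] {t : Spec (CommRingCat.of K) ⟶ Spec (CommRingCat.of k)}

omit [Smooth f] [GeometricallyConnected f] [SmoothOfRelativeDimension 1 f] in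
theorem isDeg_field (c : Pic (PicF.XT f (Over.mk t))) : IsDeg f (dK f t c) c := by
  rw [isDeg_iff_dK]
  intro τ
  exact dK_pull f (ofHom (Over.mk t) (fsr (Over.mk t).left τ)) c

omit [IsProper f] [Smooth f] [GeometricallyConnected f] [SmoothOfRelativeDimension 1 f] in
theorem norm_field {σ : Spec (CommRingCat.of k) ⟶ X} {hσ : σ ≫ f = 𝟙 (Spec (CommRingCat.of k))}
    (c : Pic (PicF.XT f (Over.mk t))) : norm f σ hσ (Over.mk t) c = c := by
  rw [norm_apply]
  have h1 : pull (PicF.secT f σ hσ (Over.mk t)) c = 1 := pic_spec_local K _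
  rw [h1, map_one, div_one]

theorem exists_desc_of_pow [IsAlgClosed k] {σ : Spec (CommRingCat.of k) ⟶ X} (hσ : σ ≫ f = 𝟙 (Spec (CommRingCat.of k)))
    (a : Over.mk t ⟶ Over.mk (𝟙 (Spec (CommRingCat.of k)))) (c : Pic (PicF.XT f (Over.mk t))) (n : ℕ) (hn : 1 ≤ n)
    (c₀ : Pic (PicF.XT f (Over.mk (𝟙 (Spec (CommRingCat.of k)))))) (h : c ^ n = pull (PicF.XTmap f a) c₀) :
    ∃ c₁ : Pic (PicF.XT f (Over.mk (𝟙 (Spec (CommRingCat.of k))))), c = pull (PicF.XTmap f a) c₁ := by
  obtain ⟨J, hgrp, ξ, hprop, hgi, hJ⟩ := exists_isJac f σ hσ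
  let d := dK f t c
  have h1 : IsDeg f 0 (c * tw f hσ (-d) (Over.mk t)) :=
    ((isDeg_field c).mul (isDeg_tw f hσ (-d) (Over.mk t))).congr (by ring) rfl
  have h2 : IsDeg f 0 (c₀ * tw f hσ (-(n * d)) (Over.mk (𝟙 (Spec (CommRingCat.of k))))) := by
    refine ((isDeg_field c₀).mul (isDeg_tw f hσ _ _)).congr ?_ rfl
    have h3 : dK f t (c ^ n) = n * d := by
      clear h1 h
      induction n with
      | zero => omega
      | succ n ih =>
        rcases Nat.eq_zero_or_pos n with rfl | hn'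
        · simp [d]
        · rw [pow_succ, dK_mul, ih hn']
          push_cast
          ring
    rw [h, dK_pull] at h3
    rw [h3]
    ring
  obtain ⟨g, hg, -⟩ := hJ.univ _ _ (norm_mem f σ hσ _ (c * tw f hσ (-d) (Over.mk t))) (deg_iff.2 (isDeg_norm h1))
  obtain ⟨g₀, hg₀, -⟩ := hJ.univ _ _ (norm_mem f σ hσ _ (c₀ * tw f hσ (-(n * d)) (Over.mk (𝟙 (Spec (CommRingCat.of k))))))
    (deg_iff.2 (isDeg_norm h2))
  rw [norm_field] at hg hg₀
  have key : g ≫ (𝟙 J ^ n) = a ≫ g₀ := by
    apply hom_ext hJ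
    have h3 : g ≫ (𝟙 J ^ n) = g ^ n := by
      rw [MonObj.comp_pow, Category.comp_id]
    have h4 : pull (PicF.XTmap f (g ^ n)) ξ = pull (PicF.XTmap f g) ξ ^ n :=
      map_pow (Sga7.H732.Abel.cls hJ (Over.mk t)) g n
    rw [h3, h4, hg, XTmap_comp, pull_comp, hg₀, map_mul, pull_tw, ← h, mul_pow, tw, tw, ← zpow_natCast, ← zpow_natCast,
      ← zpow_mul]
    congr 2
    ring
  have hfin : IsFinite (𝟙 J ^ n : J ⟶ J).left := MulFinFlat.isFinite k J n hn
  let P := pullback (𝟙 J ^ n : J ⟶ J).left g₀.left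
  let p : P ⟶ Spec (CommRingCat.of k) := pullback.snd (𝟙 J ^ n : J ⟶ J).left g₀.left
  have hp : IsFinite p := inferInstanceAs (IsFinite (pullback.snd (𝟙 J ^ n : J ⟶ J).left g₀.left))
  let l : Spec (CommRingCat.of K) ⟶ P := pullback.lift g.left a.left (congrArg CommaMorphism.left key)
  obtain ⟨s, hs, hs'⟩ := exists_section_of_finite p l
  let g₁ : Over.mk (𝟙 (Spec (CommRingCat.of k))) ⟶ J := Over.homMk (s ≫ pullback.fst (𝟙 J ^ n : J ⟶ J).left g₀.left) (by
    have e1 : (𝟙 J ^ n : J ⟶ J).left ≫ J.hom = J.hom := Over.w _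
    have e2 : g₀.left ≫ J.hom = 𝟙 _ := Over.w g₀
    have e3 : pullback.fst (𝟙 J ^ n : J ⟶ J).left g₀.left ≫ J.hom = p := by
      rw [← e1, ← Category.assoc, pullback.condition, Category.assoc, e2]
      exact Category.comp_id _
    rw [Category.assoc, e3, hs]
    rfl)
  have hgg : g = a ≫ g₁ := by
    apply Over.OverMorphism.ext
    have e1 : l ≫ pullback.fst (𝟙 J ^ n : J ⟶ J).left g₀.left = g.left := pullback.lift_fst _ _ _
    have e2 : l ≫ p = a.left := pullback.lift_snd _ _ _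
    change g.left = a.left ≫ s ≫ pullback.fst (𝟙 J ^ n : J ⟶ J).left g₀.left
    rw [← e1, ← e2, Category.assoc]
    conv_lhs => rw [← hs']
    simp only [Category.assoc]
  refine ⟨pull (PicF.XTmap f g₁) ξ * tw f hσ d _, ?_⟩
  rw [map_mul, pull_tw, ← pull_comp, ← XTmap_comp, ← hgg, hg, _root_.mul_assoc]
  have e1 : tw f hσ (-d) (Over.mk t) * tw f hσ d (Over.mk t) = 1 := by
    rw [tw, tw, ← zpow_add, neg_add_cancel, zpow_zero]
  rw [e1, _root_.mul_one]

end curve

end K914.Tors
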