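import Groth.Agent.Jac.K914.Spread
import Groth.Agent.Jac.K914.Tors
import Groth.Agent.Jac.K914.Pow

/-!
# Martens' theorem, pointwise form

* `Dn f t M n`: the points of `M` are defined over a field of transcendence degree `n` over `k`.
* `Ext f t M`: `M` is extremal, `h⁰(M) ≥ 2`, `deg M ≤ g - 1` and `trdeg + h⁰ ≥ deg + 1`.
* `not_ext`: there are no extremal divisors on a non-hyperelliptic curve.
-/

set_option autoImplicit false
universe u
open CategoryTheory CategoryTheory.Limits AlgebraicGeometry Opposite TopologicalSpace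

namespace K914.Martens

open Groth.Agent Groth.Agent.Grpsch Groth.Agent.Grpsch.PicGrp Groth.Agent.Fga.RigGrp Groth.Agent.Fga.JacSum
open Groth.Agent.Fga.JacAlg Groth.Agent.Picfga.ChiDef Groth.Agent.Fga.JacSurj Groth.Agent.Picfga.SecGraph
open Groth.Agent.Sga4h.GeoDim
open K914.Curve K914.Cls K914.Points K914.HField K914.PtDrop K914.Chain K914.Semi K914.Dv K914.Cliff K914.Sc
open K914.Spread K914.Tors

section defs

variable {k : Type u} [Field k] {X : Scheme.{u}} (f : X ⟶ Spec (CommRingCat.of k))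
  {K : Type u} [Field K] (t : Spec (CommRingCat.of K) ⟶ Spec (CommRingCat.of k))

/-- The points of `M` are defined over a field of transcendence degree `n`. -/
def Dn (M : Multiset (Pt f (Over.mk t))) (n : ℕ) : Prop :=
  ∃ (E : Type u) (_ : Field E) (s' : Spec (CommRingCat.of E) ⟶ Spec (CommRingCat.of k)) (a' : Over.mk t ⟶ Over.mk s'),
    (∀ x ∈ M, ∃ x' : Pt f (Over.mk s'), x'.comp a' = x) ∧ ∀ z, trdegAt s' z = n

theorem Dn.mono {M M' : Multiset (Pt f (Over.mk t))} {n : ℕ} (h : Dn f t M' n) (hM : ∀ x ∈ M, x ∈ M') : Dn f t M n := by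
  obtain ⟨E, hE, s', a', h1, h2⟩ := h
  exact ⟨E, hE, s', a', fun x hx => h1 x (hM x hx), h2⟩

theorem exists_map {T T' : Over (Spec (CommRingCat.of k))} (a : T ⟶ T') (M : Multiset (Pt f T))
    (h : ∀ x ∈ M, ∃ x' : Pt f T', x'.comp a = x) : ∃ Z : Multiset (Pt f T'), (Z.map fun z => z.comp a) = M := by
  induction M using Multiset.induction with
  | empty => exact ⟨0, rfl⟩
  | cons x M ih =>
    obtain ⟨Z, hZ⟩ := ih fun y hy => h y (Multiset.mem_cons_of_mem hy)
    obtain ⟨x', hx'⟩ := h x (Multiset.mem_cons_self _ _)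
    exact ⟨x' ::ₘ Z, by rw [Multiset.map_cons, hZ, hx']⟩

theorem exists_ofFn {α : Type*} (M : Multiset α) : ∃ x : Fin (Multiset.card M) → α, Multiset.ofList (List.ofFn x) = M := by
  induction M using Quotient.inductionOn with
  | h l => exact ⟨l.get, by
      change Multiset.ofList (List.ofFn l.get) = Multiset.ofList l
      rw [List.ofFn_get]⟩

end defs

variable {k : Type u} [Field k] {X : Scheme.{u}} (f : X ⟶ Spec (CommRingCat.of k))
  [IsProper f] [Smooth f] [GeometricallyConnected f] [SmoothOfRelativeDimension 1 f]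

section one

variable {K : Type u} [Field K] (t : Spec (CommRingCat.of K) ⟶ Spec (CommRingCat.of k))

theorem exists_Dn (M : Multiset (Pt f (Over.mk t))) (hM : (Multiset.card M : ℤ) + chiK f t 1 ≤ 0) :
    ∃ n, Dn f t M n ∧ n + hK f t 0 (cl f M) ≤ Multiset.card M + 1 := by
  obtain ⟨x, hx⟩ := exists_ofFn M
  obtain ⟨E, hE, s', a', x', hx', m, hm, hle⟩ := exists_small f t x hM
  refine ⟨m, ⟨E, hE, s', a', fun y hy => ?_, hm⟩, ?_⟩
  · rw [← hx, Multiset.mem_coe, List.mem_ofFn] at hy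
    obtain ⟨i, hi⟩ := hy
    exact ⟨x' i, by rw [hx', hi]⟩
  · rw [← cl_ofFn, hx] at hle
    exact hle

theorem step_Dn (M : Multiset (Pt f (Over.mk t))) (x : Pt f (Over.mk t)) (h1 : 0 < hK f t 1 (cl f M)) {n : ℕ}
    (hn : Dn f t M n) : ∃ m, Dn f t (x ::ₘ M) (n + m) ∧ m + hK f t 0 (cl f (x ::ₘ M)) ≤ hK f t 0 (cl f M) + 1 := by
  obtain ⟨E, hE, s', a', hpt, htr⟩ := hn
  obtain ⟨Z, hZ⟩ := exists_map f a' M hpt
  have hc : hK f s' 0 (omK f s' * (cl f Z)⁻¹) = hK f t 1 (cl f M) := by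
    rw [← serre, ← hK_pull f a', pull_cl, hZ]
  obtain ⟨E', hE', s'', b, a'', hab, x'', hx'', m, hm, hle⟩ := step f a' (omK f s' * (cl f Z)⁻¹) (by rw [hc]; exact h1) x
  have h2 : hK f s'' 0 (pull (PicF.XTmap f b) (omK f s' * (cl f Z)⁻¹) * gcl f x'') = hK f t 1 (cl f (x ::ₘ M)) := by
    rw [← hK_pull f a'', map_mul, ← pull_comp, ← XTmap_comp, hab, pull_gcl, hx'', map_mul, map_inv, pull_cl, hZ,
      pull_omK, serre, cl_cons, mul_inv, inv_inv, mul_assoc, mul_comm (gcl f x)]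
  rw [hc, h2] at hle
  have h3 := rr_cl f t M
  have h4 := rr_cl f t (x ::ₘ M)
  rw [Multiset.card_cons] at h4
  refine ⟨m, ⟨E', hE', s'', a'', fun y hy => ?_, fun z => ?_⟩, ?_⟩
  · rw [Multiset.mem_cons] at hy
    rcases hy with rfl | hy
    · exact ⟨x'', hx''⟩
    · obtain ⟨y', hy'⟩ := hpt y hy
      exact ⟨y'.comp b, by rw [comp_comp, hab, hy']⟩
  · have h5 : s'' = b.left ≫ s' := (Over.w b).symm
    have h6 : trdegAt (b.left ≫ s') z = n + m := by rw [trdegAt_comp, htr, hm]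
    rw [h5, h6, Nat.cast_add]
  · push_cast at h4
    omega

/-- Extremal divisors. -/
def Ext (M : Multiset (Pt f (Over.mk t))) : Prop :=
  2 ≤ hK f t 0 (cl f M) ∧ (∀ n, Dn f t M n → Multiset.card M + 1 ≤ n + hK f t 0 (cl f M)) ∧
    (Multiset.card M : ℤ) + chiK f t 1 ≤ 0

variable {f t}

theorem erase_ext {M : Multiset (Pt f (Over.mk t))} {x : Pt f (Over.mk t)} (h : Ext f t (x ::ₘ M))
    (hmin : ¬ Ext f t M) : hK f t 0 (cl f M) = 1 ∧ hK f t 0 (cl f (x ::ₘ M)) = 2 ∧
      ∀ n, Dn f t M n → Multiset.card M ≤ n := by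
  obtain ⟨h1, h2, h3⟩ := h
  rw [Multiset.card_cons] at h2 h3
  push_cast at h3
  have h4 := rr_cl f t M
  have h5 := hK_cl_pos f t M
  have h6 : 0 < hK f t 1 (cl f M) := by omega
  have key : ∀ n, Dn f t M n → Multiset.card M + 1 ≤ n + hK f t 0 (cl f M) := by
    intro n hn
    obtain ⟨m, hm, hm'⟩ := step_Dn f t M x h6 hn
    have h7 := h2 _ hm
    omega
  have h7 : hK f t 0 (cl f M) ≤ 1 := by
    by_contra hlt
    exact hmin ⟨by omega, key, by omega⟩
  have h8 := hK_mul_inv_le f t (cl f M) x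
  rw [mul_comm, ← cl_cons] at h8
  refine ⟨by omega, by omega, fun n hn => ?_⟩
  have := key n hn
  omega

theorem pair_ext [IsAlgClosed K] {Z : Multiset (Pt f (Over.mk t))} {x y : Pt f (Over.mk t)}
    (h : Ext f t (x ::ₘ y ::ₘ Z)) (hx : ¬ Ext f t (x ::ₘ Z)) (hy : ¬ Ext f t (y ::ₘ Z)) :
    3 ≤ hK f t 0 (cl f (x ::ₘ y ::ₘ x ::ₘ y ::ₘ Z)) := by
  have h1 := erase_ext h hy
  have h2 := erase_ext (M := x ::ₘ Z) (x := y) (by rwa [Multiset.cons_swap]) hx
  have h3 := h.2.2
  rw [Multiset.card_cons, Multiset.card_cons] at h3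
  push_cast at h3
  obtain ⟨n, ⟨E, hE, s', a', hpt, htr⟩, hle⟩ := exists_Dn f t Z (by omega)
  have h4 := hK_cl_pos f t Z
  obtain ⟨E', hE', hE'', s'', b, a'', hab, hb⟩ := exists_algClosed a'
  have htr' : ∀ z, trdegAt s'' z = n := by
    intro z
    have h5 : s'' = b.left ≫ s' := (Over.w b).symm
    have h6 : trdegAt (b.left ≫ s') z = n := by rw [trdegAt_comp, htr, hb, add_zero]
    rw [h5, h6]
  have hpt' : ∀ z ∈ Z, ∃ z' : Pt f (Over.mk s''), z'.comp a'' = z := by
    intro z hz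
    obtain ⟨z', hz'⟩ := hpt z hz
    exact ⟨z'.comp b, by rw [comp_comp, hab, hz']⟩
  obtain ⟨Z', rfl⟩ := exists_map f a'' Z hpt'
  refine three_le f a'' Z' x y (fun x' hx' => ?_) (fun y' hy' => ?_) ?_ ?_
  · have h7 := h2.2.2 n ⟨E', hE', s'', a'', fun w hw => by
      rw [Multiset.mem_cons] at hw
      rcases hw with rfl | hw
      · exact ⟨x', hx'⟩
      · exact hpt' w hw, htr'⟩
    rw [Multiset.card_cons] at h7
    omega
  · have h7 := h1.2.2 n ⟨E', hE', s'', a'', fun w hw => by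
      rw [Multiset.mem_cons] at hw
      rcases hw with rfl | hw
      · exact ⟨y', hy'⟩
      · exact hpt' w hw, htr'⟩
    rw [Multiset.card_cons] at h7
    omega
  · have h8 := hK_le_mul f t (cl f (Z'.map fun z => z.comp a'')) (gcl f x)⁻¹ (hK_gcl_inv_pos f t x)
    rw [mul_comm, ← cl_cons] at h8
    omega
  · exact h.1

/-- The linear algebra of pairs. -/
theorem add_card_le (c : Pic (PicF.XT f (Over.mk t))) (S : Multiset (Pt f (Over.mk t))) (hS : S.Nodup)
    (h : ∀ y ∈ S, hK f t 0 c + 1 ≤ hK f t 0 (c * (gcl f y)⁻¹)) :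
    hK f t 0 c + Multiset.card S ≤ hK f t 0 (c * cl f S) := by
  induction S using Multiset.induction with
  | empty => simp
  | cons y S ih =>
    rw [Multiset.nodup_cons] at hS
    have h1 := ih hS.2 fun z hz => h z (Multiset.mem_cons_of_mem hz)
    have h2 := submod_one f t c S hS.1
    have h3 := h y (Multiset.mem_cons_self _ _)
    rw [Multiset.card_cons, cl_cons, ← mul_assoc]
    omega

theorem card_lt_double {M : Multiset (Pt f (Over.mk t))} (hM : M.Nodup) (h2 : hK f t 0 (cl f M) = 2)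
    (h : ∀ x ∈ M, ∀ y ∈ M, x ≠ y → 3 ≤ hK f t 0 (cl f M * (gcl f x)⁻¹ * (gcl f y)⁻¹)) :
    Multiset.card M + 1 ≤ hK f t 0 (cl f M * cl f M) := by
  by_cases hx : ∃ x ∈ M, hK f t 0 (cl f M * (gcl f x)⁻¹) ≤ 2
  · obtain ⟨x, hxM, hx⟩ := hx
    obtain ⟨Z, hZ⟩ := Multiset.exists_cons_of_mem hxM
    have hx' := hK_le_mul f t (cl f M) (gcl f x)⁻¹ (hK_gcl_inv_pos f t x)
    have hM' := hM
    rw [hZ, Multiset.nodup_cons] at hM'
    have h3 := add_card_le (cl f M * (gcl f x)⁻¹) Z hM'.2 fun y hy => by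
      have hyM : y ∈ M := by rw [hZ]; exact Multiset.mem_cons_of_mem hy
      have := h x hxM y hyM fun hxy => hM'.1 (hxy ▸ hy)
      omega
    have h4 : cl f M * (gcl f x)⁻¹ * cl f Z = cl f M * cl f M := by
      rw [mul_assoc, ← cl_cons, ← hZ]
    have h5 : Multiset.card M = Multiset.card Z + 1 := by rw [hZ, Multiset.card_cons]
    rw [h4] at h3
    omega
  · push Not at hx
    have h3 := add_card_le (cl f M) M hM fun y hy => by
      have := hx y hy
      omega
    omega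

theorem nodup_ext {M : Multiset (Pt f (Over.mk t))} (h : Ext f t M) (h3 : 3 ≤ Multiset.card M)
    (hmin : ∀ M' : Multiset (Pt f (Over.mk t)), Multiset.card M' < Multiset.card M → ¬ Ext f t M') : M.Nodup := by
  classical
  by_contra hnd
  rw [Multiset.nodup_iff_le] at hnd
  push Not at hnd
  obtain ⟨x, hx⟩ := hnd
  obtain ⟨Z, hZ⟩ := Multiset.le_iff_exists_add.1 hx
  have hM : M = x ::ₘ x ::ₘ Z := by
    rw [hZ, Multiset.cons_add, Multiset.cons_add, zero_add]
  have hZ1 : 0 < Multiset.card Z := by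
    rw [hM, Multiset.card_cons, Multiset.card_cons] at h3
    omega
  obtain ⟨y, hy⟩ := Multiset.card_pos_iff_exists_mem.1 hZ1
  obtain ⟨W, rfl⟩ := Multiset.exists_cons_of_mem hy
  have hM' : M = y ::ₘ x ::ₘ x ::ₘ W := by
    rw [hM, Multiset.cons_swap x y W, Multiset.cons_swap x y]
  rw [hM'] at h hmin
  have h4 := erase_ext h (hmin _ (by simp))
  have h5 := h.2.2
  simp only [Multiset.card_cons] at h5
  push_cast at h5
  obtain ⟨n, hn, hn'⟩ := exists_Dn f t (x ::ₘ W) (by rw [Multiset.card_cons]; push_cast; omega)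
  have h6 := h4.2.2 n (hn.mono f t fun z hz => by
    rw [Multiset.mem_cons] at hz
    rcases hz with rfl | hz
    · exact Multiset.mem_cons_self _ _
    · exact hz)
  have h7 := hK_cl_pos f t (x ::ₘ W)
  simp only [Multiset.card_cons] at h6 hn'
  omega

end one

section ext

variable {K : Type u} [Field K] [IsAlgClosed K] {t : Spec (CommRingCat.of K) ⟶ Spec (CommRingCat.of k)}

variable {f}

/-- There are no extremal divisors of degree at least three. -/
theorem not_ext_min [IsAlgClosed k] {σ : Spec (CommRingCat.of k) ⟶ X} (hσ : σ ≫ f = 𝟙 (Spec (CommRingCat.of k)))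
    (hnh : ∀ x y : Pt f (Over.mk t), hK f t 0 ((gcl f x)⁻¹ * (gcl f y)⁻¹) ≤ 1)
    {M : Multiset (Pt f (Over.mk t))} (h : Ext f t M) (h3 : 3 ≤ Multiset.card M)
    (hmin : ∀ M' : Multiset (Pt f (Over.mk t)), Multiset.card M' < Multiset.card M → ¬ Ext f t M') : False := by
  have hnd := nodup_ext h h3 hmin
  obtain ⟨x₀, hx₀⟩ := Multiset.card_pos_iff_exists_mem.1 (show 0 < Multiset.card M by omega)
  obtain ⟨Z₀, hZ₀⟩ := Multiset.exists_cons_of_mem hx₀
  have h2 : hK f t 0 (cl f M) = 2 := by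
    rw [hZ₀] at h hmin ⊢
    exact (erase_ext h (hmin _ (by simp))).2.1
  have hd := card_lt_double hnd h2 fun x hx y hy hxy => by
    obtain ⟨Z, rfl⟩ := Multiset.exists_cons_of_mem hx
    have hy' : y ∈ Z := by
      rw [Multiset.mem_cons] at hy
      rcases hy with rfl | hy
      · exact absurd rfl hxy
      · exact hy
    obtain ⟨W, rfl⟩ := Multiset.exists_cons_of_mem hy'
    have h4 := pair_ext h (hmin _ (by simp)) (hmin _ (by simp))
    rw [cl_cons, cl_cons] at h4
    convert h4 using 2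
    rw [mul_comm, mul_comm (cl f _)]
    rw [← mul_assoc, ← mul_assoc, mul_comm (gcl f y)⁻¹]
  -- the double of `M`
  have hsp := rr_cl f t (M + M)
  rw [cl_add, Multiset.card_add] at hsp
  have hM := h.2.2
  push_cast at hsp
  have h4 : cl f (M + M) = omK f t := by
    by_contra hne
    have h5 := clifford_lt f t hnh _ (M + M) rfl (by rw [Multiset.card_add]; omega) hne (by rw [cl_add]; omega)
    rw [cl_add, Multiset.card_add] at h5
    omega
  let a : Over.mk t ⟶ Over.mk (𝟙 (Spec (CommRingCat.of k))) := Over.homMk t (Category.comp_id _)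
  obtain ⟨c₁, hc₁⟩ := exists_desc_of_pow hσ a (cl f M) 2 (by norm_num) (omK f (𝟙 _)) (by
    rw [pull_omK, ← h4, cl_add, sq])
  obtain ⟨x, hx⟩ := exists_ofFn M
  have h6 : pull (PicF.XTmap f a) c₁ * ∏ i, gcl f (x i) = 1 := by
    have h6a : cl f M = ∏ i, (gcl f (x i))⁻¹ := (congrArg (cl f) hx).symm.trans (cl_ofFn f x)
    rw [← hc₁, h6a, Finset.prod_inv_distrib, inv_mul_cancel]
  obtain ⟨E, hE, s', b, a', hab, x', hx', m, hm, hle⟩ := exists_chain f _ a c₁ x (by rw [h6, hK_zero_one]; exact one_pos)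
  rw [h6, hK_zero_one, ← hK_pull f a 0 c₁, ← hc₁, h2] at hle
  have h7 := h.2.1 m ⟨E, hE, s', a', fun y hy => by
    rw [← hx, Multiset.mem_coe, List.mem_ofFn] at hy
    obtain ⟨i, hi⟩ := hy
    exact ⟨x' i, by rw [hx', hi]⟩, fun z => by
      rw [← hm z]
      congr 1
      exact ((Category.comp_id _).symm.trans (Over.w b)).symm⟩
  omega

/-- A non-hyperelliptic curve stays so over a larger algebraically closed field. -/
theorem hnh_ext [IsAlgClosed k] (hnh : ∀ x y : Pt f (Over.mk (𝟙 (Spec (CommRingCat.of k)))),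
      hK f (𝟙 (Spec (CommRingCat.of k))) 0 ((gcl f x)⁻¹ * (gcl f y)⁻¹) ≤ 1) (x y : Pt f (Over.mk t)) :
    hK f t 0 ((gcl f x)⁻¹ * (gcl f y)⁻¹) ≤ 1 := by
  by_contra hlt
  let T := Jac.powOver f 2
  let C : Pic (PicF.XT f T) := (gcl f (powPt f 2 0))⁻¹ * (gcl f (powPt f 2 1))⁻¹
  let p : Over.mk t ⟶ T := ptsHom ![x, y]
  have h1 : pull (PicF.XTmap f p) C = (gcl f x)⁻¹ * (gcl f y)⁻¹ := by
    rw [map_mul, map_inv, map_inv, pull_gcl, pull_gcl, powPt_comp_ptsHom, powPt_comp_ptsHom]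
    rfl
  have h2 := hK_eq_hAt T p 0 C _ rfl
  rw [h1] at h2
  have h3 : ({τ : T.left | 2 ≤ hAt f T 0 C τ}).Nonempty := ⟨_, by
    change 2 ≤ hAt f T 0 C (p.left (IsLocalRing.closedPoint K))
    rw [← h2]
    omega⟩
  have h4 : IsProper T.hom := K914.Pow.isProper_base f 2
  have h5 : CompactSpace T.left := (quasiCompact_iff_compactSpace T.hom).1 inferInstance
  obtain ⟨τ, hτ, hτ'⟩ := IsClosed.exists_closed_singleton (isClosed_hAt T 0 C 2) h3
  obtain ⟨s, hs, hs'⟩ := Fga.JacFactor.exists_section_of_closed (Iso.refl _) T.hom τ hτ'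
  let q : Over.mk (𝟙 (Spec (CommRingCat.of k))) ⟶ T := Over.homMk s hs
  have h6 := hK_eq_hAt T q 0 C τ (hs' _)
  have h7 := hnh ((powPt f 2 0).comp q) ((powPt f 2 1).comp q)
  rw [← pull_gcl, ← pull_gcl, ← map_inv, ← map_inv, ← map_mul] at h7
  have h8 : 2 ≤ hAt f T 0 C τ := hτ
  rw [← h6] at h8
  exact absurd (h8.trans h7) (by norm_num)

theorem not_ext [IsAlgClosed k] {σ : Spec (CommRingCat.of k) ⟶ X} (hσ : σ ≫ f = 𝟙 (Spec (CommRingCat.of k)))
    (hnh : ∀ x y : Pt f (Over.mk (𝟙 (Spec (CommRingCat.of k)))),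
      hK f (𝟙 (Spec (CommRingCat.of k))) 0 ((gcl f x)⁻¹ * (gcl f y)⁻¹) ≤ 1)
    (M : Multiset (Pt f (Over.mk t))) : ¬ Ext f t M := by
  have key : ∀ n : ℕ, ∀ M : Multiset (Pt f (Over.mk t)), Multiset.card M = n → ¬ Ext f t M := by
    intro n
    induction n using Nat.strong_induction_on with
    | _ n ih =>
    intro M hM hext
    by_cases h3 : 3 ≤ n
    · exact not_ext_min hσ (hnh_ext hnh) hext (by omega) fun M' hM' => ih _ (by omega) M' rfl
    · have h1 := hext.1
      obtain rfl | rfl | rfl : n = 0 ∨ n = 1 ∨ n = 2 := by omega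
      · rw [Multiset.card_eq_zero] at hM
        subst hM
        rw [cl_zero, hK_zero_one] at h1
        omega
      · obtain ⟨x, rfl⟩ := Multiset.card_eq_one.1 hM
        rw [cl_singleton] at h1
        have h2 := hK_le_mul f t (gcl f x)⁻¹ (gcl f x)⁻¹ (hK_gcl_inv_pos f t x)
        have h4 := hnh_ext hnh x x
        exact absurd (h1.trans (h2.trans h4)) (by norm_num)
      · obtain ⟨x, y, rfl⟩ := Multiset.card_eq_two.1 hM
        have h4 : cl f ({x, y} : Multiset (Pt f (Over.mk t))) = (gcl f x)⁻¹ * (gcl f y)⁻¹ := by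
          change cl f (x ::ₘ {y}) = _
          rw [cl_cons, cl_singleton]
        rw [h4] at h1
        exact absurd (h1.trans (hnh_ext hnh x y)) (by norm_num)
  exact key _ M rfl

end ext

end K914.Martens
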