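import Groth.Agent.Jac.K914.DivObj
import Groth.Agent.AbVar.K517.P1Point
import Groth.Agent.CohqB.ProjBC

/-!
# Pencils of divisors

* `isDeg_ucl`: the class of a relative divisor of degree `n` has degree `n`.
* `exists_pencil`: two linearly equivalent divisors over the ground field are joined by a family over any `T` with a function.
* `exists_projLine`: they lie on the image of a projective line.
-/

set_option autoImplicit false
universe u
open CategoryTheory CategoryTheory.Limits AlgebraicGeometry Opposite TopologicalSpace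

namespace K914.Pencil

open Groth.Agent Groth.Agent.Grpsch Groth.Agent.Grpsch.PicGrp Groth.Agent.Fga.RigGrp Groth.Agent.Fga.JacSum
open Groth.Agent.Fga.JacAlg Groth.Agent.Picfga.ChiDef Groth.Agent.Fga.JacSurj Groth.Agent.Picfga.ZeroDef
open Groth.Agent.Picfga.ZeroDiv Groth.Agent.Picfga.P1Def Groth.Agent.Fdesc.LocGen Groth.Agent.Picfga.RepA
open Groth.Agent.Fga.JacFactor Groth.Agent.Dix.IdealModCartier Groth.Agent.Picfga.OverRep
open K914.Curve K914.Cls K914.Points K914.HField K914.Sc K914.EtPic K914.HUniq K914.AbelImm K914.DivObj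

variable {k : Type u} [Field k] {X : Scheme.{u}} {f : X ⟶ Spec (CommRingCat.of k)}
  [IsProper f] [Smooth f] [GeometricallyConnected f] [SmoothOfRelativeDimension 1 f]

theorem isDeg_ucl {n : ℕ} {T : Over (Spec (CommRingCat.of k))} (Z : HilbD.Obj f n T) : IsDeg f n (ucl Z) := by
  have hint := isIntegral f
  have hX := isSmoothProperCurve f (curve_dim f)
  obtain ⟨P⟩ := Picfga.CurveP1.exists_p1Data hX
  intro τ
  let t : Spec (CommRingCat.of (T.left.residueField τ)) ⟶ Spec (CommRingCat.of k) := fsr T.left τ ≫ T.hom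
  let g : Over.mk t ⟶ T := ofHom T (fsr T.left τ)
  let D : HilbD.Obj f n (Over.mk t) := Picfga.HilbPull.pullObj f g Z
  have h1 := pull_ucl Z g D.1 (isEff _ D.2.1) rfl
  have h2 := Picfga.ChiRR.chiK_mul_inv_dcl' P t 1 (isEff _ D.2.1) D.2
  change chiK f t (pull (PicF.XTmap f g) (ucl Z)) = chiK f t (pull (PicF.XTmap f g) 1) + n
  rw [map_one, ← h1, ← h2, one_mul]

section pencil

variable {n : ℕ} {H : Over (Spec (CommRingCat.of k))} {Z : HilbD.Obj f n H} (hZ : HilbD.IsUniversal f n H Z)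

include hZ

theorem exists_pencil {T : Over (Spec (CommRingCat.of k))} (t : Γ(T.left, ⊤))
    (y₀ y₁ : Over.mk (𝟙 (Spec (CommRingCat.of k))) ⟶ H)
    (h : pull (PicF.XTmap f y₀) (ucl Z) = pull (PicF.XTmap f y₁) (ucl Z)) (hne : y₀ ≠ y₁) :
    ∃ a : T ⟶ H, (∀ e : Over.mk (𝟙 (Spec (CommRingCat.of k))) ⟶ T, e.left.appTop t = 0 → e ≫ a = y₀) ∧
      (∀ e : Over.mk (𝟙 (Spec (CommRingCat.of k))) ⟶ T, e.left.appTop t = 1 → e ≫ a = y₁) := by
  let S₀ : Over (Spec (CommRingCat.of k)) := Over.mk (𝟙 (Spec (CommRingCat.of k)))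
  let D₀ : HilbD.Obj f n S₀ := Picfga.HilbPull.pullObj f y₀ Z
  let D₁ : HilbD.Obj f n S₀ := Picfga.HilbPull.pullObj f y₁ Z
  obtain ⟨M, hM, s₀, hs₀⟩ := exists_section_of_isEffCartier (isEff _ D₀.2.1)
  obtain ⟨M₁, hM₁, s₁', hs₁'⟩ := exists_section_of_isEffCartier (isEff _ D₁.2.1)
  have e₀ := Fga.ZeroClass.mk_eq_inv_dcl hM s₀ hs₀ (isEff _ D₀.2.1)
  have e₁ := Fga.ZeroClass.mk_eq_inv_dcl hM₁ s₁' hs₁' (isEff _ D₁.2.1)
  rw [pull_ucl Z y₀ D₀.1 (isEff _ D₀.2.1) rfl] at e₀
  rw [pull_ucl Z y₁ D₁.1 (isEff _ D₁.2.1) rfl] at e₁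
  obtain ⟨θ⟩ := (mk_eq_iff _ _).1 (e₁.trans (h.symm.trans e₀.symm))
  let s₁ : Γ(M, ⊤) := θ.hom.app ⊤ s₁'
  have hs₁ : IsZeroIdeal M s₁ D₁.1 := isZeroIdeal_of_iso θ hs₁'
  let p : T ⟶ S₀ := Over.homMk T.hom (Category.comp_id _)
  have hp : ∀ {T' : Over (Spec (CommRingCat.of k))} (u v : T' ⟶ S₀), u = v := fun u v => by
    ext1
    have hu := Over.w u
    have hv := Over.w v
    change u.left ≫ 𝟙 _ = _ at hu
    change v.left ≫ 𝟙 _ = _ at hv
    rw [Category.comp_id] at hu hv
    exact hu.trans hv.symm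
  let N : (PicF.XT f T).Modules := pb f p M
  have hN : PicF.IsInvertible N := Fdesc.LocGen.isInvertible_pullback _ hM
  let σ₀ : Γ(N, ⊤) := pbTop f p M s₀
  let σ₁ : Γ(N, ⊤) := pbTop f p M s₁
  let s : Γ(N, ⊤) := fn f T (1 - t) • σ₀ + fn f T t • σ₁
  -- pull back along any morphism
  have hpb : ∀ {T' : Over (Spec (CommRingCat.of k))} (g : T' ⟶ T), pbTop f g N s =
      fn f T' (1 - g.left.appTop t) • pbTop f g N σ₀ + fn f T' (g.left.appTop t) • pbTop f g N σ₁ := by
    intro T' g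
    have h1 : pbTop f g N s = pbTop f g N (fn f T (1 - t) • σ₀) + pbTop f g N (fn f T t • σ₁) :=
      pullSec_add (PicF.XTmap f g) _ _
    rw [h1, pbTop_smul, pbTop_smul, map_sub, map_one]
  have hz : ∀ {T' : Over (Spec (CommRingCat.of k))} (g : T' ⟶ T), IsZeroIdeal (pb f g N) (pbTop f g N σ₀)
      (HilbD.pull f (g ≫ p ≫ y₀) Z.1) ∧ IsZeroIdeal (pb f g N) (pbTop f g N σ₁) (HilbD.pull f (g ≫ p ≫ y₁) Z.1) := by
    intro T' g
    have key : ∀ (y : S₀ ⟶ H) (w : Γ(M, ⊤)), IsZeroIdeal M w (HilbD.pull f y Z.1) →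
        IsZeroIdeal (pb f g N) (pbTop f g N (pbTop f p M w)) (HilbD.pull f (g ≫ p ≫ y) Z.1) := by
      intro y w hw
      have h1 := isZeroIdeal_pullback (PicF.XTmap f p) hM hw
      have h2 := isZeroIdeal_pullback (PicF.XTmap f g) hN h1
      rw [← Picfga.HilbPull.pull_eq_comap, ← Picfga.HilbPull.pull_eq_comap, ← Picfga.HilbPull.pull_comp,
        ← Picfga.HilbPull.pull_comp, Category.assoc] at h2
      exact h2
    exact ⟨key y₀ s₀ hs₀, key y₁ s₁ hs₁⟩
  -- the section does not vanish on fibres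
  have hs : ∀ τ : T.left, pbTop f (ptHom T τ) N s ≠ 0 := by
    intro τ h0
    rw [hpb] at h0
    obtain ⟨hz₀, hz₁⟩ := hz (ptHom T τ)
    set κ := ptOver T τ with hκ
    have hf : IsField Γ(κ.left, ⊤) :=
      ((Scheme.ΓSpecIso (T.left.residueField τ)).commRingCatIsoToRingEquiv.toMulEquiv).isField (Field.toIsField _)
    have hX := isSmoothProperCurve f (X := X) (hdim := by have := isIntegral f; exact curve_dim f)
    have hlf : ∀ (y : κ ⟶ H), Mor2.IsFinLocFree ((HilbD.pull f y Z.1).subschemeι ≫ PicF.XTproj f κ) := fun y =>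
      (Picfga.HilbPull.pullObj f y Z).2.1
    have hnz : ∀ (w : Γ(pb f (ptHom T τ) N, ⊤)) (y : κ ⟶ H), IsZeroIdeal _ w (HilbD.pull f y Z.1) → w ≠ 0 := by
      intro w y hw hw0
      have := smoothOfRelDim_XTproj f κ
      have hinv : PicF.IsInvertible (pb f (ptHom T τ) N) := Fdesc.LocGen.isInvertible_pullback _ hN
      have h3 := K914.PtDrop.isIntegral_XT f (κ.left.fromSpecResidueField (IsLocalRing.closedPoint (T.left.residueField τ)) ≫ κ.hom)
      have h4 := Picfga.ZeroFin.pbTop_ne_zero κ _ hinv w _ hw (hlf y)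
        (IsLocalRing.closedPoint (T.left.residueField τ)) h3.nonempty
      rw [hw0] at h4
      exact h4 (pbTop_zero f _ _)
    set b : Γ(κ.left, ⊤) := (ptHom T τ).left.appTop t with hb
    by_cases hb0 : b = 0
    · rw [hb0, sub_zero, fn_one, one_smul, fn_zero, zero_smul, add_zero] at h0
      exact hnz _ _ hz₀ h0
    by_cases ha0 : 1 - b = 0
    · have hb1 : b = 1 := (sub_eq_zero.1 ha0).symm
      rw [ha0, hb1, fn_one, one_smul, fn_zero, zero_smul, zero_add] at h0
      exact hnz _ _ hz₁ h0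
    have hub : IsUnit (fn f κ b) := by
      obtain ⟨c, hc⟩ := hf.mul_inv_cancel hb0
      exact IsUnit.of_mul_eq_one (fn f κ c) (by rw [← fn_mul, hc, fn_one])
    have hua : IsUnit (fn f κ (1 - b)) := by
      obtain ⟨c, hc⟩ := hf.mul_inv_cancel ha0
      exact IsUnit.of_mul_eq_one (fn f κ c) (by rw [← fn_mul, hc, fn_one])
    have h1 := isZeroIdeal_unit_smul hua hz₀
    have h2 := isZeroIdeal_unit_smul hub.neg hz₁
    rw [neg_smul, ← eq_neg_of_add_eq_zero_left h0] at h2
    have hinv : PicF.IsInvertible (pb f (ptHom T τ) N) := Fdesc.LocGen.isInvertible_pullback _ hN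
    have h3 := isZeroIdeal_unique hinv h1 h2
    have h4 := Picfga.HilbPull.hom_ext_of_isUniversal hZ h3
    have h5 : Subsingleton S₀.left := inferInstanceAs (Subsingleton (PrimeSpectrum k))
    have h5' : IsIntegral S₀.left := inferInstanceAs (IsIntegral (Spec (CommRingCat.of k)))
    have h6 : Surjective (ptHom T τ ≫ p).left := ⟨fun z => ⟨(IsLocalRing.closedPoint (T.left.residueField τ)), Subsingleton.elim _ _⟩⟩
    have h7 : Flat (ptHom T τ ≫ p).left := inferInstance
    have h8 : Epi (ptHom T τ ≫ p).left := Flat.epi_of_flat_of_surjective _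
    apply hne
    ext1
    have h9 : (ptHom T τ ≫ p).left ≫ y₀.left = (ptHom T τ ≫ p).left ≫ y₁.left := by
      have := congrArg CommaMorphism.left h4
      simpa using this
    exact (cancel_epi _).1 h9
  have hd : IsDeg f n (mk N hN) := by
    have h1 := (isDeg_ucl Z).pull (p ≫ y₀)
    rw [XTmap_comp, pull_comp, ← e₀, pull_mk] at h1
    exact h1
  obtain ⟨a, ha, -⟩ := exists_map hZ hN s hs hd
  refine ⟨a, fun e he => ?_, fun e he => ?_⟩
  · have h1 := isZeroIdeal_pullback (PicF.XTmap f e) hN ha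
    rw [← Picfga.HilbPull.pull_eq_comap, ← Picfga.HilbPull.pull_comp] at h1
    have h2 : pullTop (PicF.XTmap f e) s = pbTop f e N σ₀ := by
      have := hpb e
      rw [he, sub_zero, fn_one, one_smul, fn_zero, zero_smul, add_zero] at this
      exact this
    rw [h2] at h1
    have h3 := isZeroIdeal_unique (Fdesc.LocGen.isInvertible_pullback _ hN) h1 (hz e).1
    have h4 := Picfga.HilbPull.hom_ext_of_isUniversal hZ h3
    rw [h4, ← Category.assoc, hp (e ≫ p) (𝟙 _), Category.id_comp]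
  · have h1 := isZeroIdeal_pullback (PicF.XTmap f e) hN ha
    rw [← Picfga.HilbPull.pull_eq_comap, ← Picfga.HilbPull.pull_comp] at h1
    have h2 : pullTop (PicF.XTmap f e) s = pbTop f e N σ₁ := by
      have := hpb e
      rw [he, sub_self, fn_one, one_smul, fn_zero, zero_smul, zero_add] at this
      exact this
    rw [h2] at h1
    have h3 := isZeroIdeal_unique (Fdesc.LocGen.isInvertible_pullback _ hN) h1 (hz e).2
    have h4 := Picfga.HilbPull.hom_ext_of_isUniversal hZ h3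
    rw [h4, ← Category.assoc, hp (e ≫ p) (𝟙 _), Category.id_comp]

/-- Two linearly equivalent divisors over the ground field lie on the image of a projective line. -/
theorem exists_projLine [IsProper H.hom] (y₀ y₁ : Over.mk (𝟙 (Spec (CommRingCat.of k))) ⟶ H)
    (h : pull (PicF.XTmap f y₀) (ucl Z) = pull (PicF.XTmap f y₁) (ucl Z)) (hne : y₀ ≠ y₁) :
    ∃ g : CohB1.ProjSpace 1 k ⟶ H.left, g ≫ H.hom = CohB1.ProjSpace.toSpec 1 k ∧
      (∀ z, y₀.left z ∈ Set.range g) ∧ (∀ z, y₁.left z ∈ Set.range g) := by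
  let R : Type u := Polynomial k
  let q : Spec (CommRingCat.of R) ⟶ Spec (CommRingCat.of k) := Spec.map (CommRingCat.ofHom (algebraMap k R))
  let T : Over (Spec (CommRingCat.of k)) := Over.mk q
  let t : Γ(T.left, ⊤) := (Scheme.ΓSpecIso (CommRingCat.of R)).inv.hom Polynomial.X
  obtain ⟨a, ha₀, ha₁⟩ := exists_pencil hZ (T := T) t y₀ y₁ h hne
  have he : ∀ c : k, ∃ e : Over.mk (𝟙 (Spec (CommRingCat.of k))) ⟶ T, e.left.appTop t =
      (Scheme.ΓSpecIso (CommRingCat.of k)).inv.hom c := by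
    intro c
    refine ⟨Over.homMk (Spec.map (CommRingCat.ofHom (Polynomial.evalRingHom c))) ?_, ?_⟩
    · change Spec.map _ ≫ Spec.map _ = 𝟙 _
      rw [← Spec.map_comp, ← Spec.map_id]
      congr 1
      ext x
      exact Polynomial.eval_C
    · have h1 := Scheme.ΓSpecIso_inv_naturality (CommRingCat.ofHom (Polynomial.evalRingHom c))
      have h2 := congr($(h1).hom Polynomial.X)
      change (Scheme.ΓSpecIso (CommRingCat.of k)).inv.hom (Polynomial.eval c Polynomial.X) = _ at h2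
      rw [Polynomial.eval_X] at h2
      exact h2.symm
  obtain ⟨e₀, he₀⟩ := he 0
  obtain ⟨e₁, he₁⟩ := he 1
  rw [map_zero] at he₀
  rw [map_one] at he₁
  have h₀ := ha₀ e₀ he₀
  have h₁ := ha₁ e₁ he₁
  let L : Type u := FractionRing R
  let ι : Spec (CommRingCat.of L) ⟶ Spec (CommRingCat.of R) := Spec.map (CommRingCat.ofHom (algebraMap R L))
  let al : Spec (CommRingCat.of R) ⟶ H.left := a.left
  have hal : al ≫ H.hom = q := Over.w a
  have hdom : IsDominant ι := by
    have hinj : Function.Injective (algebraMap R L) := IsFractionRing.injective R L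
    exact ⟨(PrimeSpectrum.denseRange_comap_iff_ker_le_nilRadical _).2 (by
      have h5 : RingHom.ker (algebraMap R L) = ⊥ := (RingHom.injective_iff_ker_eq_bot _).1 hinj
      exact h5.le.trans bot_le)⟩
  obtain ⟨g, hg1, hg2⟩ := K517.P1Point.exists_extension (CohB1.ProjSpaceOver.toBase 1 (Spec (CommRingCat.of k)))
    H.hom (Sga4B.P1Curve.topologicalKrullDim_projLine k) (CommRingCat.of R) (K517.P1Point.line k) L (ι ≫ al)
    (by rw [Category.assoc, hal, K517.P1Point.line_toBase])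
  have hg3 : K517.P1Point.line k ≫ g = al := by
    refine ext_of_isDominant_of_isSeparated H.hom ?_ ι ?_
    · rw [Category.assoc, hg1, K517.P1Point.line_toBase, hal]
    · exact hg2
  refine ⟨(CohqB.ProjBC.projSpaceOverIso 1 k).inv ≫ g, ?_, fun z => ?_, fun z => ?_⟩
  · rw [Category.assoc, hg1, CohqB.ProjBC.projSpaceOverIso_inv_toBase]
  · refine ⟨(CohqB.ProjBC.projSpaceOverIso 1 k).hom (K517.P1Point.line k (e₀.left z)), ?_⟩
    rw [← h₀]
    rw [← Scheme.Hom.comp_apply, Iso.hom_inv_id_assoc, ← Scheme.Hom.comp_apply, hg3]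
    rfl
  · refine ⟨(CohqB.ProjBC.projSpaceOverIso 1 k).hom (K517.P1Point.line k (e₁.left z)), ?_⟩
    rw [← h₁]
    rw [← Scheme.Hom.comp_apply, Iso.hom_inv_id_assoc, ← Scheme.Hom.comp_apply, hg3]
    rfl

end pencil

end K914.Pencil
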