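import Groth.Agent.Jac.K914.HField
import Groth.Agent.Fga.TwistGr
import Groth.Prelude.Def_SecTwist
import Groth.Agent.Ega2.SecCalc

/-!
# Twisting down by a point

* `exists_section_dcl`: the canonical section of `O(D)`.
-/

set_option autoImplicit false
universe u
open CategoryTheory CategoryTheory.Limits AlgebraicGeometry Opposite TopologicalSpace

namespace K914.PtDrop

open Groth.Agent Groth.Agent.Grpsch Groth.Agent.Grpsch.PicGrp Groth.Agent.Fga.RigGrp Groth.Agent.Fga.JacSum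
open Groth.Agent.Fga.JacAlg Groth.Agent.Picfga.ChiDef Groth.Agent.Fga.JacSurj Groth.Agent.Fdesc.LocGen
open Groth.Agent.Fga.JacFactor Groth.Agent.Dix.IdealModCartier
open K914.Curve K914.Cls K914.Points K914.HField

section general

variable {Y : Scheme.{u}}

/-- The canonical section of `O(D)`, which generates exactly outside of the support of `D`. -/
theorem exists_section_dcl {D : Y.IdealSheafData} (hD : BlowUp.IsEffCartierIdeal D) {L : Y.Modules}
    (hL : PicF.IsInvertible L) (h : mk L hL = (dcl D hD)⁻¹) :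
    ∃ s : Coh.structureModule Y ⟶ L, ∀ y : Y, y ∈ CohB1.genLocus L s ↔ y ∉ D.support := by
  rw [eq_inv_iff_mul_eq_one, dcl, mk_mul_mk, mk_eq_one_iff] at h
  obtain ⟨e⟩ := h
  refine ⟨e.inv ≫ Fga.TwistGr.tmap L (ClSub.idealModι D) ≫ (SecTwist.unitorR L).hom, fun y => ?_⟩
  obtain ⟨U₀, a₀, hy₀, ha₀⟩ := exists_genOn hD y
  obtain ⟨V₀, m₀, hyV, hm₀⟩ := (isInvertible_iff L).1 hL y
  obtain ⟨U, hyU, hU⟩ := exists_affine_mem_le (U₀.1 ⊓ V₀) y ⟨hy₀, hyV⟩
  obtain ⟨a, ha⟩ : ∃ a : Γ(Y, U.1), GenOn D a := ⟨_, ha₀.res (hU.trans inf_le_left)⟩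
  obtain ⟨m, hm⟩ : ∃ m : Γ(L, U.1), IsGen m := ⟨_, hm₀.res (hU.trans inf_le_right)⟩
  have hideal : D.ideal U = Ideal.span {a} := by
    have := (ha U le_rfl).2
    simpa using this
  obtain ⟨t, ht⟩ := exists_val_eq D U (a := a) (hideal ▸ Ideal.mem_span_singleton_self a)
  have hg : IsGen t := isGen_of_genOn (ht.symm ▸ ha)
  have hmt : IsGen (tmul m t) := hm.tmul hg
  have h1 : IsGen (sec e.inv U.1) := by
    rw [← res_sec e.inv (le_top : U.1 ≤ ⊤)]
    exact ((isIso_iff_isGen e.inv).1 inferInstance).res _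
  obtain ⟨w, hw, hw'⟩ := hmt.exists_unit h1
  have hgen : IsGen ((SecTwist.unitorR L).hom.app U.1 (tmul m (one U.1))) :=
    (hm.tmul (isGen_one U.1)).app _
  have hsec : sec (e.inv ≫ Fga.TwistGr.tmap L (ClSub.idealModι D) ≫ (SecTwist.unitorR L).hom) U.1 =
      (w * a) • (SecTwist.unitorR L).hom.app U.1 (tmul m (one U.1)) := by
    change (SecTwist.unitorR L).hom.app U.1 ((Fga.TwistGr.tmap L (ClSub.idealModι D)).app U.1 (sec e.inv U.1)) = _
    have h5 : (Fga.TwistGr.tmap L (ClSub.idealModι D)).app U.1 (tmul m t) =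
        tmul m ((ClSub.idealModι D).app U.1 t) := Fga.TwistGr.tmap_app_tmul L (ClSub.idealModι D) m t
    rw [hw', Scheme.Modules.Hom.app_smul, Scheme.Modules.Hom.app_smul, h5]
    have h2 : (ClSub.idealModι D).app U.1 t = a • one U.1 := by
      rw [← ofFun_eq_smul, ← ht]
      rfl
    rw [h2, tmul_smul, Scheme.Modules.Hom.app_smul, mul_smul]
  have h3 := genLocus_inf_eq _ hgen hsec
  have h4 : y ∈ CohB1.genLocus L (e.inv ≫ Fga.TwistGr.tmap L (ClSub.idealModι D) ≫ (SecTwist.unitorR L).hom) ↔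
      y ∈ Y.basicOpen (w * a) := by
    rw [← h3]
    exact ⟨fun h => ⟨h, hyU⟩, fun h => h.1⟩
  rw [h4, Scheme.IdealSheafData.mem_support_iff_of_mem hyU, hideal, Scheme.basicOpen_mul,
    Scheme.basicOpen_of_isUnit _ hw]
  simp only [Scheme.zeroLocus_span, Scheme.zeroLocus_singleton]
  constructor
  · rintro ⟨-, h⟩ h'
    exact h' h
  · intro h
    exact ⟨hyU, not_not.1 h⟩

theorem genericPoint_notMem_support [IsIntegral Y] {D : Y.IdealSheafData} (hD : BlowUp.IsEffCartierIdeal D) :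
    genericPoint Y ∉ D.support := by
  obtain ⟨U, a, hy, ha⟩ := exists_genOn hD (genericPoint Y)
  have hne : Nonempty U.1 := ⟨⟨_, hy⟩⟩
  have h0 := ha U le_rfl
  have h1 : D.ideal U = Ideal.span {a} := by simpa using h0.2
  have h2 : a ≠ 0 := by
    have h3 : a ∈ nonZeroDivisors Γ(Y, U.1) := by simpa using h0.1
    exact nonZeroDivisors.ne_zero h3
  rw [Scheme.IdealSheafData.mem_support_iff_of_mem hy, h1]
  simp only [Scheme.zeroLocus_span, Scheme.zeroLocus_singleton]
  intro h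
  apply h
  have h4 : ((Y.basicOpen a : Y.Opens) : Set Y).Nonempty := by
    rw [Set.nonempty_iff_ne_empty]
    intro h5
    apply h2
    exact (basicOpen_eq_bot_iff a).1 (TopologicalSpace.Opens.ext h5)
  exact ((genericPoint_spec Y).mem_open_set_iff (Y.basicOpen a).isOpen).2 (by simpa using h4)

end general

section field

variable (k : Type u) [Field k] {Y : Scheme.{u}} [Y.Over (Spec (CommRingCat.of k))]

theorem finrank_pos {L : Y.Modules} (s : Coh.structureModule Y ⟶ L) (hs : s ≠ 0)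
    [Module.Finite k (Coh.HH Y L 0)] : 0 < Module.finrank k (Coh.HH Y L 0) := by
  rw [Module.finrank_pos_iff]
  refine ⟨(VarietyA.CurveLin.secOf L).symm (sec s ⊤), 0, fun h => hs ?_⟩
  rw [AddEquiv.symm_apply_eq, map_zero] at h
  rw [← homOf_sec s, h]
  apply hom_ext_sec
  rw [sec_homOf, map_zero]
  rfl

theorem ne_zero_of_mem_genLocus {L : Y.Modules} {s : Coh.structureModule Y ⟶ L} {y : Y}
    (hy : y ∈ CohB1.genLocus L s) : s ≠ 0 := by
  rintro rfl
  obtain ⟨V, hyV, hV⟩ := (mem_genLocus_iff _ _).1 hy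
  have h1 : sec (0 : Coh.structureModule Y ⟶ L) V = 0 := rfl
  rw [h1] at hV
  have h2 : (1 : Γ(Y, V)) = 0 := hV.ext (by simp)
  have : Nonempty V := ⟨⟨y, hyV⟩⟩
  exact one_ne_zero h2

/-- If a section of `N` generates at a point of `D`, then `h⁰(N(-D)) < h⁰(N)`. -/
theorem finrank_lt [IsIntegral Y] {D : Y.IdealSheafData} (hD : BlowUp.IsEffCartierIdeal D)
    {N P L : Y.Modules} (hP : PicF.IsInvertible P) (hL : PicF.IsInvertible L)
    (hLD : mk L hL = (dcl D hD)⁻¹) (e : CohB1.tensorMod P L ≅ N) (s : Coh.structureModule Y ⟶ N) {y : Y}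
    (hy : y ∈ D.support) (hys : y ∈ CohB1.genLocus N s) [Module.Finite k (Coh.HH Y N 0)] :
    Module.finrank k (Coh.HH Y P 0) < Module.finrank k (Coh.HH Y N 0) := by
  obtain ⟨s₀, hs₀⟩ := exists_section_dcl hD hL hLD
  have hne : s₀ ≠ 0 := ne_zero_of_mem_genLocus ((hs₀ _).2 (genericPoint_notMem_support hD))
  let v₀ : Coh.HH Y L 0 := (VarietyA.CurveLin.secOf L).symm (sec s₀ ⊤)
  have hv₀ : v₀ ≠ 0 := by
    intro h
    apply hne
    rw [AddEquiv.symm_apply_eq, map_zero] at h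
    rw [← homOf_sec s₀, h]
    apply hom_ext_sec
    rw [sec_homOf, map_zero]
    rfl
  have hinj := K532.SecMul.mulPair_injective k hP hL hv₀
  let E := CurvesA.HHMap.equivOver k e 0
  have hfin : Module.Finite k (Coh.HH Y (CohB1.tensorMod P L) 0) := Module.Finite.equiv E.symm
  rw [← E.finrank_eq]
  have hsurj : ¬ Function.Surjective (K532.SecMul.mulPair k P L 0 v₀) := by
    intro hsurj
    obtain ⟨v, hv⟩ := hsurj ((VarietyA.CurveLin.secOf _).symm (e.inv.app ⊤ (sec s ⊤)))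
    rw [K532.SecMul.mulPair_apply, AddEquiv.eq_symm_apply, K532.SecMul.secOf_hmap, Picfga.ZeroHom.mulSec_app] at hv
    have h1 : tmulHom (homOf (VarietyA.CurveLin.secOf P v)) s₀ = s ≫ e.inv := by
      apply hom_ext_sec
      rw [sec_tmulHom, sec_homOf, sec_comp, ← hv, res_refl, res_refl]
      congr 1
      exact ((VarietyA.CurveLin.secOf L).apply_symm_apply _).symm
    have h2 : y ∈ CohB1.genLocus _ (s ≫ e.inv) := by
      rwa [Ega2.SecCalc.genLocus_comp]
    rw [← h1, genLocus_tmulHom hP hL] at h2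
    exact (hs₀ y).1 h2.2 hy
  have h3 : LinearMap.range (K532.SecMul.mulPair k P L 0 v₀) ≠ ⊤ :=
    fun h => hsurj (LinearMap.range_eq_top.1 h)
  have h4 := Submodule.finrank_lt h3
  rwa [LinearMap.finrank_range_of_inj hinj] at h4

end field

section curve

variable {k : Type u} [Field k] {X : Scheme.{u}} (f : X ⟶ Spec (CommRingCat.of k))
  [IsProper f] [Smooth f] [GeometricallyConnected f] [SmoothOfRelativeDimension 1 f]
  {K : Type u} [Field K] (t : Spec (CommRingCat.of K) ⟶ Spec (CommRingCat.of k))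

theorem finite_HH {L : (PicF.XT f (Over.mk t)).Modules} (hL : PicF.IsInvertible L) (i : ℕ) :
    letI := overK f t
    Module.Finite K (Coh.HH (PicF.XT f (Over.mk t)) L i) :=
  letI := overK f t
  K532.CurvePic.finite_HH (isCurve f t) hL i

/-- A nonzero section makes `h⁰` positive. -/
theorem hK_pos_of_section {L : (PicF.XT f (Over.mk t)).Modules} (hL : PicF.IsInvertible L)
    (s : Coh.structureModule (PicF.XT f (Over.mk t)) ⟶ L) (hs : s ≠ 0) : 0 < hK f t 0 (mk L hL) :=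
  letI := overK f t
  have := finite_HH f t hL 0
  finrank_pos K s hs

theorem exists_section_of_pos {L : (PicF.XT f (Over.mk t)).Modules} (hL : PicF.IsInvertible L)
    (h : 0 < hK f t 0 (mk L hL)) : ∃ s : Coh.structureModule (PicF.XT f (Over.mk t)) ⟶ L, s ≠ 0 :=
  letI := overK f t
  K532.CurvePic.exists_hom_ne_zero (isCurve f t) hL h

theorem isIntegral_XT : IsIntegral (PicF.XT f (Over.mk t)) :=
  letI := overK f t
  (isCurve f t).integral

omit [Smooth f] [GeometricallyConnected f] in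
theorem gcl_eq_dcl (x : Pt f (Over.mk t)) : gcl f x = dcl (HilbD.secGraph f (Over.mk t) x.1 x.2) (isEff_secGraph f x) :=
  rfl

theorem hK_gcl_inv_pos (x : Pt f (Over.mk t)) : 0 < hK f t 0 (gcl f x)⁻¹ := by
  have := isIntegral_XT f t
  obtain ⟨L, hL, h⟩ := exists_mk (gcl f x)⁻¹
  rw [h]
  obtain ⟨s, hs⟩ := exists_section_dcl (isEff_secGraph f x) hL (by rw [← h, gcl_eq_dcl])
  exact hK_pos_of_section f t hL s
    (ne_zero_of_mem_genLocus ((hs _).2 (genericPoint_notMem_support (isEff_secGraph f x))))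

theorem hK_mul_gcl_le (c : Pic (PicF.XT f (Over.mk t))) (x : Pt f (Over.mk t)) :
    hK f t 0 (c * gcl f x) ≤ hK f t 0 c := by
  have h := hK_le_mul f t (c * gcl f x) (gcl f x)⁻¹ (hK_gcl_inv_pos f t x)
  rwa [mul_inv_cancel_right] at h

theorem hK1_le_mul_gcl (c : Pic (PicF.XT f (Over.mk t))) (x : Pt f (Over.mk t)) :
    hK f t 1 c ≤ hK f t 1 (c * gcl f x) := by
  have h := hK1_mul_le f t (c * gcl f x) (gcl f x)⁻¹ (hK_gcl_inv_pos f t x)
  rwa [mul_inv_cancel_right] at h

theorem hK_sub_gcl (c : Pic (PicF.XT f (Over.mk t))) (x : Pt f (Over.mk t)) :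
    (hK f t 0 (c * gcl f x) : ℤ) - hK f t 1 (c * gcl f x) = hK f t 0 c - hK f t 1 c - 1 := by
  rw [rr, rr, dK_mul, dK_gcl]
  ring

theorem hK_le_mul_gcl_add_one (c : Pic (PicF.XT f (Over.mk t))) (x : Pt f (Over.mk t)) :
    hK f t 0 c ≤ hK f t 0 (c * gcl f x) + 1 := by
  have h1 := hK_sub_gcl f t c x
  have h2 := hK1_le_mul_gcl f t c x
  omega

omit [IsProper f] [Smooth f] [GeometricallyConnected f] [SmoothOfRelativeDimension 1 f] in
theorem mem_support_secGraph (x : Pt f (Over.mk t)) (z : Spec (CommRingCat.of K)) :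
    Picfga.SecGraph.sec f (Over.mk t) x.1 x.2 z ∈ (HilbD.secGraph f (Over.mk t) x.1 x.2).support := by
  rw [Picfga.SecGraph.secGraph_eq_ker]
  exact Scheme.Hom.range_subset_ker_support _ ⟨z, rfl⟩

/-- If a section of `N` generates at `x`, then twisting down by `x` drops `h⁰`. -/
theorem hK_drop {N : (PicF.XT f (Over.mk t)).Modules} (hN : PicF.IsInvertible N)
    (s : Coh.structureModule (PicF.XT f (Over.mk t)) ⟶ N) (x : Pt f (Over.mk t)) (z : Spec (CommRingCat.of K))
    (hs : Picfga.SecGraph.sec f (Over.mk t) x.1 x.2 z ∈ CohB1.genLocus N s) :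
    hK f t 0 (mk N hN * gcl f x) + 1 ≤ hK f t 0 (mk N hN) := by
  have := isIntegral_XT f t
  let _ := overK f t
  have := finite_HH f t hN 0
  obtain ⟨L, hL, h⟩ := exists_mk (gcl f x)⁻¹
  obtain ⟨P, hP, h'⟩ := exists_mk (mk N hN * gcl f x)
  have h1 : mk (CohB1.tensorMod P L) (isInvertible_tensorMod hP hL) = mk N hN := by
    rw [← mk_mul_mk hP hL, ← h, ← h', mul_inv_cancel_right]
  obtain ⟨e⟩ := (mk_eq_iff _ _).1 h1
  rw [h']
  exact finrank_lt K (isEff_secGraph f x) hP hL (by rw [← h, gcl_eq_dcl]) e s (mem_support_secGraph f t x z) hs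

theorem mem_genLocus_pullHom {Y Z : Scheme.{u}} (g : Z ⟶ Y) {L : Y.Modules} (s : Coh.structureModule Y ⟶ L) {z : Z}
    (hz : g z ∈ CohB1.genLocus L s) : z ∈ CohB1.genLocus _ (pullHom g s) := by
  rw [mem_genLocus_iff] at hz ⊢
  obtain ⟨V, hzV, hV⟩ := hz
  refine ⟨g ⁻¹ᵁ V, hzV, ?_⟩
  rw [sec_pullHom]
  exact hV.pullSec g

theorem genericPoint_mem_genLocus {Y : Scheme.{u}} [IsIntegral Y] {L : Y.Modules} (hL : PicF.IsInvertible L)
    {s : Coh.structureModule Y ⟶ L} (hs : s ≠ 0) : genericPoint Y ∈ CohB1.genLocus L s := by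
  have h0 : sec s ⊤ ≠ 0 := by
    intro h
    apply hs
    apply hom_ext_sec
    rw [h]
    rfl
  obtain ⟨W, hW, hW'⟩ := K532.SecMul.exists_isGen hL h0
  rw [mem_genLocus_iff]
  refine ⟨W, ((genericPoint_spec Y).mem_open_set_iff W.isOpen).2 (by simpa using hW), ?_⟩
  rwa [res_sec] at hW'

/-- If `x` lies over the generic point of `X_F`, a class defined over `F` with a nonzero section drops at `x`. -/
theorem hK_drop_generic {F : Type u} [Field F] {tF : Spec (CommRingCat.of F) ⟶ Spec (CommRingCat.of k)}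
    (g : Over.mk t ⟶ Over.mk tF) {c : Pic (PicF.XT f (Over.mk tF))} (hc : 0 < hK f tF 0 c) (x : Pt f (Over.mk t))
    (z : Spec (CommRingCat.of K)) (hx : ∀ W : (PicF.XT f (Over.mk tF)).Opens, (W : Set (PicF.XT f (Over.mk tF))).Nonempty →
      PicF.XTmap f g (Picfga.SecGraph.sec f (Over.mk t) x.1 x.2 z) ∈ W) :
    hK f t 0 (pull (PicF.XTmap f g) c * gcl f x) + 1 ≤ hK f tF 0 c := by
  have := isIntegral_XT f tF
  obtain ⟨L, hL, rfl⟩ := exists_mk c
  obtain ⟨s, hs⟩ := exists_section_of_pos f tF hL hc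
  rw [← hK_pull f g 0 (mk L hL), pull_mk]
  exact hK_drop f t _ (pullHom (PicF.XTmap f g) s) x z
    (mem_genLocus_pullHom _ s (hx _ ⟨_, genericPoint_mem_genLocus hL hs⟩))

end curve

end K914.PtDrop
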