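import Groth.Agent.Jac.K914.Sc
import Groth.Agent.Jac.K914.Cliff
import Groth.Agent.Sga3B.CellDim
import Groth.Agent.CycB.TrdegBC
import Mathlib.AlgebraicGeometry.Sites.Fpqc
import Mathlib.FieldTheory.AlgebraicClosure

/-!
# Doubling the moving points of a divisor

* `exists_algClosed`: enlarging a subfield of `Ω` to an algebraically closed one.
* `exists_double`: for `E ⊆ Ω` algebraically closed, the scheme `Spec Ω ×_E Spec Ω`.
* `three_le`: if `h⁰(X + x + y) ≥ 2`, `h⁰(X) ≤ 1`, `X` is defined over `E` and `x`, `y` are not, then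
  `h⁰(X + 2x + 2y) ≥ 3`.
-/

set_option autoImplicit false
universe u
open CategoryTheory CategoryTheory.Limits AlgebraicGeometry Opposite TopologicalSpace

namespace K914.Spread

open Groth.Agent Groth.Agent.Grpsch Groth.Agent.Grpsch.PicGrp Groth.Agent.Fga.RigGrp Groth.Agent.Fga.JacSum
open Groth.Agent.Fga.JacAlg Groth.Agent.Picfga.ChiDef Groth.Agent.Fga.JacSurj Groth.Agent.Picfga.SecGraph
open Groth.Agent.Sga4h.GeoDim
open K914.Curve K914.Cls K914.Points K914.HField K914.PtDrop K914.Dv K914.Cliff K914.Sc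

section fields

variable {S : Scheme.{u}}

/-- Enlarging a subfield to an algebraically closed one. -/
theorem exists_algClosed {E Ω : Type u} [Field E] [Field Ω] [IsAlgClosed Ω] {s : Spec (CommRingCat.of E) ⟶ S}
    {t : Spec (CommRingCat.of Ω) ⟶ S} (a : Over.mk t ⟶ Over.mk s) :
    ∃ (E' : Type u) (_ : Field E') (_ : IsAlgClosed E') (s' : Spec (CommRingCat.of E') ⟶ S)
      (b : Over.mk s' ⟶ Over.mk s) (a' : Over.mk t ⟶ Over.mk s'), a' ≫ b = a ∧ ∀ z, trdegAt b.left z = 0 := by
  obtain ⟨φ, hφ⟩ := Spec.map_surjective a.left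
  let _ : Algebra E Ω := φ.hom.toAlgebra
  let E' := algebraicClosure E Ω
  have h1 : IsAlgClosed E' := (algebraicClosure.isAlgClosure E Ω).isAlgClosed
  let e : Spec (CommRingCat.of E') ⟶ Spec (CommRingCat.of E) := Spec.map (CommRingCat.ofHom (algebraMap E E'))
  let e' : Spec (CommRingCat.of Ω) ⟶ Spec (CommRingCat.of E') := Spec.map (CommRingCat.ofHom (algebraMap E' Ω))
  have he : e' ≫ e = a.left := by
    rw [← hφ, ← Spec.map_comp]
    rfl
  have he' : e' ≫ e ≫ s = t := by
    rw [← Category.assoc, he]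
    exact Over.w a
  refine ⟨E', inferInstance, h1, e ≫ s, Over.homMk e rfl, Over.homMk e' he', Over.OverMorphism.ext he, fun z => ?_⟩
  have hz : z = genericPoint (Spec (CommRingCat.of E')) := Subsingleton.elim (α := PrimeSpectrum E') _ _
  subst hz
  change trdegAt (Spec.map (CommRingCat.ofHom (algebraMap E E'))) _ = 0
  rw [trdegAt_genericPoint_Spec _ (algebraMap E E').injective]
  exact CycB.TrdegBC.trd_eq_zero_of_isAlgebraic (algebraMap E E') (algebraMap E E').injective
    (by convert (algebraicClosure.isAlgClosure E Ω).isAlgebraic)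

/-- The self-product of `Spec Ω` over an algebraically closed subfield. -/
theorem exists_double {E Ω : Type u} [Field E] [Field Ω] [IsAlgClosed E] {s : Spec (CommRingCat.of E) ⟶ S}
    {t : Spec (CommRingCat.of Ω) ⟶ S} (a : Over.mk t ⟶ Over.mk s) :
    ∃ (T : Over S) (p₁ p₂ : T ⟶ Over.mk t) (δ : Over.mk t ⟶ T), IsIntegral T.left ∧ p₁ ≫ a = p₂ ≫ a ∧
      δ ≫ p₁ = 𝟙 _ ∧ δ ≫ p₂ = 𝟙 _ ∧ ∀ {X : Scheme.{u}} (u v : Spec (CommRingCat.of Ω) ⟶ X),
        p₁.left ≫ u = p₂.left ≫ v → ∃ v' : Spec (CommRingCat.of E) ⟶ X, a.left ≫ v' = v := by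
  obtain ⟨φ, hφ⟩ := Spec.map_surjective a.left
  let _ : Algebra E Ω := φ.hom.toAlgebra
  have hint : IsIntegral (pullback a.left a.left) := by
    have h0 : a.left = Spec.map (CommRingCat.ofHom (algebraMap E Ω)) := hφ.symm
    rw [h0]
    have h1 : IsDomain (TensorProduct E Ω Ω) := Sga3B.CellDim.isDomain_tensor
    have h2 : Nonempty (Spec (CommRingCat.of (TensorProduct E Ω Ω))) :=
      inferInstanceAs (Nonempty (PrimeSpectrum (TensorProduct E Ω Ω)))
    have h3 : Nonempty ↥(pullback (Spec.map (CommRingCat.ofHom (algebraMap E Ω)))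
        (Spec.map (CommRingCat.ofHom (algebraMap E Ω)))) := h2.map (pullbackSpecIso E Ω Ω).inv
    exact isIntegral_of_isOpenImmersion (pullbackSpecIso E Ω Ω).hom
  let T : Over S := Over.mk (pullback.fst a.left a.left ≫ t)
  have hat : a.left ≫ s = t := Over.w a
  let p₁ : T ⟶ Over.mk t := Over.homMk (pullback.fst a.left a.left) rfl
  let p₂ : T ⟶ Over.mk t := Over.homMk (pullback.snd a.left a.left) (by
    refine (congrArg (fun w => pullback.snd a.left a.left ≫ w) hat.symm).trans
      (Eq.trans ?_ (congrArg (fun w => pullback.fst a.left a.left ≫ w) hat))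
    rw [← Category.assoc, ← pullback.condition, Category.assoc])
  let δ : Over.mk t ⟶ T := Over.homMk (pullback.lift (𝟙 _) (𝟙 _) rfl) (by
    change pullback.lift (𝟙 _) (𝟙 _) rfl ≫ pullback.fst a.left a.left ≫ t = t
    rw [← Category.assoc, pullback.lift_fst, Category.id_comp])
  refine ⟨T, p₁, p₂, δ, hint, Over.OverMorphism.ext pullback.condition, Over.OverMorphism.ext (pullback.lift_fst _ _ _),
    Over.OverMorphism.ext (pullback.lift_snd _ _ _), fun {X} u v huv => ?_⟩
  change pullback.fst a.left a.left ≫ u = pullback.snd a.left a.left ≫ v at huv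
  have huv' : u = v := by
    have h2 : pullback.lift (𝟙 _) (𝟙 _) rfl ≫ pullback.fst a.left a.left ≫ u =
        pullback.lift (𝟙 _) (𝟙 _) rfl ≫ pullback.snd a.left a.left ≫ v := by rw [huv]
    rwa [← Category.assoc, ← Category.assoc, pullback.lift_fst, pullback.lift_snd, Category.id_comp,
      Category.id_comp] at h2
  subst huv'
  have h3 : Surjective a.left := by
    constructor
    intro z
    have : Nonempty (Spec (CommRingCat.of Ω)) := inferInstance
    exact ⟨this.some, Subsingleton.elim (α := PrimeSpectrum E) _ _⟩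
  have h4 : Flat a.left := by
    rw [← hφ]
    rw [Flat.SpecMap_iff]
    exact inferInstanceAs (Module.Flat E Ω)
  have h5 : QuasiCompact a.left := by
    let a' : Spec (CommRingCat.of Ω) ⟶ Spec (CommRingCat.of E) := a.left
    have : QuasiCompact a' := inferInstance
    exact this
  have h6 : EffectiveEpi a.left := inferInstance
  refine ⟨EffectiveEpi.desc a.left u fun {Z} g₁ g₂ h => ?_, EffectiveEpi.fac _ _ _⟩
  have h7 := congrArg (fun w => pullback.lift g₁ g₂ h ≫ w) huv
  rwa [← Category.assoc, ← Category.assoc, pullback.lift_fst, pullback.lift_snd] at h7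

end fields

section curve

variable {k : Type u} [Field k] {X : Scheme.{u}} (f : X ⟶ Spec (CommRingCat.of k))
  [IsProper f] [Smooth f] [GeometricallyConnected f] [SmoothOfRelativeDimension 1 f]

omit [IsProper f] [Smooth f] [GeometricallyConnected f] [SmoothOfRelativeDimension 1 f] in
theorem comp_comp {T T' T'' : Over (Spec (CommRingCat.of k))} (x : Pt f T) (g : T' ⟶ T) (h : T'' ⟶ T') :
    (x.comp g).comp h = x.comp (h ≫ g) := Subtype.ext (by simp)

omit [IsProper f] [Smooth f] [GeometricallyConnected f] [SmoothOfRelativeDimension 1 f] in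
theorem comp_id {T : Over (Spec (CommRingCat.of k))} (x : Pt f T) : x.comp (𝟙 T) = x := Subtype.ext (by simp)

theorem three_le {E Ω : Type u} [Field E] [Field Ω] [IsAlgClosed E] {s : Spec (CommRingCat.of E) ⟶ Spec (CommRingCat.of k)}
    {t : Spec (CommRingCat.of Ω) ⟶ Spec (CommRingCat.of k)} (a : Over.mk t ⟶ Over.mk s)
    (Z : Multiset (Pt f (Over.mk s))) (x y : Pt f (Over.mk t)) (hx : ∀ x' : Pt f (Over.mk s), x'.comp a ≠ x)
    (hy : ∀ y' : Pt f (Over.mk s), y'.comp a ≠ y) (h1 : hK f t 0 (cl f (Z.map fun z => z.comp a)) ≤ 1)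
    (h2 : 2 ≤ hK f t 0 (cl f (x ::ₘ y ::ₘ Z.map fun z => z.comp a))) :
    3 ≤ hK f t 0 (cl f (x ::ₘ y ::ₘ x ::ₘ y ::ₘ Z.map fun z => z.comp a)) := by
  obtain ⟨T, p₁, p₂, δ, hT, hp, hδ₁, hδ₂, hdesc⟩ := exists_double a
  let η := genericPoint T.left
  let r : Spec (CommRingCat.of (T.left.residueField η)) ⟶ Spec (CommRingCat.of k) := fsr T.left η ≫ T.hom
  let g : Over.mk r ⟶ T := ofHom T (fsr T.left η)
  let C : Multiset (Pt f T) := x.comp p₁ ::ₘ y.comp p₁ ::ₘ x.comp p₂ ::ₘ y.comp p₂ ::ₘ Z.map fun z => z.comp (p₁ ≫ a)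
  have hp' : (g ≫ p₁) ≫ a = (g ≫ p₂) ≫ a := by rw [Category.assoc, Category.assoc, hp]
  have hne : ∀ u v : Pt f (Over.mk t), (∀ v' : Pt f (Over.mk s), v'.comp a ≠ v) → u.comp (g ≫ p₁) ≠ v.comp (g ≫ p₂) := by
    intro u v hv huv
    have e1 : fsr T.left η ≫ (p₁.left ≫ u.1) = fsr T.left η ≫ (p₂.left ≫ v.1) := by
      have := congrArg Subtype.val huv
      exact (Category.assoc _ _ _).symm.trans (this.trans (Category.assoc _ _ _))
    have hdom : IsDominant (fsr T.left η) := by
      refine ⟨?_⟩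
      intro w
      have e2 : closure ({η} : Set T.left) ⊆ closure (Set.range (fsr T.left η)) :=
        closure_mono (Set.singleton_subset_iff.2 ⟨IsLocalRing.closedPoint _, fsr_apply _ _ _⟩)
      have e2' : closure ({η} : Set T.left) = Set.univ := genericPoint_closure _
      rw [e2'] at e2
      exact e2 trivial
    have e3 : p₁.left ≫ u.1 = p₂.left ≫ v.1 := by
      refine ext_of_isDominant_of_isSeparated f ?_ (fsr T.left η) e1
      rw [Category.assoc, Category.assoc, u.2, v.2]
      exact (Over.w p₁).trans (Over.w p₂).symm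
    obtain ⟨v', hv'⟩ := hdesc u.1 v.1 e3
    have e4 : v' ≫ f = s := by
      refine K914.Semi.cancel_field a.left ?_
      rw [← Category.assoc, hv', v.2]
      exact (Over.w a).symm
    exact hv ⟨v', e4⟩ (Subtype.ext hv')
  -- the value at the generic point
  let Zr : Multiset (Pt f (Over.mk r)) := (Z.map fun z => z.comp a).map fun z => z.comp (g ≫ p₁)
  have hZr : Zr = (Z.map fun z => z.comp a).map fun z => z.comp (g ≫ p₂) := by
    change Multiset.map _ (Multiset.map _ _) = _
    rw [Multiset.map_map, Multiset.map_map]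
    refine Multiset.map_congr rfl fun z _ => ?_
    change (z.comp a).comp (g ≫ p₁) = (z.comp a).comp (g ≫ p₂)
    rw [comp_comp, comp_comp, hp']
  have k1 : hK f r 0 (cl f Zr) ≤ 1 := by
    rw [← pull_cl, hK_pull]
    exact h1
  have k2 : 2 ≤ hK f r 0 (cl f Zr * cl f {x.comp (g ≫ p₁), y.comp (g ≫ p₁)}) := by
    rw [← hK_pull f (g ≫ p₁), pull_cl, Multiset.map_cons, Multiset.map_cons] at h2
    convert h2 using 2
    rw [← cl_add, add_comm, Multiset.insert_eq_cons, Multiset.cons_add, Multiset.singleton_add]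
  have k3 : 2 ≤ hK f r 0 (cl f Zr * cl f {x.comp (g ≫ p₂), y.comp (g ≫ p₂)}) := by
    rw [← hK_pull f (g ≫ p₂), pull_cl, Multiset.map_cons, Multiset.map_cons, ← hZr] at h2
    convert h2 using 2
    rw [← cl_add, add_comm, Multiset.insert_eq_cons, Multiset.cons_add, Multiset.singleton_add]
  have k4 := submod_cl f r (cl f Zr) {x.comp (g ≫ p₁), y.comp (g ≫ p₁)} {x.comp (g ≫ p₂), y.comp (g ≫ p₂)} (by
    intro u hu hu'
    simp only [Multiset.insert_eq_cons, Multiset.mem_cons, Multiset.mem_singleton] at hu hu'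
    rcases hu with rfl | rfl <;> rcases hu' with h | h
    · exact hne x x hx h
    · exact hne x y hy h
    · exact hne y x hx h
    · exact hne y y hy h)
  have k5 : hAt f T 0 (cl f C) η = hK f r 0 (cl f Zr * cl f {x.comp (g ≫ p₁), y.comp (g ≫ p₁)} *
      cl f {x.comp (g ≫ p₂), y.comp (g ≫ p₂)}) := by
    change hK f r 0 (pull (PicF.XTmap f g) (cl f C)) = _
    rw [pull_cl]
    congr 1
    rw [← cl_add, ← cl_add]
    congr 1
    simp only [C, Multiset.map_cons, Multiset.map_map, comp_comp, Zr, Multiset.insert_eq_cons, Function.comp_def,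
      Category.assoc]
    simp only [← Multiset.singleton_add]
    abel
  have k6 : hK f t 0 (cl f (x ::ₘ y ::ₘ x ::ₘ y ::ₘ Z.map fun z => z.comp a)) =
      hAt f T 0 (cl f C) (δ.left (IsLocalRing.closedPoint Ω)) := by
    rw [← hK_eq_hAt T δ 0 (cl f C) _ rfl, pull_cl]
    congr 2
    simp only [C, Multiset.map_cons, Multiset.map_map, comp_comp, Function.comp_def]
    simp only [← Category.assoc, hδ₁, hδ₂, comp_id, Category.id_comp]
  rw [k6]
  have k7 := hAt_le_of_specializes T 0 (cl f C) (genericPoint_specializes (δ.left (IsLocalRing.closedPoint Ω)))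
  rw [k5] at k7
  omega

end curve

end K914.Spread
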