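import Groth.Agent.Jac.K914.Martens

/-!
# The strict inequality for non-hyperelliptic curves

* `trdeg_add_one_le`: `trdeg(κ(z)/κ(j z)) + 1 ≤ h⁰(D_z)`.
* `trdeg_le_of_Dn`: the transcendence degree of `κ(z)` is a lower bound for fields of definition.
* `strict_ineq`.
-/

set_option autoImplicit false
universe u
open CategoryTheory CategoryTheory.Limits AlgebraicGeometry Opposite TopologicalSpace

namespace K914.Strict

open Groth.Agent Groth.Agent.Grpsch Groth.Agent.Grpsch.PicGrp Groth.Agent.Fga.RigGrp Groth.Agent.Fga.JacSum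
open Groth.Agent.Fga.JacAlg Groth.Agent.Picfga.ChiDef Groth.Agent.Fga.JacSurj Groth.Agent.Picfga.SecGraph
open Groth.Agent.Sga4h.GeoDim
open K914.Curve K914.Cls K914.Points K914.HField K914.PtDrop K914.Chain K914.Semi K914.Dv K914.Cliff K914.Sc
open K914.Spread K914.Tors K914.Martens

section one

variable {k : Type u} [Field k] {X : Scheme.{u}} {f : X ⟶ Spec (CommRingCat.of k)}
  [IsProper f] [Smooth f] [GeometricallyConnected f] [SmoothOfRelativeDimension 1 f]
  {d : ℕ} {Y : Scheme.{u}} {q : SymProd.fibPow f d ⟶ Y} {gY : Y ⟶ Spec (CommRingCat.of k)}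
  (hq : q ≫ gY = WidePullback.base fun _ : Fin d => f) {J : Over (Spec (CommRingCat.of k))}
  {ψ : (ModFun.PicDeg f d).Hom ⊤ J} {j : Over.mk gY ⟶ J} (hj : Jac.IsAbelMapSym q gY hq ψ j)
  {ξ : Pic (PicF.XT f J)}
  (hξ2 : ∀ (T : Over (Spec (CommRingCat.of k))) (c : Pic (PicF.XT f T)) (hc : IsDeg f d c),
      ∃ m : Pic T.left, c = pull (PicF.XTmap f (psiCl ψ c hc)) ξ * pull (PicF.XTproj f T) m)

include hj hξ2 in
theorem trdeg_add_one_le {Ω : Type u} [Field Ω] {t : Spec (CommRingCat.of Ω) ⟶ Spec (CommRingCat.of k)}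
    (x : Fin d → Pt f (Over.mk t)) (z : SymProd.fibPow f d)
    (hzt : (ptsHom x).left (IsLocalRing.closedPoint Ω : PrimeSpectrum Ω) = z) :
    trdegAt (q ≫ j.left) z + 1 ≤ (hK f t 0 (∏ i, (gcl f (x i))⁻¹) : Cardinal.{u}) := by
  let zt : Over.mk t ⟶ Jac.powOver f d := ptsHom x
  let pt : Spec (CommRingCat.of Ω) := IsLocalRing.closedPoint Ω
  let Q : Jac.powOver f d ⟶ Over.mk gY := Over.homMk q hq
  have hab : zt ≫ Q ≫ j = _ := abel_eq isCurve_base hj x
  -- the point of `J`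
  let y : J.left := (q ≫ j.left) z
  obtain ⟨φ, hφ⟩ := exists_fsr (zt ≫ Q ≫ j).left y (by
    change (zt.left ≫ q ≫ j.left) pt = _
    rw [Scheme.Hom.comp_apply]
    exact congrArg _ hzt)
  let sy : Spec (CommRingCat.of (J.left.residueField y)) ⟶ Spec (CommRingCat.of k) := fsr J.left y ≫ J.hom
  let yt : Over.mk sy ⟶ J := ofHom J (fsr J.left y)
  let a : Over.mk t ⟶ Over.mk sy := Over.homMk (Spec.map φ) (by
    change Spec.map φ ≫ fsr J.left y ≫ J.hom = t
    rw [← Category.assoc, hφ]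
    exact Over.w (zt ≫ Q ≫ j))
  have ha : a ≫ yt = zt ≫ Q ≫ j := Over.OverMorphism.ext hφ
  let c : Pic (PicF.XT f (Over.mk sy)) := pull (PicF.XTmap f yt) ξ
  have hc : pull (PicF.XTmap f a) c = ∏ i, (gcl f (x i))⁻¹ := by
    obtain ⟨m, hm⟩ := hξ2 (Over.mk t) _ (isDeg_sum isCurve_base x)
    have hm1 : m = 1 := pic_spec_local Ω m
    rw [hm, hm1, map_one, mul_one, ← hab, ← ha, XTmap_comp, pull_comp]
  have hpos : 0 < hK f t 0 (pull (PicF.XTmap f a) c * ∏ i, gcl f (x i)) := by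
    rw [hc, Finset.prod_inv_distrib, inv_mul_cancel, hK_zero_one]
    exact Nat.one_pos
  obtain ⟨E, hE, s', b, a', hab', x', hx', m, hm, hle⟩ := exists_chain f d a c x hpos
  rw [hc, Finset.prod_inv_distrib, inv_mul_cancel, hK_zero_one] at hle
  have hch : hK f sy 0 c = hK f t 0 (∏ i, (gcl f (x i))⁻¹) := by
    rw [← hc, hK_pull]
  have hpt : (ptsHom x').left (a'.left pt) = z := left_apply _ _ zt (comp_ptsHom' x' a' x hx') pt z hzt
  have h1 : (ptsHom x').left ≫ q ≫ j.left = b.left ≫ fsr J.left y := by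
    apply cancel_field a'.left
    have h2 : a' ≫ ptsHom x' ≫ Q ≫ j = a' ≫ b ≫ yt := by
      rw [← Category.assoc, comp_ptsHom, ← Category.assoc a', hab', ha]
      have h3 : (fun i => (x' i).comp a') = x := funext hx'
      rw [h3]
    exact congrArg (fun u => u.left) h2
  have h2 := trdegAt_comp (ptsHom x').left (q ≫ j.left) (a'.left pt)
  rw [h1, trdegAt_comp, trdegAt_fsr, zero_add, hm, hpt] at h2
  have h3 : trdegAt (q ≫ j.left) z ≤ m := by
    rw [h2]
    exact le_self_add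
  rw [← hch]
  calc trdegAt (q ≫ j.left) z + 1 ≤ (m : Cardinal.{u}) + 1 := add_le_add_left h3 1
    _ ≤ _ := by exact_mod_cast hle

omit [IsProper f] [Smooth f] [GeometricallyConnected f] [SmoothOfRelativeDimension 1 f] in
theorem trdeg_le_of_Dn {Ω : Type u} [Field Ω] {t : Spec (CommRingCat.of Ω) ⟶ Spec (CommRingCat.of k)}
    (x : Fin d → Pt f (Over.mk t)) (z : SymProd.fibPow f d)
    (hzt : (ptsHom x).left (IsLocalRing.closedPoint Ω : PrimeSpectrum Ω) = z) {n : ℕ}
    (h : Dn f t (Multiset.ofList (List.ofFn x)) n) :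
    trdegAt (WidePullback.base fun _ : Fin d => f) z ≤ n := by
  obtain ⟨E, hE, s', a', hpt, htr⟩ := h
  have h1 : ∀ i, ∃ x' : Pt f (Over.mk s'), x'.comp a' = x i := fun i => hpt _ (by
    rw [Multiset.mem_coe, List.mem_ofFn]
    exact ⟨i, rfl⟩)
  choose x' hx' using h1
  let pt : Spec (CommRingCat.of Ω) := IsLocalRing.closedPoint Ω
  have hpt : (ptsHom x').left (a'.left pt) = z := left_apply _ _ _ (comp_ptsHom' x' a' x hx') pt z hzt
  have h2 := trdegAt_comp (ptsHom x').left (WidePullback.base fun _ : Fin d => f) (a'.left pt)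
  have h3 : (ptsHom x').left ≫ (WidePullback.base fun _ : Fin d => f) = s' := Over.w (ptsHom x')
  rw [h3, htr, hpt] at h2
  rw [h2]
  exact le_self_add

include hj hξ2 in
/-- The strict inequality on a non-hyperelliptic curve. -/
theorem strict_ineq [IsAlgClosed k] {σ : Spec (CommRingCat.of k) ⟶ X} (hσ : σ ≫ f = 𝟙 (Spec (CommRingCat.of k)))
    (hnh : ∀ x y : Pt f (Over.mk (𝟙 (Spec (CommRingCat.of k)))),
      hK f (𝟙 (Spec (CommRingCat.of k))) 0 ((gcl f x)⁻¹ * (gcl f y)⁻¹) ≤ 1)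
    (hd : (d : ℤ) + chiK f (𝟙 (Spec (CommRingCat.of k))) 1 ≤ 0) (hqs : Function.Surjective q) (w : Y)
    (hw : 1 ≤ trdegAt j.left w) :
    trdegAt J.hom (j.left w) + 2 * trdegAt j.left w + 1 ≤ d := by
  obtain ⟨z, rfl⟩ := hqs w
  let B : SymProd.fibPow f d ⟶ Spec (CommRingCat.of k) := WidePullback.base fun _ : Fin d => f
  let Ω := AlgebraicClosure ((SymProd.fibPow f d).residueField z)
  let e : Spec (CommRingCat.of Ω) ⟶ Spec (CommRingCat.of ((SymProd.fibPow f d).residueField z)) :=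
    Spec.map (CommRingCat.ofHom (algebraMap ((SymProd.fibPow f d).residueField z) Ω))
  let t : Spec (CommRingCat.of Ω) ⟶ Spec (CommRingCat.of k) := (e ≫ fsr _ z) ≫ B
  let zt : Over.mk t ⟶ Jac.powOver f d := ofHom (Jac.powOver f d) (e ≫ fsr _ z)
  let x : Fin d → Pt f (Over.mk t) := fun i => (powPt f d i).comp zt
  have hx : ptsHom x = zt := ptsHom_powPt_comp zt
  have hzt : (ptsHom x).left (IsLocalRing.closedPoint Ω : PrimeSpectrum Ω) = z := by
    rw [hx]
    exact (Scheme.Hom.comp_apply e (fsr _ z) _).trans (fsr_apply _ _ _)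
  have h1 := trdeg_add_one_le hq hj hξ2 x z hzt
  have hfin := Pow.locallyOfFiniteType_base f d
  obtain ⟨N, hN⟩ := exists_nat_trdegAt (WidePullback.base fun _ : Fin d => f) z
  have h3 : (WidePullback.base fun _ : Fin d => f) = (q ≫ j.left) ≫ J.hom := by
    have := Over.w j
    rw [Category.assoc, this, ← hq]
    rfl
  have h4 := trdegAt_comp (q ≫ j.left) J.hom z
  have h5 := trdegAt_comp q j.left z
  rw [← h3, hN] at h4
  have h6 : trdegAt (q ≫ j.left) z ≤ N := by
    rw [h4]; exact le_add_self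
  obtain ⟨N1, hN1⟩ := Cardinal.lt_aleph0.1 (h6.trans_lt Cardinal.natCast_lt_aleph0)
  have h7 : trdegAt J.hom ((q ≫ j.left) z) ≤ N := by
    rw [h4]; exact le_self_add
  obtain ⟨N2, hN2⟩ := Cardinal.lt_aleph0.1 (h7.trans_lt Cardinal.natCast_lt_aleph0)
  have h8 : trdegAt j.left (q z) ≤ N1 := by
    rw [← hN1, h5]; exact le_self_add
  obtain ⟨N3, hN3⟩ := Cardinal.lt_aleph0.1 (h8.trans_lt Cardinal.natCast_lt_aleph0)
  rw [hN1, hN2] at h4
  rw [hN1] at h1
  rw [hN3] at h8 hw ⊢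
  have h9 : trdegAt J.hom (j.left (q z)) = N2 := by rw [← hN2, Scheme.Hom.comp_apply]
  rw [h9]
  have e1 : N = N2 + N1 := by exact_mod_cast h4
  have e2 : N1 + 1 ≤ hK f t 0 (∏ i, (gcl f (x i))⁻¹) := by exact_mod_cast h1
  have e4 : N3 ≤ N1 := by exact_mod_cast h8
  have e6 : 1 ≤ N3 := by exact_mod_cast hw
  have e5 : N2 + 2 * N3 + 1 ≤ d := by
    by_contra hlt
    refine not_ext hσ hnh (Multiset.ofList (List.ofFn x)) ⟨?_, fun n hn => ?_, ?_⟩
    · rw [cl_ofFn]
      omega
    · have e7 := trdeg_le_of_Dn x z hzt hn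
      rw [hN] at e7
      have e8 : N ≤ n := by exact_mod_cast e7
      rw [cl_ofFn, Multiset.coe_card, List.length_ofFn]
      omega
    · have h7 := chiK_pull f (Over.homMk t (Category.comp_id _) : Over.mk t ⟶ Over.mk (𝟙 (Spec (CommRingCat.of k)))) 1
      rw [map_one] at h7
      rw [h7, Multiset.coe_card, List.length_ofFn]
      exact hd
  exact_mod_cast e5

end one

section base

variable (k : Type u) [Field k] (X : Scheme.{u}) [X.Over (Spec (CommRingCat.of k))]
  [IsProper (X ↘ Spec (CommRingCat.of k))] [Smooth (X ↘ Spec (CommRingCat.of k))]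
  [GeometricallyConnected (X ↘ Spec (CommRingCat.of k))] [SmoothOfRelativeDimension 1 (X ↘ Spec (CommRingCat.of k))]

omit [Smooth (X ↘ Spec (CommRingCat.of k))] [GeometricallyConnected (X ↘ Spec (CommRingCat.of k))] in
theorem exists_module (hdim : topologicalKrullDim ↥X = 1)
    (c : Pic (PicF.XT (X ↘ Spec (CommRingCat.of k)) (Over.mk (𝟙 (Spec (CommRingCat.of k)))))) :
    ∃ (L : X.Modules), PicF.IsInvertible L ∧
      Curv2.deg k X L 1 = dK (X ↘ Spec (CommRingCat.of k)) (𝟙 (Spec (CommRingCat.of k))) c ∧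
      ∀ i, Module.finrank k (Coh.HH X L i) = hK (X ↘ Spec (CommRingCat.of k)) (𝟙 (Spec (CommRingCat.of k))) i c := by
  let f := X ↘ Spec (CommRingCat.of k)
  let p : PicF.XT f (Over.mk (𝟙 (Spec (CommRingCat.of k)))) ⟶ X := pullback.fst f (𝟙 (Spec (CommRingCat.of k)))
  have hp : IsIso p := inferInstanceAs (IsIso (pullback.fst f (𝟙 (Spec (CommRingCat.of k)))))
  obtain ⟨L, hL, hLc⟩ := exists_mk (pull (inv p) c)
  have hc : pull p (mk L hL) = c := by
    rw [← hLc, ← pull_comp, IsIso.hom_inv_id, pull_id]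
  have h1 : CompactSpace X := (quasiCompact_iff_compactSpace (X ↘ Spec (CommRingCat.of k))).1 inferInstance
  have h2 : QuasiSeparatedSpace X :=
    (quasiSeparated_iff_quasiSeparatedSpace (X ↘ Spec (CommRingCat.of k))).1 inferInstance
  refine ⟨L, hL, ?_, fun i => ?_⟩
  · have h3 := chiK_fst k X (𝟙 (Spec (CommRingCat.of k))) L hL
    have h4 := chiK_fst k X (𝟙 (Spec (CommRingCat.of k))) (Coh.structureModule X) Fdesc.LocGen.isInvertible_structureModule
    rw [← one_def, map_one] at h4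
    have h5 : chiK f (𝟙 _) c = FGA.eulerCharLE k X L 1 := by rw [← hc]; exact h3
    rw [dK, h5, h4, ← K532.CurvePic.deg_mk k X hdim hL]
    exact Etcore.DegZero.dg_mk k X hL
  · rw [← hc]
    let _ := overK f (𝟙 (Spec (CommRingCat.of k)))
    exact (finrank_iso k (asIso p) (by
      change p ≫ f = pullback.snd f (𝟙 _)
      rw [pullback.condition, Category.comp_id]) L (Ega2.QCohLocal.isQCoh_of_isInvertible hL) _ (Iso.refl _) i).symm

end base

end K914.Strict
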