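import Groth.Agent.Jac.K914.AbelImm
import Groth.Agent.Jac.K914.GenPos

/-!
# The universal divisor on the symmetric power of a curve

* `isAF`: finite sets of points of a curve lie in affine open subschemes.
* `exists_univ`: the symmetric power carries a universal divisor, whose class pulls back to the sum of the graphs.
-/

set_option autoImplicit false
universe u
open CategoryTheory CategoryTheory.Limits AlgebraicGeometry Opposite TopologicalSpace

namespace K914.SymUniv

open Groth.Agent Groth.Agent.Grpsch Groth.Agent.Grpsch.PicGrp Groth.Agent.Fga.RigGrp Groth.Agent.Fga.JacSum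
open Groth.Agent.Fga.JacAlg Groth.Agent.Picfga.ChiDef Groth.Agent.Fga.JacSurj
open Groth.Agent.Fga.JacFactor Groth.Agent.Dix.IdealModCartier Groth.Agent.Picfga.OverRep
open K914.Curve K914.Cls K914.Points K914.HField K914.Sc K914.EtPic K914.HUniq K914.AbelImm

variable {k : Type u} [Field k] {X : Scheme.{u}} {f : X ⟶ Spec (CommRingCat.of k)}

theorem isAF [IsProper f] (hdim : topologicalKrullDim X ≤ 1) : SymProd.IsAF f := by
  obtain ⟨L, hL⟩ := CalgB.ProjField.exists_isAmple_of_dim_le_one f hdim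
  have h1 : CompactSpace X := (quasiCompact_iff_compactSpace f).1 inferInstance
  have h2 : X.IsSeparated := by
    rw [Scheme.isSeparated_iff, ← terminal.comp_from f]
    infer_instance
  intro s T _
  exact Pic13.H932.AFProj.isAF_of_isAmple hL T

variable [IsProper f] [Smooth f] [GeometricallyConnected f] [SmoothOfRelativeDimension 1 f]

/-- The universal divisor on the symmetric power. -/
theorem exists_univ {n : ℕ} {Y : Scheme.{u}} {q : SymProd.fibPow f n ⟶ Y} {gY : Y ⟶ Spec (CommRingCat.of k)}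
    (hq : SymProd.IsSymProd f n q gY) :
    ∃ Z : HilbD.Obj f n (Over.mk gY), HilbD.IsUniversal f n (Over.mk gY) Z ∧
      pull (PicF.XTmap f (Over.homMk q hq.over : Jac.powOver f n ⟶ Over.mk gY)) (ucl Z) =
        ∏ i, (gcl f (powPt f n i))⁻¹ ∧ Epi q ∧ Surjective q ∧ IsProper gY := by
  have hint := isIntegral f
  have hAF := isAF (f := f) (curve_dim f).le
  obtain ⟨Z, hZ, hpull, hdeg⟩ := K992.CurveSym.exists_data f hAF n q gY hq
  obtain ⟨h1, h2⟩ := dcl_prod (fun i : Fin n => HilbD.secGraph f (Jac.powOver f n) (powPt f n i).1 (powPt f n i).2)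
    (fun i => isEff_secGraph f (powPt f n i))
  have h3 := pull_ucl Z (Over.homMk q hq.over : Jac.powOver f n ⟶ Over.mk gY) _ h1 hpull
  have hs := Picfga.HilbZero.surjective_of_isFinLocFreeOfDeg q (Nat.factorial_pos n) hdeg
  have hf : Flat q := hdeg.1.2.1
  refine ⟨Z, hZ, ?_, Flat.epi_of_flat_of_surjective q, hs, (K992.CurveSym.isProper_and_smooth f hAF n q gY hq).1⟩
  rw [← h3, h2, Finset.prod_inv_distrib]
  rfl

/-- The values of `h⁰` of the universal class. -/
theorem hAt_ucl {n : ℕ} {Y : Scheme.{u}} {q : SymProd.fibPow f n ⟶ Y} {gY : Y ⟶ Spec (CommRingCat.of k)}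
    (hq : SymProd.IsSymProd f n q gY) {c : Pic (PicF.XT f (Over.mk gY))}
    (hc : pull (PicF.XTmap f (Over.homMk q hq.over : Jac.powOver f n ⟶ Over.mk gY)) c = ∏ i, (gcl f (powPt f n i))⁻¹)
    {K : Type u} [Field K] (t : Spec (CommRingCat.of K) ⟶ Spec (CommRingCat.of k)) (x : Fin n → Pt f (Over.mk t))
    (i : ℕ) (y : Y) (hy : (ptsHom x ≫ (Over.homMk q hq.over : Jac.powOver f n ⟶ Over.mk gY)).left
      (IsLocalRing.closedPoint K) = y) :
    hAt f (Over.mk gY) i c y = hK f t i (∏ i, (gcl f (x i))⁻¹) := by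
  rw [← hK_eq_hAt (Over.mk gY) (ptsHom x ≫ (Over.homMk q hq.over : Jac.powOver f n ⟶ Over.mk gY)) i c y hy,
    XTmap_comp, pull_comp, hc, pull_graphSum]
  congr 1
  exact Finset.prod_congr rfl fun i _ => by rw [powPt_comp_ptsHom]

/-- Every point of the symmetric power comes from points of the curve over a field. -/
theorem exists_pts {n : ℕ} {Y : Scheme.{u}} {q : SymProd.fibPow f n ⟶ Y} {gY : Y ⟶ Spec (CommRingCat.of k)}
    (hq : SymProd.IsSymProd f n q gY) (hs : Surjective q) (y : Y) :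
    ∃ (K : Type u) (_ : Field K) (t : Spec (CommRingCat.of K) ⟶ Spec (CommRingCat.of k))
      (x : Fin n → Pt f (Over.mk t)), (ptsHom x ≫ (Over.homMk q hq.over : Jac.powOver f n ⟶ Over.mk gY)).left
      (IsLocalRing.closedPoint K) = y := by
  obtain ⟨z, rfl⟩ := hs.1 y
  let z' : (Jac.powOver f n).left := z
  let g := ofHom (Jac.powOver f n) (fsr (Jac.powOver f n).left z')
  refine ⟨_, inferInstance, fsr (Jac.powOver f n).left z' ≫ (Jac.powOver f n).hom,
    fun i => (powPt f n i).comp g, ?_⟩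
  rw [ptsHom_powPt_comp]
  exact congrArg q (fsr_apply (Jac.powOver f n).left z' _)

theorem hAt_pos {n : ℕ} {Y : Scheme.{u}} {q : SymProd.fibPow f n ⟶ Y} {gY : Y ⟶ Spec (CommRingCat.of k)}
    (hq : SymProd.IsSymProd f n q gY) (hs : Surjective q) {c : Pic (PicF.XT f (Over.mk gY))}
    (hc : pull (PicF.XTmap f (Over.homMk q hq.over : Jac.powOver f n ⟶ Over.mk gY)) c = ∏ i, (gcl f (powPt f n i))⁻¹)
    (y : Y) : 0 < hAt f (Over.mk gY) 0 c y := by
  obtain ⟨K, _, t, x, hx⟩ := exists_pts hq hs y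
  rw [hAt_ucl hq hc t x 0 y hx, ← Dv.cl_ofFn]
  exact Cliff.hK_cl_pos f t _

end K914.SymUniv
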