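import Groth.Agent.ZCorr.K952.BlowPt

/-!
# Zero cycles and morphisms with rational generic fibres

* `main`: `π_* : CH_0(X') → CH_0(X)` is bijective for `π` proper over an algebraically closed field if every
  point `ξ` of `X` lifts to a point of `X'` with the same residue field and the closed points of the closed fibres are
  rationally equivalent.
-/

set_option autoImplicit false

universe u

open AlgebraicGeometry CategoryTheory CategoryTheory.Limits TopologicalSpace

namespace K914.ZeroPush

open Groth.Agent Groth.Agent.CycA.MovRatZ K952.Basic K952.Pts K952.BlowPt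

variable {X X' : Scheme.{u}} {K : Type u} [Field K]

theorem dm_eq (π : X' ⟶ X) (q : X ⟶ Spec (CommRingCat.of K)) [LocallyOfFiniteType q] [LocallyOfFiniteType π]
    {a : X'} (ha : Function.Surjective (π.residueFieldMap a).hom) : dm (π ≫ q) a = dm q (π a) := by
  rw [dm_comp_eq]
  have h1 : CycB.RelDim.rtd π a = 0 := by
    let := (π.residueFieldMap a).hom.toAlgebra
    have halg : Algebra.IsAlgebraic (X.residueField (π a)) (X'.residueField a) := by
      constructor
      intro y
      obtain ⟨z, rfl⟩ := ha y
      exact isAlgebraic_algebraMap z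
    exact trdeg_eq_zero
  rw [h1, map_zero, add_zero]

variable [IsAlgClosed K] (π : X' ⟶ X) (q : X ⟶ Spec (CommRingCat.of K)) [IsProper π] [IsProper q]
  (hl : ∀ ξ : X, ∃ a : X', π a = ξ ∧ Function.Surjective (π.residueFieldMap a).hom)

include hl in
/-- Zero cycles rationally equivalent to zero lift. -/
theorem exists_lift {φ : X → ℤ} (h : φ ∈ RZ q) : ∃ φ' ∈ RZ (π ≫ q), push π φ' = φ := by
  have hcX : CompactSpace X := QuasiCompact.compactSpace_of_compactSpace q
  have hcX' : CompactSpace X' := QuasiCompact.compactSpace_of_compactSpace π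
  have hX := isSetup_dm (π ≫ q)
  have hY := isSetup_dm q
  have hNY : IsLocallyNoetherian X := hY.1
  induction h using AddSubgroup.closure_induction with
  | mem φ hφ =>
    obtain ⟨ξ, g, hξ, hg, rfl⟩ := hφ
    have hξ1 : dm q ξ = 1 := by
      have h1 : ((dm q ξ : ℕ) : ℤ) = 0 + 1 := hξ
      omega
    obtain ⟨a, rfl, ha⟩ := hl ξ
    have hg' : (π.residueFieldMap a).hom g ≠ 0 := (map_ne_zero _).2 hg
    have hd := dm_eq π q ha
    have h1 : Cyc.divFun (fun x => (dm (π ≫ q) x : ℤ)) a ((π.residueFieldMap a).hom g) ∈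
        RZ (π ≫ q) := by
      refine divFun_mem_ratZ ?_ hg'
      rw [hd, hξ1]
      norm_num
    refine ⟨_, h1, ?_⟩
    funext y
    have h2 := CycB.PushLocal.finsum_divFun_of_eq hX.2.2 hY.2.2 π (deltaCompat_dm_comp π q) a
      ((π.residueFieldMap a).hom g) hg' (by rw [hd]) y
    have h3 : Cyc.normGen π a ((π.residueFieldMap a).hom g) = g := by
      let _ := (π.residueFieldMap a).hom.toAlgebra
      have hb : Function.Bijective (algebraMap (X.residueField (π a)) (X'.residueField a)) :=
        ⟨(algebraMap (X.residueField (π a)) (X'.residueField a)).injective, ha⟩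
      have h4 : Module.finrank (X.residueField (π a)) (X'.residueField a) = 1 := by
        have e : X.residueField (π a) ≃ₗ[X.residueField (π a)] X'.residueField a :=
          LinearEquiv.ofBijective (Algebra.linearMap _ _) hb
        rw [← e.finrank_eq, Module.finrank_self]
      change Algebra.norm (X.residueField (π a))
        (algebraMap (X.residueField (π a)) (X'.residueField a) g) = g
      rw [Algebra.norm_algebraMap, h4, pow_one]
    rw [h3] at h2
    rw [← h2]
    refine finsum_mem_congr rfl fun b _ => ?_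
    by_cases hb : Cyc.divFun (fun x => (dm (π ≫ q) x : ℤ)) a ((π.residueFieldMap a).hom g) b = 0
    · rw [hb, zero_mul]
    · rw [mapCoeff_eq_one π q b (dm_eq_zero_of_mem_RZ h1 b hb)]
      simp
  | zero => exact ⟨0, zero_mem _, push_zero π⟩
  | add a b _ _ ha hb =>
    obtain ⟨a', ha', rfl⟩ := ha
    obtain ⟨b', hb', rfl⟩ := hb
    exact ⟨a' + b', add_mem ha' hb', push_add π (finite_support_of_mem ha')
      (finite_support_of_mem hb')⟩
  | neg a _ ha =>
    obtain ⟨a', ha', rfl⟩ := ha
    exact ⟨-a', neg_mem ha', push_neg π a'⟩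

/-- A zero cycle with zero push-forward is rationally trivial if the closed points of the fibres are equivalent. -/
theorem mem_of_push_zero {p : X' ⟶ Spec (CommRingCat.of K)} (hE : ∀ a b : X', π a = π b → IsClosed ({a} : Set X') →
    IsClosed ({b} : Set X') → PtEq p a b) {ψ : X' → ℤ} (hψ : (Function.support ψ).Finite)
    (hc : ∀ a, ψ a ≠ 0 → IsClosed ({a} : Set X')) (h : push π ψ = 0) : ψ ∈ RZ p := by
  classical
  let S : Finset X := (hψ.toFinset).image π
  have h1 : ψ = ∑ y ∈ S, Set.indicator {a : X' | π a = y} ψ := by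
    funext a
    rw [Finset.sum_apply]
    by_cases ha : ψ a = 0
    · rw [ha]
      symm
      refine Finset.sum_eq_zero fun y _ => ?_
      by_cases hy : a ∈ {a : X' | π a = y}
      · rw [Set.indicator_of_mem hy, ha]
      · rw [Set.indicator_of_notMem hy]
    · rw [Finset.sum_eq_single (π a)]
      · rw [Set.indicator_of_mem (show a ∈ {a' : X' | π a' = π a} from rfl)]
      · intro y _ hy
        exact Set.indicator_of_notMem (s := {a' : X' | π a' = y}) (fun h => hy (Eq.symm h)) ψ
      · intro hS
        exact absurd (Finset.mem_image.2 ⟨a, (Set.Finite.mem_toFinset hψ).2 ha, rfl⟩) hS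
  rw [h1]
  refine sum_mem fun y _ => ?_
  have hne : ∀ a, Set.indicator {a : X' | π a = y} ψ a ≠ 0 → π a = y ∧ ψ a ≠ 0 := by
    intro a ha
    by_cases hy : a ∈ {a : X' | π a = y}
    · rw [Set.indicator_of_mem hy] at ha
      exact ⟨hy, ha⟩
    · rw [Set.indicator_of_notMem hy] at ha
      exact absurd rfl ha
  refine mem_of_finsum_eq_zero (hψ.subset fun a ha => (hne a ha).2) (fun a b ha hb => ?_) ?_
  · exact hE a b ((hne a ha).1.trans (hne b hb).1.symm) (hc a (hne a ha).2) (hc b (hne b hb).2)
  · have h2 := congrFun h y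
    unfold push at h2
    rw [finsum_mem_def] at h2
    exact h2

include hl in
/-- Injectivity of the pushforward of zero cycles. -/
theorem mem_of_push_mem (hE : ∀ a b : X', π a = π b → IsClosed ({a} : Set X') →
    IsClosed ({b} : Set X') → PtEq (π ≫ q) a b) {φ : X' → ℤ} (hφ : (Function.support φ).Finite)
    (hφ0 : ∀ a, φ a ≠ 0 → dm (π ≫ q) a = 0) (h : push π φ ∈ RZ q) : φ ∈ RZ (π ≫ q) := by
  have hcX : CompactSpace X := QuasiCompact.compactSpace_of_compactSpace q
  have hcX' : CompactSpace X' := QuasiCompact.compactSpace_of_compactSpace π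
  obtain ⟨φ', h1, h2⟩ := exists_lift π q hl h
  have hf' := finite_support_of_mem h1
  have h3 : push π (φ + -φ') = 0 := by
    rw [push_add π hφ (by rw [Function.support_neg]; exact hf'), push_neg, h2, add_neg_cancel]
  have hfψ : (Function.support (φ + -φ')).Finite :=
    (hφ.union (by rw [Function.support_neg]; exact hf')).subset (Function.support_add _ _)
  have h5 : ∀ a, (φ + -φ') a ≠ 0 → IsClosed ({a} : Set X') := by
    intro a ha
    rw [← dm_eq_zero_iff_isClosed (π ≫ q)]
    by_cases ha' : φ a = 0
    · refine dm_eq_zero_of_mem_RZ h1 a fun h0 => ha ?_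
      rw [Pi.add_apply, Pi.neg_apply, ha', h0]
      rfl
    · exact hφ0 a ha'
  have h7 := add_mem (mem_of_push_zero π hE hfψ h5 h3) h1
  rwa [neg_add_cancel_right] at h7

include hl in
/-- **Main theorem**. -/
theorem main (hE : ∀ a b : X', π a = π b → IsClosed ({a} : Set X') → IsClosed ({b} : Set X') → PtEq (π ≫ q) a b)
    {δ : X → ℤ} (hδ : Cyc.DeltaCompat q δ (fun _ => 0))
    {δ' : X' → ℤ} (hδ' : Cyc.DeltaCompat (π ≫ q) δ' (fun _ => 0)) :
    (∀ z : AlgebraicCycle X' ℤ, z ∈ Cyc.Zk X' δ' 0 →
        Cyc.RatEquivZero δ 0 (AlgebraicCycle.map π δ' δ z) → Cyc.RatEquivZero δ' 0 z) ∧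
      ∀ α : AlgebraicCycle X ℤ, α ∈ Cyc.Zk X δ 0 →
        ∃ z : AlgebraicCycle X' ℤ, z ∈ Cyc.Zk X' δ' 0 ∧ AlgebraicCycle.map π δ' δ z = α := by
  classical
  have hcX : CompactSpace X := QuasiCompact.compactSpace_of_compactSpace q
  have hcX' : CompactSpace X' := QuasiCompact.compactSpace_of_compactSpace π
  obtain rfl : δ = fun x => (dm q x : ℤ) := funext (delta_eq_dm hδ)
  obtain rfl : δ' = fun x => (dm (π ≫ q) x : ℤ) := funext (delta_eq_dm hδ')
  have hX := isSetup_dm (π ≫ q)
  have hN' : IsLocallyNoetherian X' := hX.1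
  have hmap : ∀ z : AlgebraicCycle X' ℤ, (∀ a, z a ≠ 0 → dm (π ≫ q) a = 0) →
      ⇑(AlgebraicCycle.map π (fun x => (dm (π ≫ q) x : ℤ)) (fun x => (dm q x : ℤ)) z) =
        push π z := fun z hz => funext fun y => map_apply_zero π q z hz y
  constructor
  · intro z hz h
    have hz0 : ∀ a, z a ≠ 0 → dm (π ≫ q) a = 0 := fun a ha => by
      by_contra hne
      exact ha (hz a fun e => hne (Nat.cast_eq_zero.1 e))
    have h1 := mem_ratZ_of_ratEquivZero h
    rw [hmap z hz0] at h1
    exact ratEquivZero_of_mem_ratZ hX.2.2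
      (mem_of_push_mem π q hl hE (finite_support z) hz0 h1)
  · intro α hα
    -- lifts of closed points
    have hJ : JacobsonSpace X' := LocallyOfFiniteType.jacobsonSpace (π ≫ q)
    have hlift : ∀ y : X, ∃ a : X', IsClosed ({y} : Set X) → (π a = y ∧ dm (π ≫ q) a = 0) := by
      intro y
      obtain ⟨b, hb, -⟩ := hl y
      by_cases hy : IsClosed ({y} : Set X)
      · obtain ⟨a, ha, ha'⟩ := nonempty_inter_closedPoints (Z := π ⁻¹' {y}) ⟨b, hb⟩
          (hy.preimage π.continuous).isLocallyClosed
        exact ⟨a, fun _ => ⟨ha, (dm_eq_zero_iff_isClosed _ a).2 ha'⟩⟩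
      · exact ⟨b, fun h => absurd h hy⟩
    choose s hs using hlift
    have hfin : (Function.support ⇑α).Finite := finite_support α
    have hαc : ∀ y, α y ≠ 0 → IsClosed ({y} : Set X) := fun y hy => by
      rw [← dm_eq_zero_iff_isClosed q]
      by_contra hne
      exact hy (hα y fun e => hne (Nat.cast_eq_zero.1 e))
    let φ : X' → ℤ := fun a => if s (π a) = a then α (π a) else 0
    have hφ : (Function.support φ).Finite := by
      refine (hfin.image s).subset fun a ha => ?_
      have h1 : s (π a) = a := by
        by_contra h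
        exact ha (if_neg h)
      refine ⟨π a, fun h0 => ha ?_, h1⟩
      change (if s (π a) = a then α (π a) else 0) = 0
      rw [if_pos h1, h0]
    obtain ⟨z, hz⟩ := exists_cycle_of_finite_support hφ
    have hz0 : ∀ a, z a ≠ 0 → dm (π ≫ q) a = 0 := by
      intro a ha
      rw [hz] at ha
      have h1 : s (π a) = a := by
        by_contra h
        exact ha (if_neg h)
      have h2 : α (π a) ≠ 0 := by
        intro h0
        apply ha
        change (if s (π a) = a then α (π a) else 0) = 0
        rw [if_pos h1, h0]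
      rw [← h1]
      exact (hs (π a) (hαc _ h2)).2
    refine ⟨z, fun a ha => ?_, ?_⟩
    · by_contra hne
      exact ha (Nat.cast_eq_zero.2 (hz0 a hne))
    · ext y
      rw [congrFun (hmap z hz0) y, hz]
      unfold push
      rw [finsum_mem_def, finsum_eq_single _ (s y)]
      · by_cases hy : α y = 0
        · rw [hy]
          by_cases h2 : π (s y) = y
          · rw [Set.indicator_of_mem (show s y ∈ {a : X' | π a = y} from h2)]
            change (if s (π (s y)) = s y then α (π (s y)) else 0) = 0
            rw [h2, if_pos rfl, hy]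
          · rw [Set.indicator_of_notMem (show s y ∉ {a : X' | π a = y} from h2)]
        · have h2 := (hs y (hαc y hy)).1
          rw [Set.indicator_of_mem (show s y ∈ {a : X' | π a = y} from h2)]
          change (if s (π (s y)) = s y then α (π (s y)) else 0) = α y
          rw [h2, if_pos rfl]
      · intro b hb
        by_cases h2 : π b = y
        · rw [Set.indicator_of_mem (show b ∈ {a : X' | π a = y} from h2)]
          change (if s (π b) = b then α (π b) else 0) = 0
          rw [h2, if_neg (fun e => hb e.symm)]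
        · rw [Set.indicator_of_notMem (show b ∉ {a : X' | π a = y} from h2)]

end K914.ZeroPush
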